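import Mathlib
import Cfsg.Prelude.Def_OddOrderLocal
import Cfsg.Prelude.Def_HallClasses
import Cfsg.Agent.S0581
import Cfsg.Agent.S0071
import Cfsg.Agent.Helper21.NilCoprime

set_option autoImplicit false

namespace Cfsg.Agent.Helper9

open scoped Pointwise

theorem mem_of_prime_pow_parts9 {G : Type*} [Group G] (D : Subgroup G) :
    ∀ n : ℕ, ∀ g : G, orderOf g = n → 0 < n →
      (∀ m r k : ℕ, r.Prime → orderOf (g ^ m) = r ^ k → g ^ m ∈ D) → g ∈ D := by
  intro n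
  induction n using Nat.strong_induction_on with
  | _ n ih =>
    intro g hg hpos hD
    by_cases h1 : n = 1
    · rw [h1, orderOf_eq_one_iff] at hg
      rw [hg]; exact D.one_mem
    · obtain ⟨r, hr, hrn⟩ := Nat.exists_prime_and_dvd h1
      obtain ⟨e, b, hrb, hnb⟩ := Nat.exists_eq_pow_mul_and_not_dvd hpos.ne' r hr.ne_one
      have hb0 : b ≠ 0 := by
        rintro rfl
        exact hrb (dvd_zero r)
      have he0 : e ≠ 0 := by
        rintro rfl
        rw [pow_zero, one_mul] at hnb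
        exact hrb (hnb ▸ hrn)
      have hre2 : 2 ≤ r ^ e := by
        calc 2 ≤ r := hr.two_le
          _ = r ^ 1 := (pow_one r).symm
          _ ≤ r ^ e := Nat.pow_le_pow_right hr.pos (Nat.one_le_iff_ne_zero.mpr he0)
      have hre0 : r ^ e ≠ 0 := by omega
      have hblt : b < n := by
        rw [hnb]
        nlinarith [Nat.pos_of_ne_zero hb0, hre2]
      have hcop : Nat.Coprime (r ^ e) b :=
        Nat.Coprime.pow_left e ((Nat.Prime.coprime_iff_not_dvd hr).mpr hrb)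
      have hordB : orderOf (g ^ b) = r ^ e := by
        rw [orderOf_pow_of_dvd hb0 (by rw [hg, hnb]; exact dvd_mul_left b _), hg, hnb]
        exact Nat.mul_div_cancel _ (Nat.pos_of_ne_zero hb0)
      have hordA : orderOf (g ^ (r ^ e)) = b := by
        rw [orderOf_pow_of_dvd hre0 (by rw [hg, hnb]; exact dvd_mul_right _ b), hg, hnb]
        exact Nat.mul_div_cancel_left _ (Nat.pos_of_ne_zero hre0)
      have hB : g ^ b ∈ D := hD b r e hr hordB
      have hA : g ^ (r ^ e) ∈ D := by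
        refine ih b hblt (g ^ (r ^ e)) hordA (Nat.pos_of_ne_zero hb0) ?_
        intro m r' k hr' hord
        rw [← pow_mul] at hord ⊢
        exact hD (r ^ e * m) r' k hr' hord
      have hbez := Nat.gcd_eq_gcd_ab (r ^ e) b
      rw [Nat.Coprime.gcd_eq_one hcop] at hbez
      have hg1 : g = (g ^ (r ^ e)) ^ (Nat.gcdA (r ^ e) b) * (g ^ b) ^ (Nat.gcdB (r ^ e) b) := by
        rw [← zpow_natCast g (r ^ e), ← zpow_natCast g b, ← zpow_mul, ← zpow_mul, ← zpow_add,
          ← hbez]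
        simp
      rw [hg1]
      exact D.mul_mem (D.zpow_mem hA _) (D.zpow_mem hB _)

theorem mem_normalizer_of_conj_mem9 {G : Type*} [Group G] [Finite G] (A : Subgroup G) (g : G)
    (h : ∀ a ∈ A, g * a * g⁻¹ ∈ A) : g ∈ Subgroup.normalizer (A : Set G) := by
  have hpow : ∀ m : ℕ, ∀ a ∈ A, g ^ m * a * (g ^ m)⁻¹ ∈ A := by
    intro m
    induction m with
    | zero => intro a ha; simpa using ha
    | succ m ih =>
      intro a ha
      have h1 := h _ (ih a ha)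
      have h2 : g ^ (m + 1) * a * (g ^ (m + 1))⁻¹ = g * (g ^ m * a * (g ^ m)⁻¹) * g⁻¹ := by
        simp only [pow_succ', mul_inv_rev, mul_assoc]
      rw [h2]; exact h1
  have hinv : g⁻¹ = g ^ (orderOf g - 1) := by
    have hpos : 0 < orderOf g := orderOf_pos g
    have h1 : g ^ (orderOf g - 1) * g = 1 := by
      rw [← pow_succ, Nat.sub_add_cancel hpos, pow_orderOf_eq_one]
    exact (eq_inv_of_mul_eq_one_left h1).symm
  rw [Subgroup.mem_normalizer_iff]
  intro a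
  constructor
  · exact h a
  · intro ha
    have h1 := hpow (orderOf g - 1) _ ha
    rw [← hinv] at h1
    have h2 : g⁻¹ * (g * a * g⁻¹) * g⁻¹⁻¹ = a := by group
    rw [h2] at h1
    exact h1

theorem orderOf_dvd_card_of_mem9 {G : Type*} [Group G] {A : Subgroup G} {x : G} (hx : x ∈ A) :
    orderOf x ∣ Nat.card A := by
  have h := orderOf_dvd_natCard (⟨x, hx⟩ : A)
  rwa [Subgroup.orderOf_mk] at h

theorem prime_eq_of_dvd_card_pgroup9 {G : Type*} [Group G] [Finite G] {p ℓ : ℕ} (hp : p.Prime)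
    (hG : IsPGroup p G) (hℓ : ℓ.Prime) (h : ℓ ∣ Nat.card G) : ℓ = p := by
  haveI : Fact p.Prime := ⟨hp⟩
  obtain ⟨n, hn⟩ := IsPGroup.iff_card.mp hG
  rw [hn] at h
  exact (Nat.prime_dvd_prime_iff_eq hℓ hp).mp (hℓ.dvd_of_dvd_pow h)

theorem prime_dvd_card_of_not_dvd_index9 {G : Type*} [Group G] (A : Subgroup G) (ℓ : ℕ)
    (hℓ : ℓ.Prime) (hG : ℓ ∣ Nat.card G) (hidx : ¬ ℓ ∣ A.index) : ℓ ∣ Nat.card A := by
  rw [← A.card_mul_index] at hG
  exact ((Nat.Prime.dvd_mul hℓ).mp hG).resolve_right hidx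

theorem le_normalizer_of_commute9 {G : Type*} [Group G] (A B : Subgroup G)
    (hcomm : ∀ a ∈ A, ∀ b ∈ B, a * b = b * a) : B ≤ Subgroup.normalizer (A : Set G) := by
  intro b hb
  rw [Subgroup.mem_normalizer_iff]
  intro a
  constructor
  · intro ha
    have h1 : b * a * b⁻¹ = a := by rw [← hcomm a ha b hb, mul_inv_cancel_right]
    rw [h1]; exact ha
  · intro ha
    have h1 := hcomm _ ha b hb
    have h2 : a = b * a * b⁻¹ := by
      have h3 : b * a = b * (b * a * b⁻¹) := by rw [← h1]; group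
      exact mul_left_cancel h3
    rw [h2]; exact ha

theorem card_sup_dvd_normal_dpi9 {G : Type*} [Group G] (A B : Subgroup G) [B.Normal] :
    Nat.card ↥(A ⊔ B) ∣ Nat.card A * Nat.card B := by
  have h1 : (⊥ : Subgroup G).relIndex B * B.relIndex (A ⊔ B) = (⊥ : Subgroup G).relIndex (A ⊔ B) :=
    Subgroup.relIndex_mul_relIndex _ _ _ bot_le le_sup_right
  rw [Subgroup.relIndex_bot_left, Subgroup.relIndex_bot_left, Subgroup.relIndex_sup_right] at h1
  rw [← h1, mul_comm]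
  exact Nat.mul_dvd_mul (Subgroup.relIndex_dvd_card B A) dvd_rfl

theorem card_sup_dvd_of_le_normalizer9 {G : Type*} [Group G] [Finite G] (X Y : Subgroup G)
    (h : Y ≤ Subgroup.normalizer (X : Set G)) :
    Nat.card ↥(X ⊔ Y) ∣ Nat.card X * Nat.card Y := by
  obtain ⟨N, hN⟩ : ∃ N : Subgroup G, N = Subgroup.normalizer (X : Set G) := ⟨_, rfl⟩
  have hXN : X ≤ N := by rw [hN]; exact Subgroup.le_normalizer
  have hYN : Y ≤ N := by rw [hN]; exact h
  haveI : (X.subgroupOf N).Normal :=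
    (Subgroup.normal_subgroupOf_iff_le_normalizer hXN).mpr (by rw [hN])
  have h1 := card_sup_dvd_normal_dpi9 (Y.subgroupOf N) (X.subgroupOf N)
  rw [← Subgroup.subgroupOf_sup hYN hXN] at h1
  have c1 : ∀ A : Subgroup G, A ≤ N → Nat.card (A.subgroupOf N) = Nat.card A := fun A hA =>
    Nat.card_congr (Subgroup.subgroupOfEquivOfLe hA).toEquiv
  rw [c1 _ (sup_le hYN hXN), c1 _ hYN, c1 _ hXN] at h1
  rw [sup_comm, mul_comm]; exact h1

theorem relIndex_sup_dvd_card9 {G : Type*} [Group G] [Finite G] (A B : Subgroup G)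
    (h : B ≤ Subgroup.normalizer (A : Set G)) : A.relIndex (A ⊔ B) ∣ Nat.card B := by
  have h1 : (⊥ : Subgroup G).relIndex A * A.relIndex (A ⊔ B) = (⊥ : Subgroup G).relIndex (A ⊔ B) :=
    Subgroup.relIndex_mul_relIndex _ _ _ bot_le le_sup_left
  rw [Subgroup.relIndex_bot_left, Subgroup.relIndex_bot_left] at h1
  have h2 := card_sup_dvd_of_le_normalizer9 A B h
  rw [← h1] at h2
  exact Nat.dvd_of_mul_dvd_mul_left Nat.card_pos h2

theorem isNilpotent_sup_of_commute9 {G : Type*} [Group G] (A B : Subgroup G)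
    (hA : Group.IsNilpotent A) (hB : Group.IsNilpotent B)
    (hcomm : ∀ a ∈ A, ∀ b ∈ B, a * b = b * a) : Group.IsNilpotent ↥(A ⊔ B) := by
  haveI := hA
  haveI := hB
  have hc : ∀ (a : A) (b : B), Commute (A.subtype a) (B.subtype b) :=
    fun a b => hcomm a a.2 b b.2
  have hrange : (MonoidHom.noncommCoprod A.subtype B.subtype hc).range = A ⊔ B := by
    rw [MonoidHom.noncommCoprod_range, Subgroup.range_subtype, Subgroup.range_subtype]
  have h1 : Group.IsNilpotent ↥(MonoidHom.noncommCoprod A.subtype B.subtype hc).range :=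
    Group.nilpotent_of_surjective _ (MonoidHom.rangeRestrict_surjective _)
  rw [hrange] at h1
  exact h1

theorem le_of_coprime_relIndex9 {G : Type*} [Group G] [Finite G] (T N X : Subgroup G)
    (hTN : T ≤ N) (hN : N ≤ Subgroup.normalizer (T : Set G)) (hXN : X ≤ N)
    (hcop : (Nat.card X).Coprime (T.relIndex N)) : X ≤ T := by
  haveI : (T.subgroupOf N).Normal := (Subgroup.normal_subgroupOf_iff_le_normalizer hTN).mpr hN
  intro x hx
  have h1 : orderOf (QuotientGroup.mk' (T.subgroupOf N) ⟨x, hXN hx⟩) ∣ Nat.card X := by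
    have h2 : orderOf (QuotientGroup.mk' (T.subgroupOf N) ⟨x, hXN hx⟩) ∣
        orderOf (⟨x, hXN hx⟩ : N) := orderOf_map_dvd _ _
    rw [Subgroup.orderOf_mk] at h2
    exact h2.trans (orderOf_dvd_card_of_mem9 hx)
  have h4 : orderOf (QuotientGroup.mk' (T.subgroupOf N) ⟨x, hXN hx⟩) ∣ T.relIndex N := by
    have h3 := orderOf_dvd_natCard (QuotientGroup.mk' (T.subgroupOf N) ⟨x, hXN hx⟩)
    rw [← Subgroup.index_eq_card] at h3
    exact h3
  have h5 : orderOf (QuotientGroup.mk' (T.subgroupOf N) ⟨x, hXN hx⟩) = 1 := by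
    have h := Nat.dvd_gcd h1 h4
    rw [Nat.Coprime.gcd_eq_one hcop] at h
    exact Nat.dvd_one.mp h
  rw [orderOf_eq_one_iff] at h5
  have h6 : (⟨x, hXN hx⟩ : N) ∈ T.subgroupOf N := (QuotientGroup.eq_one_iff _).mp h5
  exact Subgroup.mem_subgroupOf.mp h6

theorem card_map_conj9 {G : Type*} [Group G] (A : Subgroup G) (g : G) :
    Nat.card ↥(A.map (MulAut.conj g).toMonoidHom) = Nat.card A :=
  Subgroup.card_map_of_injective (MulAut.conj g).injective

theorem index_map_conj9 {G : Type*} [Group G] [Finite G] (A : Subgroup G) (g : G) :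
    (A.map (MulAut.conj g).toMonoidHom).index = A.index := by
  have h1 := (A.map (MulAut.conj g).toMonoidHom).card_mul_index
  have h2 := A.card_mul_index
  rw [card_map_conj9, ← h2] at h1
  exact Nat.eq_of_mul_eq_mul_left Nat.card_pos h1

theorem map_conj_map_conj9 {G : Type*} [Group G] (A : Subgroup G) (x y : G) :
    (A.map (MulAut.conj y).toMonoidHom).map (MulAut.conj x).toMonoidHom =
      A.map (MulAut.conj (x * y)).toMonoidHom := by
  rw [Subgroup.map_map]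
  congr 1
  ext z
  simp [mul_assoc]

theorem maximal_of_hall9 {G : Type*} [Group G] [Finite G] (π : Set ℕ) (H : Subgroup G)
    (hH : Cfsg.IsPiHall π H) : Maximal (Cfsg.IsPiSubgroup π) H := by
  refine ⟨hH.1, ?_⟩
  intro M hM hHM
  have h1 : H.relIndex M = 1 := by
    rw [Nat.eq_one_iff_not_exists_prime_dvd]
    intro r hr hrd
    have h2 : r ∈ π := hM r hr (hrd.trans (Subgroup.relIndex_dvd_card H M))
    have h3 : H.relIndex M * M.index = H.index := Subgroup.relIndex_mul_index hHM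
    exact hH.2 r hr h2 (by rw [← h3]; exact Dvd.dvd.mul_right hrd _)
  exact Subgroup.relIndex_eq_one.mp h1

/-- Lemma W: a `σ`-prime-power subgroup and a `π`-prime-power subgroup for a different prime
commute elementwise as soon as their join has order dividing the product of the orders. -/
theorem sigma_commute9 {G : Type*} [Group G] [Finite G] (σ τ : Set ℕ) (hd : Disjoint σ τ)
    (Hs Ht : Subgroup G) (hs : Cfsg.IsPiSubgroup σ Hs) (ht : Cfsg.IsPiSubgroup τ Ht)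
    (hsn : Group.IsNilpotent Hs) (hcomm : ∀ a ∈ Hs, ∀ b ∈ Ht, a * b = b * a)
    (hsH : ∀ ℓ : ℕ, ℓ.Prime → ℓ ∈ σ → ¬ ℓ ∣ Hs.index)
    (htH : ∀ ℓ : ℕ, ℓ.Prime → ℓ ∈ τ → ¬ ℓ ∣ Ht.index)
    (a b : ℕ) (ha : a.Prime) (hb : b.Prime) (haσ : a ∈ σ) (hbπ : b ∈ σ ∪ τ) (hab : a ≠ b)
    (X Y : Subgroup G) (hX : IsPGroup a X) (hY : IsPGroup b Y)
    (hXY : Nat.card ↥(X ⊔ Y) ∣ Nat.card X * Nat.card Y) :
    ∀ x ∈ X, ∀ y ∈ Y, x * y = y * x := by
  haveI : Fact b.Prime := ⟨hb⟩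
  haveI : Fact a.Prime := ⟨ha⟩
  obtain ⟨P⟩ : Nonempty (Sylow b Ht) := inferInstance
  obtain ⟨R, hR⟩ : ∃ R : Subgroup G, R = (P : Subgroup Ht).map Ht.subtype := ⟨_, rfl⟩
  have hRle : R ≤ Ht := by rw [hR]; exact Subgroup.map_subtype_le _
  have hRp : IsPGroup b R := by rw [hR]; exact P.2.map _
  have hRidx : R.index = (P : Subgroup Ht).index * Ht.index := by
    rw [hR]; exact Subgroup.index_map_subtype _
  have hRcard : Nat.card R = Nat.card (P : Subgroup Ht) := by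
    rw [hR]; exact Subgroup.card_map_of_injective (Subgroup.subtype_injective _)
  have hcommR : ∀ u ∈ Hs, ∀ v ∈ R, u * v = v * u := fun u hu v hv => hcomm u hu v (hRle hv)
  have hnilR : Group.IsNilpotent R := hRp.isNilpotent
  have hnil : Group.IsNilpotent ↥(Hs ⊔ R) := isNilpotent_sup_of_commute9 Hs R hsn hnilR hcommR
  have hcardH' : Nat.card ↥(Hs ⊔ R) ∣ Nat.card Hs * Nat.card R :=
    card_sup_dvd_of_le_normalizer9 Hs R (le_normalizer_of_commute9 Hs R hcommR)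
  have hHall : (Nat.card ↥(Hs ⊔ R)).Coprime (Hs ⊔ R).index := by
    refine Nat.coprime_of_dvd (fun ℓ hℓ h1 h2 => ?_)
    have h3 : ℓ ∣ Nat.card Hs * Nat.card R := h1.trans hcardH'
    rcases (Nat.Prime.dvd_mul hℓ).mp h3 with h4 | h4
    · exact hsH ℓ hℓ (hs ℓ hℓ h4) (h2.trans (Subgroup.index_dvd_of_le le_sup_left))
    · have hℓb : ℓ = b := prime_eq_of_dvd_card_pgroup9 hb hRp hℓ h4
      rw [hℓb] at h4 h2
      have hbτ : b ∈ τ := ht b hb (h4.trans (Subgroup.card_dvd_of_le hRle))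
      have h5 : b ∣ R.index := h2.trans (Subgroup.index_dvd_of_le le_sup_right)
      rw [hRidx] at h5
      rcases (Nat.Prime.dvd_mul hb).mp h5 with h6 | h6
      · exact P.not_dvd_index h6
      · exact htH b hb hbτ h6
  have hK : ∀ ℓ : ℕ, ℓ.Prime → ℓ ∣ Nat.card ↥(X ⊔ Y) → ℓ ∣ Nat.card ↥(Hs ⊔ R) := by
    intro ℓ hℓ h1
    have hG : ℓ ∣ Nat.card G := h1.trans (Subgroup.card_subgroup_dvd_card _)
    rcases (Nat.Prime.dvd_mul hℓ).mp (h1.trans hXY) with h2 | h2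
    · have hℓa : ℓ = a := prime_eq_of_dvd_card_pgroup9 ha hX hℓ h2
      rw [hℓa] at hG ⊢
      exact (prime_dvd_card_of_not_dvd_index9 Hs a ha hG (hsH a ha haσ)).trans
        (Subgroup.card_dvd_of_le le_sup_left)
    · have hℓb : ℓ = b := prime_eq_of_dvd_card_pgroup9 hb hY hℓ h2
      rw [hℓb] at hG ⊢
      rcases hbπ with hbσ | hbτ
      · exact (prime_dvd_card_of_not_dvd_index9 Hs b hb hG (hsH b hb hbσ)).trans
          (Subgroup.card_dvd_of_le le_sup_left)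
      · have h3 : b ∣ Nat.card Ht := prime_dvd_card_of_not_dvd_index9 Ht b hb hG (htH b hb hbτ)
        have h4 : b ∣ Nat.card (P : Subgroup Ht) := P.dvd_card_of_dvd_card h3
        rw [← hRcard] at h4
        exact h4.trans (Subgroup.card_dvd_of_le le_sup_right)
  obtain ⟨g, hg⟩ := Cfsg.Agent.S0581.result (Hs ⊔ R) (X ⊔ Y) hnil hHall hK
  intro x hx y hy
  obtain ⟨x0, hx0, hxe⟩ :=
    (Subgroup.mem_smul_pointwise_iff_exists _ _ _).mp (hg (Subgroup.mem_sup_left hx))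
  obtain ⟨y0, hy0, hye⟩ :=
    (Subgroup.mem_smul_pointwise_iff_exists _ _ _).mp (hg (Subgroup.mem_sup_right hy))
  have hxe' : g * x0 * g⁻¹ = x := hxe
  have hye' : g * y0 * g⁻¹ = y := hye
  have hox : orderOf x0 = orderOf x := by
    rw [← hxe']; exact (MulEquiv.orderOf_eq (MulAut.conj g) x0).symm
  have hoy : orderOf y0 = orderOf y := by
    rw [← hye']; exact (MulEquiv.orderOf_eq (MulAut.conj g) y0).symm
  obtain ⟨n, hn⟩ := IsPGroup.iff_card.mp hX
  obtain ⟨m, hm⟩ := IsPGroup.iff_card.mp hY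
  have hcop : Nat.Coprime (orderOf x0) (orderOf y0) := by
    rw [hox, hoy]
    have h1 : orderOf x ∣ a ^ n := by rw [← hn]; exact orderOf_dvd_card_of_mem9 hx
    have h2 : orderOf y ∣ b ^ m := by rw [← hm]; exact orderOf_dvd_card_of_mem9 hy
    exact Nat.Coprime.coprime_dvd_left h1 (Nat.Coprime.coprime_dvd_right h2
      (Nat.Coprime.pow n m ((Nat.coprime_primes ha hb).mpr hab)))
  haveI := hnil
  have hcm : Commute (⟨x0, hx0⟩ : ↥(Hs ⊔ R)) ⟨y0, hy0⟩ :=
    Cfsg.Agent.Helper21.commute_of_coprime_orderOf _ _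
      (by rw [Subgroup.orderOf_mk, Subgroup.orderOf_mk]; exact hcop)
  have h0 : x0 * y0 = y0 * x0 := congrArg Subtype.val hcm.eq
  rw [← hxe', ← hye']
  calc g * x0 * g⁻¹ * (g * y0 * g⁻¹) = g * (x0 * y0) * g⁻¹ := by group
    _ = g * (y0 * x0) * g⁻¹ := by rw [h0]
    _ = g * y0 * g⁻¹ * (g * x0 * g⁻¹) := by group

theorem sigma_normalizer_centralizes9 {G : Type*} [Group G] [Finite G] (σ τ : Set ℕ)
    (hd : Disjoint σ τ)
    (Hs Ht : Subgroup G) (hs : Cfsg.IsPiSubgroup σ Hs) (ht : Cfsg.IsPiSubgroup τ Ht)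
    (hsn : Group.IsNilpotent Hs) (hcomm : ∀ a ∈ Hs, ∀ b ∈ Ht, a * b = b * a)
    (hsH : ∀ ℓ : ℕ, ℓ.Prime → ℓ ∈ σ → ¬ ℓ ∣ Hs.index)
    (htH : ∀ ℓ : ℕ, ℓ.Prime → ℓ ∈ τ → ¬ ℓ ∣ Ht.index)
    (p : ℕ) (hp : p.Prime) (hpσ : p ∈ σ) (Q : Subgroup G) (hQ : IsPGroup p Q)
    (g : G) (hg : g ∈ Subgroup.normalizer (Q : Set G))
    (hgπ : ∀ r : ℕ, r.Prime → r ∣ orderOf g → r ∈ σ ∪ τ)
    (hcop : Nat.Coprime (orderOf g) p) : g ∈ Subgroup.centralizer (Q : Set G) := by
  refine mem_of_prime_pow_parts9 (Subgroup.centralizer (Q : Set G)) (orderOf g) g rfl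
    (orderOf_pos g) ?_
  intro m r k hr hord
  rcases Nat.eq_zero_or_pos k with hk | hk
  · rw [hk, pow_zero, orderOf_eq_one_iff] at hord
    rw [hord]; exact Subgroup.one_mem _
  · have hdvd : orderOf (g ^ m) ∣ orderOf g := orderOf_pow_dvd m
    have hr1 : r ∣ orderOf g := by
      refine Dvd.dvd.trans ?_ hdvd
      rw [hord]; exact dvd_pow_self r hk.ne'
    have hrπ : r ∈ σ ∪ τ := hgπ r hr hr1
    have hrp : p ≠ r := by
      intro h
      rw [← h] at hr1
      exact hp.one_lt.ne' (Nat.Coprime.eq_one_of_dvd hcop.symm hr1)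
    have hYp : IsPGroup r (Subgroup.zpowers (g ^ m)) :=
      IsPGroup.of_card (n := k) (by rw [Nat.card_zpowers, hord])
    have hYN : Subgroup.zpowers (g ^ m) ≤ Subgroup.normalizer (Q : Set G) :=
      (Subgroup.zpowers_le).mpr (Subgroup.pow_mem _ hg m)
    have hcard := card_sup_dvd_of_le_normalizer9 Q (Subgroup.zpowers (g ^ m)) hYN
    have key := sigma_commute9 σ τ hd Hs Ht hs ht hsn hcomm hsH htH p r hp hr hpσ hrπ hrp Q
      (Subgroup.zpowers (g ^ m)) hQ hYp hcard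
    rw [Subgroup.mem_centralizer_iff]
    intro h hh
    exact key h hh (g ^ m) (Subgroup.mem_zpowers _)

theorem exists_normal_p_complement9 {G : Type*} [Group G] [Finite G] (σ τ : Set ℕ)
    (hd : Disjoint σ τ)
    (Hs Ht : Subgroup G) (hs : Cfsg.IsPiSubgroup σ Hs) (ht : Cfsg.IsPiSubgroup τ Ht)
    (hsn : Group.IsNilpotent Hs) (hcomm : ∀ a ∈ Hs, ∀ b ∈ Ht, a * b = b * a)
    (hsH : ∀ ℓ : ℕ, ℓ.Prime → ℓ ∈ σ → ¬ ℓ ∣ Hs.index)
    (htH : ∀ ℓ : ℕ, ℓ.Prime → ℓ ∈ τ → ¬ ℓ ∣ Ht.index)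
    (K : Subgroup G) (hK : Cfsg.IsPiSubgroup (σ ∪ τ) K)
    (p : ℕ) [Fact p.Prime] (hpσ : p ∈ σ) (P : Sylow p K) :
    ∃ N : Subgroup K, N.Normal ∧ N.IsComplement' (P : Subgroup K) := by
  refine (Cfsg.Agent.S0071.result P).mpr ?_
  intro Q hQP g hg hcop
  have hp : p.Prime := Fact.out
  have hQp : IsPGroup p (Q.map K.subtype) := (P.2.to_le hQP).map _
  have hg' : (g : G) ∈ Subgroup.normalizer ((Q.map K.subtype : Subgroup G) : Set G) := by
    apply mem_normalizer_of_conj_mem9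
    intro a ha
    obtain ⟨q, hq, rfl⟩ := Subgroup.mem_map.mp ha
    exact Subgroup.mem_map.mpr ⟨g * q * g⁻¹, (Subgroup.mem_normalizer_iff.mp hg q).mp hq, rfl⟩
  have hgπ : ∀ r : ℕ, r.Prime → r ∣ orderOf (g : G) → r ∈ σ ∪ τ := by
    intro r hr hrd
    apply hK r hr
    rw [Subgroup.orderOf_coe] at hrd
    exact hrd.trans (orderOf_dvd_natCard g)
  have hcop' : Nat.Coprime (orderOf (g : G)) p := by rw [Subgroup.orderOf_coe]; exact hcop
  have key := sigma_normalizer_centralizes9 σ τ hd Hs Ht hs ht hsn hcomm hsH htH p hp hpσ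
    (Q.map K.subtype) hQp (g : G) hg' hgπ hcop'
  rw [Subgroup.mem_centralizer_iff] at key ⊢
  intro h hh
  have h1 := key (h : G) (Subgroup.mem_map_of_mem K.subtype hh)
  exact Subtype.ext h1

theorem exists_normal_tau9 {G : Type*} [Group G] [Finite G] (σ τ : Set ℕ)
    (hd : Disjoint σ τ)
    (Hs Ht : Subgroup G) (hs : Cfsg.IsPiSubgroup σ Hs) (ht : Cfsg.IsPiSubgroup τ Ht)
    (hsn : Group.IsNilpotent Hs) (hcomm : ∀ a ∈ Hs, ∀ b ∈ Ht, a * b = b * a)
    (hsH : ∀ ℓ : ℕ, ℓ.Prime → ℓ ∈ σ → ¬ ℓ ∣ Hs.index)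
    (htH : ∀ ℓ : ℕ, ℓ.Prime → ℓ ∈ τ → ¬ ℓ ∣ Ht.index) :
    ∀ n : ℕ, ∀ K : Subgroup G, Nat.card K = n → Cfsg.IsPiSubgroup (σ ∪ τ) K →
      ∃ T : Subgroup G, T ≤ K ∧ K ≤ Subgroup.normalizer (T : Set G) ∧ Cfsg.IsPiSubgroup τ T ∧
        ∀ r : ℕ, r.Prime → r ∣ T.relIndex K → r ∈ σ := by
  intro n
  induction n using Nat.strong_induction_on with
  | _ n ih =>
    intro K hKn hK
    by_cases hτ : Cfsg.IsPiSubgroup τ K
    · refine ⟨K, le_rfl, Subgroup.le_normalizer, hτ, ?_⟩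
      intro r hr hrd
      rw [Subgroup.relIndex_self] at hrd
      exact absurd (Nat.dvd_one.mp hrd) hr.ne_one
    · unfold Cfsg.IsPiSubgroup at hτ
      push Not at hτ
      obtain ⟨p, hp, hpK, hpτ⟩ := hτ
      have hpσ : p ∈ σ := (hK p hp hpK).resolve_right hpτ
      haveI : Fact p.Prime := ⟨hp⟩
      obtain ⟨P⟩ : Nonempty (Sylow p K) := inferInstance
      obtain ⟨N, hNn, hNc⟩ :=
        exists_normal_p_complement9 σ τ hd Hs Ht hs ht hsn hcomm hsH htH K hK p hpσ P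
      obtain ⟨K₁, hK₁⟩ : ∃ K₁ : Subgroup G, K₁ = N.map K.subtype := ⟨_, rfl⟩
      have hK₁le : K₁ ≤ K := by rw [hK₁]; exact Subgroup.map_subtype_le N
      have hcardK₁ : Nat.card K₁ = Nat.card N := by
        rw [hK₁]; exact Subgroup.card_map_of_injective (Subgroup.subtype_injective K)
      have hmul : Nat.card N * Nat.card (P : Subgroup K) = Nat.card K := hNc.card_mul_card
      have hPcard : p ∣ Nat.card (P : Subgroup K) := P.dvd_card_of_dvd_card hpK
      have hlt : Nat.card K₁ < n := by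
        rw [← hKn, hcardK₁, ← hmul]
        have h2 : 2 ≤ Nat.card (P : Subgroup K) :=
          (hp.two_le).trans (Nat.le_of_dvd Nat.card_pos hPcard)
        have h1 : 0 < Nat.card N := Nat.card_pos
        nlinarith
      have hK₁π : Cfsg.IsPiSubgroup (σ ∪ τ) K₁ :=
        fun r hr hrd => hK r hr (hrd.trans (Subgroup.card_dvd_of_le hK₁le))
      obtain ⟨T, hTK₁, hK₁T, hTτ, hTσ⟩ := ih (Nat.card K₁) hlt K₁ rfl hK₁π
      have hK₁norm : ∀ k ∈ K, ∀ y ∈ K₁, k * y * k⁻¹ ∈ K₁ := by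
        intro k hk y hy
        rw [hK₁] at hy ⊢
        obtain ⟨y', hy', rfl⟩ := Subgroup.mem_map.mp hy
        exact Subgroup.mem_map.mpr
          ⟨⟨k, hk⟩ * y' * ⟨k, hk⟩⁻¹, hNn.conj_mem y' hy' ⟨k, hk⟩, rfl⟩
      have hKT : K ≤ Subgroup.normalizer (T : Set G) := by
        intro k hk
        apply mem_normalizer_of_conj_mem9
        intro t htT
        have hX : T.map (MulAut.conj k).toMonoidHom ≤ T := by
          apply le_of_coprime_relIndex9 T K₁ _ hTK₁ hK₁T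
          · rintro _ ⟨y, hy, rfl⟩
            exact hK₁norm k hk y (hTK₁ hy)
          · rw [card_map_conj9]
            refine Nat.coprime_of_dvd (fun r hr h1 h2 => ?_)
            exact Set.disjoint_left.mp hd (hTσ r hr h2) (hTτ r hr h1)
        exact hX (Subgroup.mem_map.mpr ⟨t, htT, rfl⟩)
      refine ⟨T, hTK₁.trans hK₁le, hKT, hTτ, ?_⟩
      intro r hr hrd
      have h1 : T.relIndex K₁ * K₁.relIndex K = T.relIndex K :=
        Subgroup.relIndex_mul_relIndex _ _ _ hTK₁ hK₁le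
      rw [← h1] at hrd
      rcases (Nat.Prime.dvd_mul hr).mp hrd with h2 | h2
      · exact hTσ r hr h2
      · have h3 : K₁.relIndex K = Nat.card (P : Subgroup K) := by
          have h4 : K₁.subgroupOf K = N := by
            rw [hK₁]
            exact Subgroup.comap_map_eq_self_of_injective (Subgroup.subtype_injective K) N
          show (K₁.subgroupOf K).index = _
          rw [h4]; exact hNc.symm.index_eq_card
        rw [h3] at h2
        have h5 : r = p := prime_eq_of_dvd_card_pgroup9 hp P.2 hr h2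
        rw [h5]; exact hpσ

theorem sigma_elt_centralizes_tau9 {G : Type*} [Group G] [Finite G] (σ τ : Set ℕ)
    (hd : Disjoint σ τ)
    (Hs Ht : Subgroup G) (hs : Cfsg.IsPiSubgroup σ Hs) (ht : Cfsg.IsPiSubgroup τ Ht)
    (hsn : Group.IsNilpotent Hs) (hcomm : ∀ a ∈ Hs, ∀ b ∈ Ht, a * b = b * a)
    (hsH : ∀ ℓ : ℕ, ℓ.Prime → ℓ ∈ σ → ¬ ℓ ∣ Hs.index)
    (htH : ∀ ℓ : ℕ, ℓ.Prime → ℓ ∈ τ → ¬ ℓ ∣ Ht.index)
    (T : Subgroup G) (hT : Cfsg.IsPiSubgroup τ T) (p : ℕ) (hp : p.Prime) (hpσ : p ∈ σ)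
    (x : G) (hx : x ∈ Subgroup.normalizer (T : Set G)) (k : ℕ) (hk : orderOf x = p ^ k) :
    ∀ t ∈ T, x * t = t * x := by
  haveI : Fact p.Prime := ⟨hp⟩
  have hpT : ¬ p ∣ Nat.card T := fun h => Set.disjoint_left.mp hd hpσ (hT p hp h)
  obtain ⟨φ, hφ⟩ : ∃ φ : MulAut T, φ = Subgroup.normalizerMonoidHom T ⟨x, hx⟩ := ⟨_, rfl⟩
  have hφapp : ∀ t : T, ((φ t : T) : G) = x * t * x⁻¹ := by
    intro t; rw [hφ]; rfl
  have hZ : IsPGroup p (Subgroup.zpowers φ) := by
    have h1 : orderOf φ ∣ p ^ k := by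
      have h2 : orderOf (Subgroup.normalizerMonoidHom T ⟨x, hx⟩) ∣
          orderOf (⟨x, hx⟩ : Subgroup.normalizer (T : Set G)) := orderOf_map_dvd _ _
      rw [Subgroup.orderOf_mk, hk, ← hφ] at h2
      exact h2
    obtain ⟨j, -, hj⟩ := (Nat.dvd_prime_pow hp).mp h1
    exact IsPGroup.of_card (n := j) (by rw [Nat.card_zpowers, hj])
  have hXp : IsPGroup p (Subgroup.zpowers x) :=
    IsPGroup.of_card (n := k) (by rw [Nat.card_zpowers, hk])
  have key : ∀ q : ℕ, q.Prime → ¬ q ∣ (T ⊓ Subgroup.centralizer {x}).relIndex T := by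
    intro q hq hdvd
    haveI : Fact q.Prime := ⟨hq⟩
    have hqT : q ∣ Nat.card T := hdvd.trans (Subgroup.relIndex_dvd_card _ _)
    have hqτ : q ∈ τ := hT q hq hqT
    have hpq : p ≠ q := fun h => Set.disjoint_left.mp hd hpσ (by rw [h]; exact hqτ)
    obtain ⟨P0⟩ : Nonempty (Sylow q T) := inferInstance
    have hcard : ¬ p ∣ Nat.card (Sylow q T) := fun h =>
      hpT (h.trans ((Sylow.card_dvd_index P0).trans (Subgroup.index_dvd_card _)))
    letI act : MulAction (Subgroup.zpowers φ) (Sylow q T) :=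
      MulAction.compHom (Sylow q T) (Subgroup.zpowers φ).subtype
    obtain ⟨Q, hQ⟩ := hZ.nonempty_fixed_point_of_prime_not_dvd_card (Sylow q T) hcard
    have hφQ : φ • Q = Q := hQ ⟨φ, Subgroup.mem_zpowers φ⟩
    have hφQ' : ∀ t : T, t ∈ (Q : Subgroup T) → φ t ∈ (Q : Subgroup T) := by
      intro t htQ
      have h1 : φ • t ∈ φ • (Q : Subgroup T) :=
        Subgroup.smul_mem_pointwise_smul t φ (Q : Subgroup T) htQ
      have h2 : φ • (Q : Subgroup T) = ((φ • Q : Sylow q T) : Subgroup T) := rfl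
      rw [h2, hφQ] at h1
      exact h1
    obtain ⟨Q', hQ'⟩ : ∃ Q' : Subgroup G, Q' = (Q : Subgroup T).map T.subtype := ⟨_, rfl⟩
    have hQ'p : IsPGroup q Q' := by rw [hQ']; exact Q.2.map _
    have hQ'T : Q' ≤ T := by rw [hQ']; exact Subgroup.map_subtype_le _
    have hxQ' : x ∈ Subgroup.normalizer (Q' : Set G) := by
      apply mem_normalizer_of_conj_mem9
      intro a ha
      rw [hQ'] at ha ⊢
      obtain ⟨t, htQ, rfl⟩ := Subgroup.mem_map.mp ha
      exact Subgroup.mem_map.mpr ⟨φ t, hφQ' t htQ, hφapp t⟩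
    have hZN : Subgroup.zpowers x ≤ Subgroup.normalizer (Q' : Set G) :=
      (Subgroup.zpowers_le).mpr hxQ'
    have hcard2 : Nat.card ↥(Subgroup.zpowers x ⊔ Q') ∣
        Nat.card (Subgroup.zpowers x) * Nat.card Q' := by
      have h1 := card_sup_dvd_of_le_normalizer9 Q' (Subgroup.zpowers x) hZN
      rwa [sup_comm, mul_comm] at h1
    have hc := sigma_commute9 σ τ hd Hs Ht hs ht hsn hcomm hsH htH p q hp hq hpσ (Or.inr hqτ) hpq
      (Subgroup.zpowers x) Q' hXp hQ'p hcard2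
    have hQle : Q' ≤ T ⊓ Subgroup.centralizer {x} := by
      intro y hy
      refine Subgroup.mem_inf.mpr ⟨hQ'T hy, ?_⟩
      rw [Subgroup.mem_centralizer_singleton_iff]
      exact (hc x (Subgroup.mem_zpowers x) y hy).symm
    have h5 : (T ⊓ Subgroup.centralizer {x}).relIndex T ∣ Q'.relIndex T :=
      Subgroup.relIndex_dvd_of_le_left T hQle
    have h6 : Q'.relIndex T = (Q : Subgroup T).index := by
      have h4 : Q'.subgroupOf T = (Q : Subgroup T) := by
        rw [hQ']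
        exact Subgroup.comap_map_eq_self_of_injective (Subgroup.subtype_injective T) _
      show (Q'.subgroupOf T).index = _
      rw [h4]
    rw [h6] at h5
    exact Q.not_dvd_index (hdvd.trans h5)
  have h7 : (T ⊓ Subgroup.centralizer {x}).relIndex T = 1 :=
    Nat.eq_one_iff_not_exists_prime_dvd.mpr key
  have h8 : T ≤ T ⊓ Subgroup.centralizer {x} := Subgroup.relIndex_eq_one.mp h7
  intro t htT
  have h9 := (Subgroup.mem_inf.mp (h8 htT)).2
  rw [Subgroup.mem_centralizer_singleton_iff] at h9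
  exact h9.symm

theorem pi_subgroup_le_conj9 {G : Type*} [Group G] [Finite G] (σ τ : Set ℕ)
    (hd : Disjoint σ τ)
    (H Hs Ht : Subgroup G) (hs : Cfsg.IsPiSubgroup σ Hs) (ht : Cfsg.IsPiSubgroup τ Ht)
    (hsn : Group.IsNilpotent Hs) (hcomm : ∀ a ∈ Hs, ∀ b ∈ Ht, a * b = b * a)
    (hsH : ∀ ℓ : ℕ, ℓ.Prime → ℓ ∈ σ → ¬ ℓ ∣ Hs.index)
    (htH : ∀ ℓ : ℕ, ℓ.Prime → ℓ ∈ τ → ¬ ℓ ∣ Ht.index)
    (hjoin : Hs ⊔ Ht = H) (hD : Cfsg.IsDPiGroup τ G)
    (K : Subgroup G) (hK : Cfsg.IsPiSubgroup (σ ∪ τ) K) :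
    ∃ g : G, K ≤ H.map (MulAut.conj g).toMonoidHom := by
  obtain ⟨T, hTK, hKT, hTτ, hTσ⟩ :=
    exists_normal_tau9 σ τ hd Hs Ht hs ht hsn hcomm hsH htH (Nat.card K) K rfl hK
  haveI hTn : (T.subgroupOf K).Normal :=
    (Subgroup.normal_subgroupOf_iff_le_normalizer hTK).mpr hKT
  have hcardT' : Nat.card (T.subgroupOf K) = Nat.card T :=
    Nat.card_congr (Subgroup.subgroupOfEquivOfLe hTK).toEquiv
  have hcopT : Nat.Coprime (Nat.card (T.subgroupOf K)) (T.subgroupOf K).index := by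
    rw [hcardT']
    refine Nat.coprime_of_dvd (fun r hr h1 h2 => ?_)
    exact Set.disjoint_left.mp hd (hTσ r hr h2) (hTτ r hr h1)
  obtain ⟨S', hS'⟩ := Subgroup.exists_right_complement'_of_coprime hcopT
  obtain ⟨S, hS⟩ : ∃ S : Subgroup G, S = S'.map K.subtype := ⟨_, rfl⟩
  have hSK : S ≤ K := by rw [hS]; exact Subgroup.map_subtype_le _
  have hcardS : Nat.card S = T.relIndex K := by
    rw [hS, Subgroup.card_map_of_injective (Subgroup.subtype_injective K)]
    exact hS'.symm.index_eq_card.symm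
  have hKsup : K ≤ T ⊔ S := by
    intro k hk
    have h1 : (⟨k, hk⟩ : K) ∈ T.subgroupOf K ⊔ S' := by
      rw [hS'.sup_eq_top]; exact Subgroup.mem_top _
    have h2 : (T.subgroupOf K ⊔ S').map K.subtype ≤ T ⊔ S := by
      rw [Subgroup.map_sup]
      refine sup_le_sup ?_ (le_of_eq hS.symm)
      rintro _ ⟨y, hy, rfl⟩
      exact Subgroup.mem_subgroupOf.mp hy
    exact h2 (Subgroup.mem_map.mpr ⟨⟨k, hk⟩, h1, rfl⟩)
  have hSC : S ≤ Subgroup.centralizer (T : Set G) := by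
    intro s hsS
    refine mem_of_prime_pow_parts9 (Subgroup.centralizer (T : Set G)) (orderOf s) s rfl
      (orderOf_pos s) ?_
    intro m r k hr hord
    rcases Nat.eq_zero_or_pos k with hk | hk
    · rw [hk, pow_zero, orderOf_eq_one_iff] at hord
      rw [hord]; exact Subgroup.one_mem _
    · have hr1 : r ∣ Nat.card S := by
        have h1 : r ∣ orderOf (s ^ m) := by rw [hord]; exact dvd_pow_self r hk.ne'
        exact h1.trans (orderOf_dvd_card_of_mem9 (Subgroup.pow_mem _ hsS m))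
      rw [hcardS] at hr1
      have hrσ : r ∈ σ := hTσ r hr hr1
      have hnorm : s ^ m ∈ Subgroup.normalizer (T : Set G) :=
        Subgroup.pow_mem _ (hKT (hSK hsS)) m
      have key := sigma_elt_centralizes_tau9 σ τ hd Hs Ht hs ht hsn hcomm hsH htH T hTτ r hr hrσ
        (s ^ m) hnorm k hord
      rw [Subgroup.mem_centralizer_iff]
      intro t htT
      exact (key t htT).symm
  have hHtmax : Maximal (Cfsg.IsPiSubgroup τ) Ht := maximal_of_hall9 τ Ht ⟨ht, htH⟩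
  obtain ⟨M, hTM, hMmax⟩ := Finite.exists_le_maximal (p := Cfsg.IsPiSubgroup τ) hTτ
  obtain ⟨g, hg⟩ := hD Ht M hHtmax hMmax
  obtain ⟨Hs', hHs'⟩ : ∃ Hs' : Subgroup G, Hs' = Hs.map (MulAut.conj g).toMonoidHom := ⟨_, rfl⟩
  obtain ⟨C, hC⟩ : ∃ C : Subgroup G, C = Subgroup.centralizer (T : Set G) := ⟨_, rfl⟩
  have hHs'C : Hs' ≤ C := by
    rw [hHs', hC]
    rintro _ ⟨a, ha, rfl⟩
    rw [Subgroup.mem_centralizer_iff]
    intro t htT
    have h1 : t ∈ Ht.map (MulAut.conj g).toMonoidHom := by rw [← hg]; exact hTM htT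
    obtain ⟨u, hu, hut⟩ := Subgroup.mem_map.mp h1
    have hut' : g * u * g⁻¹ = t := hut
    have h2 := hcomm a ha u hu
    show t * (g * a * g⁻¹) = g * a * g⁻¹ * t
    rw [← hut']
    calc g * u * g⁻¹ * (g * a * g⁻¹) = g * (u * a) * g⁻¹ := by group
      _ = g * (a * u) * g⁻¹ := by rw [h2]
      _ = g * a * g⁻¹ * (g * u * g⁻¹) := by group
  have hnilHs' : Group.IsNilpotent Hs' := by
    haveI := hsn
    rw [hHs']
    exact Group.nilpotent_of_mulEquiv (Hs.equivMapOfInjective _ (MulAut.conj g).injective)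
  have hSC' : S ≤ C := by rw [hC]; exact hSC
  have hnilA : Group.IsNilpotent ↥(Hs'.subgroupOf C) := by
    haveI := hnilHs'
    exact Group.nilpotent_of_mulEquiv (Subgroup.subgroupOfEquivOfLe hHs'C).symm
  have hcardA : Nat.card ↥(Hs'.subgroupOf C) = Nat.card Hs := by
    rw [Nat.card_congr (Subgroup.subgroupOfEquivOfLe hHs'C).toEquiv, hHs', card_map_conj9]
  have hcardB : Nat.card ↥(S.subgroupOf C) = Nat.card S :=
    Nat.card_congr (Subgroup.subgroupOfEquivOfLe hSC').toEquiv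
  have hidxA : (Hs'.subgroupOf C).index ∣ Hs.index := by
    have h1 : Hs'.relIndex C * C.index = Hs'.index := Subgroup.relIndex_mul_index hHs'C
    have h2 : Hs'.index = Hs.index := by rw [hHs', index_map_conj9]
    rw [← h2, ← h1]
    exact Dvd.intro _ rfl
  have hHallA : (Nat.card ↥(Hs'.subgroupOf C)).Coprime (Hs'.subgroupOf C).index := by
    rw [hcardA]
    refine Nat.coprime_of_dvd (fun r hr h1 h2 => ?_)
    exact hsH r hr (hs r hr h1) (h2.trans hidxA)
  have hKB : ∀ r : ℕ, r.Prime → r ∣ Nat.card ↥(S.subgroupOf C) →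
      r ∣ Nat.card ↥(Hs'.subgroupOf C) := by
    intro r hr h1
    rw [hcardB] at h1
    rw [hcardA]
    have hrσ : r ∈ σ := hTσ r hr (by rw [← hcardS]; exact h1)
    exact prime_dvd_card_of_not_dvd_index9 Hs r hr
      (h1.trans (Subgroup.card_subgroup_dvd_card S)) (hsH r hr hrσ)
  obtain ⟨c, hc⟩ := Cfsg.Agent.S0581.result (Hs'.subgroupOf C) (S.subgroupOf C) hnilA hHallA hKB
  have hcC' : (c : G) ∈ Subgroup.centralizer (T : Set G) := hC.le c.2
  rw [Subgroup.mem_centralizer_iff] at hcC'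
  refine ⟨(c : G) * g, ?_⟩
  refine hKsup.trans (sup_le ?_ ?_)
  · intro t htT
    have h1 : t ∈ Ht.map (MulAut.conj g).toMonoidHom := by rw [← hg]; exact hTM htT
    obtain ⟨u, hu, hut⟩ := Subgroup.mem_map.mp h1
    have hut' : g * u * g⁻¹ = t := hut
    refine Subgroup.mem_map.mpr ⟨u, (by rw [← hjoin]; exact Subgroup.mem_sup_right hu), ?_⟩
    show (c : G) * g * u * ((c : G) * g)⁻¹ = t
    have h2 := hcC' t htT
    calc (c : G) * g * u * ((c : G) * g)⁻¹ = (c : G) * (g * u * g⁻¹) * (c : G)⁻¹ := by group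
      _ = (c : G) * t * (c : G)⁻¹ := by rw [hut']
      _ = t := by rw [← h2, mul_inv_cancel_right]
  · intro s hsS
    have h1 : (⟨s, hSC' hsS⟩ : C) ∈ MulAut.conj c • (Hs'.subgroupOf C) :=
      hc (Subgroup.mem_subgroupOf.mpr hsS)
    obtain ⟨a, haA, hac⟩ := (Subgroup.mem_smul_pointwise_iff_exists _ _ _).mp h1
    have ha' : (a : G) ∈ Hs' := Subgroup.mem_subgroupOf.mp haA
    rw [hHs'] at ha'
    obtain ⟨v, hv, hva⟩ := Subgroup.mem_map.mp ha'
    have hva' : g * v * g⁻¹ = (a : G) := hva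
    have hac' : (c : G) * (a : G) * (c : G)⁻¹ = s := congrArg Subtype.val hac
    refine Subgroup.mem_map.mpr ⟨v, (by rw [← hjoin]; exact Subgroup.mem_sup_left hv), ?_⟩
    show (c : G) * g * v * ((c : G) * g)⁻¹ = s
    rw [← hac', ← hva']
    group

theorem dpi_of_nilpotent_factor9 {G : Type*} [Group G] [Finite G]
    (σ τ π : Set ℕ) (hπ : π = σ ∪ τ) (hd : Disjoint σ τ) (H Hs Ht : Subgroup G)
    (hH : Cfsg.IsPiHall π H)
    (hs : Cfsg.IsPiSubgroup σ Hs) (ht : Cfsg.IsPiSubgroup τ Ht) (hsn : Group.IsNilpotent Hs)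
    (hjoin : Hs ⊔ Ht = H) (hcomm : ∀ a ∈ Hs, ∀ b ∈ Ht, a * b = b * a)
    (hD : Cfsg.IsDPiGroup τ G) : Cfsg.IsDPiGroup π G := by
  subst hπ
  have hsH : ∀ ℓ : ℕ, ℓ.Prime → ℓ ∈ σ → ¬ ℓ ∣ Hs.index := by
    intro ℓ hℓ hℓσ hdvd
    have hle : Hs ≤ H := by rw [← hjoin]; exact le_sup_left
    have h1 : Hs.relIndex H * H.index = Hs.index := Subgroup.relIndex_mul_index hle
    rw [← h1] at hdvd
    rcases (Nat.Prime.dvd_mul hℓ).mp hdvd with h2 | h2
    · have h3 : Hs.relIndex (Hs ⊔ Ht) ∣ Nat.card Ht :=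
        relIndex_sup_dvd_card9 Hs Ht (le_normalizer_of_commute9 Hs Ht hcomm)
      rw [hjoin] at h3
      exact Set.disjoint_left.mp hd hℓσ (ht ℓ hℓ (h2.trans h3))
    · exact hH.2 ℓ hℓ (Or.inl hℓσ) h2
  have hcomm' : ∀ a ∈ Ht, ∀ b ∈ Hs, a * b = b * a := fun a ha b hb => (hcomm b hb a ha).symm
  have htH : ∀ ℓ : ℕ, ℓ.Prime → ℓ ∈ τ → ¬ ℓ ∣ Ht.index := by
    intro ℓ hℓ hℓτ hdvd
    have hle : Ht ≤ H := by rw [← hjoin]; exact le_sup_right
    have h1 : Ht.relIndex H * H.index = Ht.index := Subgroup.relIndex_mul_index hle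
    rw [← h1] at hdvd
    rcases (Nat.Prime.dvd_mul hℓ).mp hdvd with h2 | h2
    · have h3 : Ht.relIndex (Ht ⊔ Hs) ∣ Nat.card Hs :=
        relIndex_sup_dvd_card9 Ht Hs (le_normalizer_of_commute9 Ht Hs hcomm')
      rw [sup_comm, hjoin] at h3
      exact Set.disjoint_left.mp hd (hs ℓ hℓ (h2.trans h3)) hℓτ
    · exact hH.2 ℓ hℓ (Or.inr hℓτ) h2
  have key : ∀ A : Subgroup G, Maximal (Cfsg.IsPiSubgroup (σ ∪ τ)) A →
      ∃ a : G, A = H.map (MulAut.conj a).toMonoidHom := by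
    intro A hA
    obtain ⟨a, ha⟩ := pi_subgroup_le_conj9 σ τ hd H Hs Ht hs ht hsn hcomm hsH htH hjoin hD A hA.1
    refine ⟨a, le_antisymm ha (hA.2 ?_ ha)⟩
    intro r hr hrd
    rw [card_map_conj9] at hrd
    exact hH.1 r hr hrd
  intro A B hA hB
  obtain ⟨a, rfl⟩ := key A hA
  obtain ⟨b, rfl⟩ := key B hB
  refine ⟨b * a⁻¹, ?_⟩
  rw [map_conj_map_conj9, inv_mul_cancel_right]

end Cfsg.Agent.Helper9
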