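import Mathlib
import Cfsg.Agent.Helper9.DPi

set_option autoImplicit false

namespace Cfsg.Agent.Helper9

section Ito9

variable {G : Type*} [Group G]

theorem ito_idx_one9 (x : G) :
    (Subgroup.centralizer ({x} : Set G)).index = 1 ↔ x ∈ Subgroup.center G := by
  rw [Subgroup.index_eq_one]
  constructor
  · intro h
    rw [Subgroup.mem_center_iff]
    intro g
    have hg : g ∈ Subgroup.centralizer ({x} : Set G) := by
      rw [h]; exact Subgroup.mem_top g
    exact Subgroup.mem_centralizer_singleton_iff.mp hg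
  · intro h
    rw [eq_top_iff]
    intro g _
    exact Subgroup.mem_centralizer_singleton_iff.mpr ((Subgroup.mem_center_iff.mp h) g)

/-- orbit counting: a subgroup acting by conjugation on an invariant set with all point
stabilizers equal to `S` has all orbits of length `|P : S|`. -/
theorem orbit_dvd9 [Finite G] (P S : Subgroup G) (Y : Set G)
    (hinv : ∀ g ∈ P, ∀ y ∈ Y, g * y * g⁻¹ ∈ Y)
    (hstab : ∀ g ∈ P, ∀ y ∈ Y, (g * y * g⁻¹ = y ↔ g ∈ S)) :
    S.relIndex P ∣ Y.ncard := by
  classical
  letI act : MulAction ↥P ↥Y :=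
    { smul := fun g y => ⟨(g : G) * (y : G) * (g : G)⁻¹, hinv g g.2 y y.2⟩
      one_smul := fun y => Subtype.ext (by
        show ((1 : ↥P) : G) * (y : G) * ((1 : ↥P) : G)⁻¹ = y
        simp)
      mul_smul := fun g h y => Subtype.ext (by
        show ((g * h : ↥P) : G) * (y : G) * ((g * h : ↥P) : G)⁻¹ =
          (g : G) * ((h : G) * (y : G) * (h : G)⁻¹) * (g : G)⁻¹
        simp [mul_assoc]) }
  have hst : ∀ y : ↥Y, MulAction.stabilizer ↥P y = S.subgroupOf P := by
    intro y
    ext g
    rw [MulAction.mem_stabilizer_iff, Subgroup.mem_subgroupOf]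
    constructor
    · intro hg
      exact (hstab g g.2 y y.2).mp (congrArg Subtype.val hg)
    · intro hg
      exact Subtype.ext ((hstab g g.2 y y.2).mpr hg)
  haveI : Finite ↥Y := Subtype.finite
  haveI : Fintype (Quotient (MulAction.orbitRel ↥P ↥Y)) := Fintype.ofFinite _
  have hcard : Nat.card ↥Y = Nat.card
      (Σ ω : Quotient (MulAction.orbitRel ↥P ↥Y), ↥P ⧸ MulAction.stabilizer ↥P ω.out) :=
    Nat.card_congr (MulAction.selfEquivSigmaOrbitsQuotientStabilizer ↥P ↥Y)
  rw [Nat.card_sigma] at hcard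
  have hterm : ∀ ω : Quotient (MulAction.orbitRel ↥P ↥Y),
      Nat.card (↥P ⧸ MulAction.stabilizer ↥P ω.out) = S.relIndex P := by
    intro ω
    rw [hst]
    rfl
  rw [Finset.sum_congr rfl (fun ω _ => hterm ω), Finset.sum_const, smul_eq_mul] at hcard
  rw [← Nat.card_coe_set_eq, hcard]
  exact dvd_mul_left _ _

theorem ito_cent_eq9 [Finite G] {n : ℕ}
    (hT : ∀ x : G, x ∉ Subgroup.center G → (Subgroup.centralizer ({x} : Set G)).index = n)
    {x y : G} (hx : x ∉ Subgroup.center G) (hy : y ∉ Subgroup.center G)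
    (hle : ∀ g : G, g * x = x * g → g * y = y * g) :
    ∀ g : G, g * y = y * g → g * x = x * g := by
  have hle' : Subgroup.centralizer ({x} : Set G) ≤ Subgroup.centralizer ({y} : Set G) := by
    intro g hg
    rw [Subgroup.mem_centralizer_singleton_iff] at hg ⊢
    exact hle g hg
  have h1 := Subgroup.relIndex_mul_index hle'
  rw [hT x hx, hT y hy] at h1
  have hn : 0 < n := by
    rw [← hT x hx]; exact Nat.pos_of_ne_zero Subgroup.index_ne_zero_of_finite
  have h2 : (Subgroup.centralizer ({x} : Set G)).relIndex (Subgroup.centralizer ({y} : Set G)) = 1 := by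
    have h3 : (Subgroup.centralizer ({x} : Set G)).relIndex (Subgroup.centralizer ({y} : Set G)) * n
        = 1 * n := by
      rw [h1, one_mul]
    exact Nat.eq_of_mul_eq_mul_right hn h3
  rw [Subgroup.relIndex_eq_one] at h2
  intro g hg
  have h4 := h2 (Subgroup.mem_centralizer_singleton_iff.mpr hg)
  exact Subgroup.mem_centralizer_singleton_iff.mp h4

theorem ito_card9 [Finite G] {n : ℕ}
    (hT : ∀ x : G, x ∉ Subgroup.center G → (Subgroup.centralizer ({x} : Set G)).index = n)
    {x y : G} (hx : x ∉ Subgroup.center G) (hy : y ∉ Subgroup.center G) :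
    Nat.card (Subgroup.centralizer ({x} : Set G)) = Nat.card (Subgroup.centralizer ({y} : Set G)) := by
  have h1 := Subgroup.card_mul_index (H := Subgroup.centralizer ({x} : Set G))
  have h2 := Subgroup.card_mul_index (H := Subgroup.centralizer ({y} : Set G))
  rw [hT x hx] at h1
  rw [hT y hy] at h2
  have hn : 0 < n := by
    rw [← hT x hx]; exact Nat.pos_of_ne_zero Subgroup.index_ne_zero_of_finite
  exact Nat.eq_of_mul_eq_mul_right hn (h1.trans h2.symm)

theorem ito_coprime9 [Finite G] {n : ℕ}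
    (hT : ∀ x : G, x ∉ Subgroup.center G → (Subgroup.centralizer ({x} : Set G)).index = n)
    {x y : G} (hx : x ∉ Subgroup.center G) (hxy : x * y = y * x)
    (hcop : (orderOf x).Coprime (orderOf y)) :
    ∀ g : G, g * x = x * g → g * y = y * g := by
  obtain ⟨m, hm⟩ := exists_pow_eq_self_of_coprime (x := x) (n := orderOf y) hcop.symm
  have hcomm : Commute x y := hxy
  have hpow : ((x * y) ^ orderOf y) ^ m = x := by
    rw [hcomm.mul_pow, pow_orderOf_eq_one, mul_one]
    exact hm
  have hw : x * y ∉ Subgroup.center G := by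
    intro h
    apply hx
    rw [← hpow]
    exact Subgroup.pow_mem _ (Subgroup.pow_mem _ h _) _
  have hwx : ∀ g : G, g * (x * y) = (x * y) * g → g * x = x * g := by
    intro g hg
    have h0 : Commute g (x * y) := hg
    have h1 : Commute g (((x * y) ^ orderOf y) ^ m) := (h0.pow_right _).pow_right _
    rw [hpow] at h1
    exact h1
  have hxw := ito_cent_eq9 hT hw hx hwx
  intro g hg
  have h1 : g * (x * y) = (x * y) * g := hxw g hg
  have h2 : x * (g * y) = x * (y * g) := by
    calc x * (g * y) = (x * g) * y := by rw [mul_assoc]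
      _ = (g * x) * y := by rw [hg]
      _ = g * (x * y) := by rw [mul_assoc]
      _ = (x * y) * g := h1
      _ = x * (y * g) := by rw [mul_assoc]
  exact mul_left_cancel h2

theorem ito_primary9 [Finite G] {g : G} (hg : g ∉ Subgroup.center G) :
    ∃ m r k : ℕ, r.Prime ∧ orderOf (g ^ m) = r ^ k ∧ g ^ m ∉ Subgroup.center G := by
  by_contra hcon
  push_neg at hcon
  exact hg (mem_of_prime_pow_parts9 (Subgroup.center G) (orderOf g) g rfl (orderOf_pos g)
    (fun m r k hr hord => hcon m r k hr hord))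

theorem ito_rpart9 [Finite G] (A : Subgroup G) (hA : ∀ a ∈ A, ∀ b ∈ A, a * b = b * a)
    (r : ℕ) [Fact r.Prime] :
    ∃ X : Subgroup G, X ≤ A ∧ IsPGroup r X ∧ Nat.card X = r ^ (Nat.card A).factorization r ∧
      ∀ w ∈ A, (∃ k : ℕ, w ^ r ^ k = 1) → w ∈ X := by
  obtain ⟨R⟩ : Nonempty (Sylow r ↥A) := inferInstance
  refine ⟨(R : Subgroup ↥A).map A.subtype, Subgroup.map_subtype_le _, R.2.map _, ?_, ?_⟩
  · rw [Subgroup.card_map_of_injective (Subgroup.subtype_injective A)]
    exact R.card_eq_multiplicity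
  · intro w hw ⟨k, hk⟩
    have hcA : ∀ a b : ↥A, a * b = b * a := fun a b => Subtype.ext (hA a a.2 b b.2)
    have hw' : (⟨w, hw⟩ : ↥A) ^ r ^ k = 1 := Subtype.ext (by simpa using hk)
    have hpz : IsPGroup r (Subgroup.zpowers (⟨w, hw⟩ : ↥A)) := by
      obtain ⟨j, -, hj⟩ := (Nat.dvd_prime_pow (Fact.out : r.Prime)).1 (orderOf_dvd_of_pow_eq_one hw')
      exact IsPGroup.of_card (by rw [Nat.card_zpowers]; exact hj)
    obtain ⟨Q, hQ⟩ := hpz.exists_le_sylow
    obtain ⟨g, hg⟩ := MulAction.exists_smul_eq ↥A R Q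
    have hgR : g • R = R := by
      rw [Sylow.smul_eq_iff_mem_normalizer, Subgroup.mem_set_normalizer_iff]
      intro h
      rw [hcA g h, mul_inv_cancel_right]
    rw [hgR] at hg
    have hwR : (⟨w, hw⟩ : ↥A) ∈ (R : Subgroup ↥A) := by
      rw [hg]; exact hQ (Subgroup.mem_zpowers _)
    exact Subgroup.mem_map.mpr ⟨⟨w, hw⟩, hwR, rfl⟩

theorem ito_claimA9 [Finite G] {n : ℕ}
    (hT : ∀ x : G, x ∉ Subgroup.center G → (Subgroup.centralizer ({x} : Set G)).index = n)
    {q r : ℕ} (hq : q.Prime) (hr : r.Prime) (hqr : q ≠ r)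
    {x y : G} (hx : x ∉ Subgroup.center G) (hy : y ∉ Subgroup.center G)
    {k j : ℕ} (hxo : orderOf x = q ^ k) (hyo : orderOf y = r ^ j) :
    ∃ z : G, z ∉ Subgroup.center G ∧ (∃ i : ℕ, orderOf z = r ^ i) ∧ z * x = x * z ∧
      ∀ g : G, g * x = x * g ↔ g * z = z * g := by
  haveI : Fact r.Prime := ⟨hr⟩
  obtain ⟨R⟩ : Nonempty (Sylow r ↥(Subgroup.centralizer ({x} : Set G))) := inferInstance
  obtain ⟨R0, hR0C, hR0p, hR0card⟩ : ∃ R0 : Subgroup G, R0 ≤ Subgroup.centralizer ({x} : Set G) ∧
      IsPGroup r R0 ∧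
      Nat.card R0 = r ^ (Nat.card (Subgroup.centralizer ({x} : Set G))).factorization r :=
    ⟨(R : Subgroup ↥(Subgroup.centralizer ({x} : Set G))).map
        (Subgroup.centralizer ({x} : Set G)).subtype,
      Subgroup.map_subtype_le _, R.2.map _, by
        rw [Subgroup.card_map_of_injective (Subgroup.subtype_injective _)]
        exact R.card_eq_multiplicity⟩
  have hord : ∀ w ∈ R0, ∃ i : ℕ, orderOf w = r ^ i := by
    intro w hw
    obtain ⟨i, hi⟩ := hR0p ⟨w, hw⟩
    have hi' : w ^ r ^ i = 1 := by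
      have := congrArg Subtype.val hi
      simpa using this
    obtain ⟨i', -, hi''⟩ := (Nat.dvd_prime_pow hr).1 (orderOf_dvd_of_pow_eq_one hi')
    exact ⟨i', hi''⟩
  have key : ∀ w ∈ R0, ∀ g : G, g * x = x * g → g * w = w * g := by
    intro w hw
    obtain ⟨i, hi⟩ := hord w hw
    have hwx : w * x = x * w := Subgroup.mem_centralizer_singleton_iff.mp (hR0C hw)
    have hcop : (orderOf x).Coprime (orderOf w) := by
      rw [hxo, hi]
      exact Nat.Coprime.pow _ _ ((Nat.coprime_primes hq hr).mpr hqr)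
    exact ito_coprime9 hT hx hwx.symm hcop
  by_cases hex : ∃ w ∈ R0, w ∉ Subgroup.center G
  · obtain ⟨w, hw, hwZ⟩ := hex
    refine ⟨w, hwZ, hord w hw, Subgroup.mem_centralizer_singleton_iff.mp (hR0C hw),
      fun g => ⟨key w hw g, ?_⟩⟩
    exact ito_cent_eq9 hT hx hwZ (key w hw) g
  · exfalso
    push_neg at hex
    haveI hRn : R0.Normal := ⟨fun a ha g => by
      rw [(Subgroup.mem_center_iff.mp (hex a ha)) g, mul_inv_cancel_right]
      exact ha⟩
    have hzy : IsPGroup r (Subgroup.zpowers y) :=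
      IsPGroup.of_card (by rw [Nat.card_zpowers]; exact hyo)
    have hKp : IsPGroup r (Subgroup.zpowers y ⊔ R0 : Subgroup G) :=
      IsPGroup.to_sup_of_normal_right hzy hR0p
    have hKC : Subgroup.zpowers y ⊔ R0 ≤ Subgroup.centralizer ({y} : Set G) := by
      refine sup_le ?_ ?_
      · rw [Subgroup.zpowers_le]
        exact Subgroup.mem_centralizer_singleton_iff.mpr rfl
      · intro a ha
        exact Subgroup.mem_centralizer_singleton_iff.mpr
          ((Subgroup.mem_center_iff.mp (hex a ha)) y).symm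
    obtain ⟨e, he⟩ := IsPGroup.iff_card.mp hKp
    have hdvd : Nat.card (Subgroup.zpowers y ⊔ R0 : Subgroup G) ∣
        Nat.card (Subgroup.centralizer ({x} : Set G)) := by
      rw [ito_card9 hT hx hy]
      exact Subgroup.card_dvd_of_le hKC
    rw [he] at hdvd
    have hle : e ≤ (Nat.card (Subgroup.centralizer ({x} : Set G))).factorization r :=
      (Nat.Prime.pow_dvd_iff_le_factorization hr Nat.card_pos.ne').mp hdvd
    have hcard : Nat.card (Subgroup.zpowers y ⊔ R0 : Subgroup G) ≤ Nat.card R0 := by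
      rw [he, hR0card]
      exact Nat.pow_le_pow_right hr.pos hle
    have hEq : R0 = Subgroup.zpowers y ⊔ R0 := Subgroup.eq_of_le_of_card_ge le_sup_right hcard
    have hyK : y ∈ Subgroup.zpowers y ⊔ R0 :=
      (le_sup_left : Subgroup.zpowers y ≤ Subgroup.zpowers y ⊔ R0) (Subgroup.mem_zpowers y)
    rw [← hEq] at hyK
    exact hy (hex y hyK)

theorem ito_claimB9 [Finite G] {n : ℕ}
    (hT : ∀ x : G, x ∉ Subgroup.center G → (Subgroup.centralizer ({x} : Set G)).index = n)
    {q r : ℕ} (hq : q.Prime) (hr : r.Prime) (hqr : q ≠ r)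
    {x y : G} (hx : x ∉ Subgroup.center G) (hy : y ∉ Subgroup.center G)
    {k j : ℕ} (hxo : orderOf x = q ^ k) (hyo : orderOf y = r ^ j) :
    ∀ g : G, g ∉ Subgroup.center G → ∀ a b : G, a * g = g * a → b * g = g * b → a * b = b * a := by
  have step1 : ∀ (g : G) (s i : ℕ), s.Prime → g ∉ Subgroup.center G → orderOf g = s ^ i →
      ∀ a b : G, a * g = g * a → b * g = g * b → a * b = b * a := by
    intro g s i hs hg hgo
    have hex : ∃ (t : ℕ) (y' : G) (j' : ℕ), t.Prime ∧ s ≠ t ∧ y' ∉ Subgroup.center G ∧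
        orderOf y' = t ^ j' := by
      by_cases hsq : s = q
      · exact ⟨r, y, j, hr, by rw [hsq]; exact hqr, hy, hyo⟩
      · exact ⟨q, x, k, hq, hsq, hx, hxo⟩
    obtain ⟨t, y', j', ht, hst, hy', hy'o⟩ := hex
    obtain ⟨z, hzZ, ⟨i', hzo⟩, hzg, hziff⟩ := ito_claimA9 hT hs ht hst hg hy' hgo hy'o
    have hpp : ∀ a : G, a * g = g * a → ∀ (u e : ℕ), u.Prime → orderOf a = u ^ e →
        ∀ b : G, b * g = g * b → b * a = a * b := by
      intro a hag u e hu hao b hbg
      by_cases hus : u = s
      · have hcop : (orderOf z).Coprime (orderOf a) := by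
          rw [hzo, hao, hus]
          exact Nat.Coprime.pow _ _ ((Nat.coprime_primes ht hs).mpr (Ne.symm hst))
        have hza : z * a = a * z := ((hziff a).mp hag).symm
        exact ito_coprime9 hT hzZ hza hcop b ((hziff b).mp hbg)
      · have hcop : (orderOf g).Coprime (orderOf a) := by
          rw [hgo, hao]
          exact Nat.Coprime.pow _ _ ((Nat.coprime_primes hs hu).mpr (Ne.symm hus))
        exact ito_coprime9 hT hg hag.symm hcop b hbg
    intro a b hag hbg
    have hmem : a ∈ Subgroup.centralizer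
        ((Subgroup.centralizer ({g} : Set G) : Subgroup G) : Set G) := by
      refine mem_of_prime_pow_parts9 _ (orderOf a) a rfl (orderOf_pos a) ?_
      intro m u e hu hord
      rw [Subgroup.mem_centralizer_iff]
      intro b' hb'
      have hb'g : b' * g = g * b' := Subgroup.mem_centralizer_singleton_iff.mp hb'
      have h0 : Commute a g := hag
      have hamg : a ^ m * g = g * a ^ m := h0.pow_left m
      exact hpp (a ^ m) hamg u e hu hord b' hb'g
    rw [Subgroup.mem_centralizer_iff] at hmem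
    exact (hmem b (Subgroup.mem_centralizer_singleton_iff.mpr hbg)).symm
  intro g hg a b hag hbg
  obtain ⟨m, s, i, hs, hord, hgm⟩ := ito_primary9 hg
  have h0 : Commute a g := hag
  have h1 : Commute b g := hbg
  exact step1 (g ^ m) s i hs hgm hord a b (h0.pow_right m) (h1.pow_right m)

theorem ito_exists_u9 [Finite G] {p : ℕ} [Fact p.Prime] (P : Sylow p G)
    (hPZ : ¬ (P : Subgroup G) ≤ Subgroup.center G) :
    ∃ u ∈ (P : Subgroup G), u ∉ Subgroup.center G ∧
      ∀ g ∈ (P : Subgroup G), u⁻¹ * g⁻¹ * u * g ∈ Subgroup.center G := by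
  haveI hNn : ((Subgroup.center G).subgroupOf (P : Subgroup G)).Normal :=
    Subgroup.normal_subgroupOf
  have hQ : IsPGroup p (↥(P : Subgroup G) ⧸ (Subgroup.center G).subgroupOf (P : Subgroup G)) :=
    P.2.to_quotient _
  obtain ⟨v, hvP, hvZ⟩ := SetLike.not_le_iff_exists.mp hPZ
  haveI : Nontrivial (↥(P : Subgroup G) ⧸ (Subgroup.center G).subgroupOf (P : Subgroup G)) := by
    refine ⟨⟨(QuotientGroup.mk (⟨v, hvP⟩ : ↥(P : Subgroup G))), 1, ?_⟩⟩
    intro h
    rw [QuotientGroup.eq_one_iff] at h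
    exact hvZ (Subgroup.mem_subgroupOf.mp h)
  haveI := hQ.center_nontrivial
  obtain ⟨⟨zb, hzb⟩, hne⟩ := exists_ne (1 : Subgroup.center
    (↥(P : Subgroup G) ⧸ (Subgroup.center G).subgroupOf (P : Subgroup G)))
  obtain ⟨u', rfl⟩ := QuotientGroup.mk_surjective zb
  refine ⟨(u' : G), u'.2, ?_, ?_⟩
  · intro hu
    apply hne
    apply Subtype.ext
    show (QuotientGroup.mk u' :
      ↥(P : Subgroup G) ⧸ (Subgroup.center G).subgroupOf (P : Subgroup G)) = 1
    rw [QuotientGroup.eq_one_iff]
    exact Subgroup.mem_subgroupOf.mpr hu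
  · intro g hg
    have h1 := (Subgroup.mem_center_iff.mp hzb) (QuotientGroup.mk (⟨g, hg⟩ : ↥(P : Subgroup G)))
    rw [← QuotientGroup.mk_mul, ← QuotientGroup.mk_mul, QuotientGroup.eq] at h1
    have h2 := Subgroup.mem_subgroupOf.mp h1
    simpa [mul_assoc] using h2

theorem ito_factc9 [Finite G]
    (hab : ∀ g : G, g ∉ Subgroup.center G → ∀ a b : G, a * g = g * a → b * g = g * b →
      a * b = b * a)
    {s i : ℕ} (hs : s.Prime) {u : G} (hu : u ∉ Subgroup.center G) (huo : orderOf u = s ^ i) :
    (Nat.card (Subgroup.center G)).factorization s <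
      (Nat.card (Subgroup.centralizer ({u} : Set G))).factorization s := by
  haveI : Fact s.Prime := ⟨hs⟩
  have hCab : ∀ a ∈ Subgroup.centralizer ({u} : Set G),
      ∀ b ∈ Subgroup.centralizer ({u} : Set G), a * b = b * a :=
    fun a ha b hb => hab u hu a b (Subgroup.mem_centralizer_singleton_iff.mp ha)
      (Subgroup.mem_centralizer_singleton_iff.mp hb)
  have hZab : ∀ a ∈ Subgroup.center G, ∀ b ∈ Subgroup.center G, a * b = b * a :=
    fun a _ b hb => (Subgroup.mem_center_iff.mp hb) a
  obtain ⟨X, hXC, hXp, hXcard, hXmem⟩ := ito_rpart9 (Subgroup.centralizer ({u} : Set G)) hCab s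
  obtain ⟨T, hTZ, hTp, hTcard, hTmem⟩ := ito_rpart9 (Subgroup.center G) hZab s
  have hTX : T ≤ X := by
    intro w hw
    obtain ⟨k, hk⟩ := hTp ⟨w, hw⟩
    refine hXmem w (Subgroup.center_le_centralizer _ (hTZ hw)) ⟨k, ?_⟩
    have := congrArg Subtype.val hk
    simpa using this
  have huX : u ∈ X := by
    refine hXmem u (Subgroup.mem_centralizer_singleton_iff.mpr rfl) ⟨i, ?_⟩
    rw [← huo]; exact pow_orderOf_eq_one u
  have hlt : Nat.card T < Nat.card X := by
    by_contra hcon
    push_neg at hcon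
    have hEq : T = X := Subgroup.eq_of_le_of_card_ge hTX hcon
    apply hu
    apply hTZ
    rw [hEq]; exact huX
  rw [hTcard, hXcard] at hlt
  exact (Nat.pow_lt_pow_iff_right hs.one_lt).mp hlt

theorem ito_pw9 [Finite G] {n : ℕ}
    (hT : ∀ x : G, x ∉ Subgroup.center G → (Subgroup.centralizer ({x} : Set G)).index = n)
    (hab : ∀ g : G, g ∉ Subgroup.center G → ∀ a b : G, a * g = g * a → b * g = g * b →
      a * b = b * a)
    {x : G} (hx : x ∉ Subgroup.center G)
    {p r : ℕ} (hp : p.Prime) (hr : r.Prime) (hpr : p ≠ r) :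
    p ^ n.factorization p ∣
      r ^ ((Nat.card (Subgroup.centralizer ({x} : Set G))).factorization r -
        (Nat.card (Subgroup.center G)).factorization r) - 1 := by
  haveI : Fact p.Prime := ⟨hp⟩
  haveI : Fact r.Prime := ⟨hr⟩
  obtain ⟨P⟩ : Nonempty (Sylow p G) := inferInstance
  by_cases hPZ : (P : Subgroup G) ≤ Subgroup.center G
  · have hnd : ¬ p ∣ n := by
      intro hdvd
      have h1 : (Subgroup.centralizer ({x} : Set G)).index ∣ (P : Subgroup G).index :=
        Subgroup.index_dvd_of_le (hPZ.trans (Subgroup.center_le_centralizer _))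
      rw [hT x hx] at h1
      exact P.not_dvd_index (hdvd.trans h1)
    rw [Nat.factorization_eq_zero_of_not_dvd hnd, pow_zero]
    exact one_dvd _
  · obtain ⟨u, huP, huZ, hucomm⟩ := ito_exists_u9 P hPZ
    have hCab : ∀ a ∈ Subgroup.centralizer ({u} : Set G),
        ∀ b ∈ Subgroup.centralizer ({u} : Set G), a * b = b * a :=
      fun a ha b hb => hab u huZ a b (Subgroup.mem_centralizer_singleton_iff.mp ha)
        (Subgroup.mem_centralizer_singleton_iff.mp hb)
    have hZab : ∀ a ∈ Subgroup.center G, ∀ b ∈ Subgroup.center G, a * b = b * a :=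
      fun a _ b hb => (Subgroup.mem_center_iff.mp hb) a
    have hpart : ∀ w : G, w ∉ Subgroup.center G → w * u = u * w →
        ∀ v : G, v * w = w * v → v * u = u * v := by
      intro w hwZ hwu
      exact ito_cent_eq9 hT huZ hwZ (fun v hv => hab u huZ v w hv hwu)
    have hnorm : ∀ g ∈ (P : Subgroup G), ∀ w : G, w * u = u * w →
        (g * w * g⁻¹) * u = u * (g * w * g⁻¹) := by
      intro g hg w hw
      obtain ⟨z, hzdef⟩ : ∃ z : G, z = u⁻¹ * g⁻¹ * u * g := ⟨_, rfl⟩
      have hz : z ∈ Subgroup.center G := by rw [hzdef]; exact hucomm g hg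
      have hzc : ∀ t : G, t * z = z * t := Subgroup.mem_center_iff.mp hz
      have e1 : g⁻¹ * u * g = u * z := by rw [hzdef]; group
      calc g * w * g⁻¹ * u = g * w * (g⁻¹ * u * g) * g⁻¹ := by group
        _ = g * w * (u * z) * g⁻¹ := by rw [e1]
        _ = g * (w * u) * z * g⁻¹ := by group
        _ = g * (u * w) * z * g⁻¹ := by rw [hw]
        _ = g * u * (w * z) * g⁻¹ := by group
        _ = g * u * (z * w) * g⁻¹ := by rw [hzc w]
        _ = g * (u * z) * w * g⁻¹ := by group
        _ = g * (g⁻¹ * u * g) * w * g⁻¹ := by rw [e1]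
        _ = u * (g * w * g⁻¹) := by group
    obtain ⟨X, hXC, hXp, hXcard, hXmem⟩ := ito_rpart9 (Subgroup.centralizer ({u} : Set G)) hCab r
    obtain ⟨T, hTZ, hTp, hTcard, hTmem⟩ := ito_rpart9 (Subgroup.center G) hZab r
    have hXr : ∀ w ∈ X, ∃ k : ℕ, w ^ r ^ k = 1 := by
      intro w hw
      obtain ⟨k, hk⟩ := hXp ⟨w, hw⟩
      exact ⟨k, by have := congrArg Subtype.val hk; simpa using this⟩
    have hTr : ∀ w ∈ T, ∃ k : ℕ, w ^ r ^ k = 1 := by
      intro w hw
      obtain ⟨k, hk⟩ := hTp ⟨w, hw⟩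
      exact ⟨k, by have := congrArg Subtype.val hk; simpa using this⟩
    have hTX : T ≤ X := fun w hw =>
      hXmem w (Subgroup.center_le_centralizer _ (hTZ hw)) (hTr w hw)
    have hXT : ∀ w ∈ X, w ∈ Subgroup.center G → w ∈ T := fun w hw hwZ =>
      hTmem w hwZ (hXr w hw)
    have hinv : ∀ g ∈ (P : Subgroup G), ∀ y ∈ ((X : Set G) \ (T : Set G)),
        g * y * g⁻¹ ∈ ((X : Set G) \ (T : Set G)) := by
      intro g hg y hy
      obtain ⟨hyX, hyT⟩ := hy
      have hyX' : y ∈ X := hyX
      have hyu : y * u = u * y := Subgroup.mem_centralizer_singleton_iff.mp (hXC hyX')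
      refine ⟨?_, ?_⟩
      · obtain ⟨k, hk⟩ := hXr y hyX'
        refine hXmem _ (Subgroup.mem_centralizer_singleton_iff.mpr (hnorm g hg y hyu)) ⟨k, ?_⟩
        rw [conj_pow, hk]; group
      · intro hcT
        have hcZ : g * y * g⁻¹ ∈ Subgroup.center G := hTZ hcT
        have h1 := (inferInstance : (Subgroup.center G).Normal).conj_mem _ hcZ g⁻¹
        have e : g⁻¹ * (g * y * g⁻¹) * g⁻¹⁻¹ = y := by group
        rw [e] at h1
        exact hyT (hXT y hyX' h1)
    have hstab : ∀ g ∈ (P : Subgroup G), ∀ y ∈ ((X : Set G) \ (T : Set G)),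
        (g * y * g⁻¹ = y ↔ g ∈ (P : Subgroup G) ⊓ Subgroup.centralizer ({u} : Set G)) := by
      intro g hg y hy
      obtain ⟨hyX, hyT⟩ := hy
      have hyX' : y ∈ X := hyX
      have hyZ : y ∉ Subgroup.center G := fun h => hyT (hXT y hyX' h)
      have hyu : y * u = u * y := Subgroup.mem_centralizer_singleton_iff.mp (hXC hyX')
      constructor
      · intro h
        have h1 : g * y = y * g := mul_inv_eq_iff_eq_mul.mp h
        exact ⟨hg, Subgroup.mem_centralizer_singleton_iff.mpr (hpart y hyZ hyu g h1)⟩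
      · intro h
        have h1 : g * u = u * g := Subgroup.mem_centralizer_singleton_iff.mp h.2
        have h2 : g * y = y * g := hab u huZ g y h1 hyu
        exact mul_inv_eq_iff_eq_mul.mpr h2
    have horb := orbit_dvd9 (P : Subgroup G)
      ((P : Subgroup G) ⊓ Subgroup.centralizer ({u} : Set G))
      ((X : Set G) \ (T : Set G)) hinv hstab
    have hYcard : ((X : Set G) \ (T : Set G)).ncard = Nat.card X - Nat.card T := by
      rw [Set.ncard_diff (show (T : Set G) ⊆ (X : Set G) from hTX)]
      rw [← Nat.card_coe_set_eq, ← Nat.card_coe_set_eq]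
      rfl
    obtain ⟨α, hα⟩ : ∃ α : ℕ,
        (Nat.card (Subgroup.centralizer ({u} : Set G))).factorization r = α := ⟨_, rfl⟩
    obtain ⟨β, hβ⟩ : ∃ β : ℕ, (Nat.card (Subgroup.center G)).factorization r = β := ⟨_, rfl⟩
    rw [hα] at hXcard
    rw [hβ] at hTcard
    have hβα : β ≤ α := by
      have h1 : Nat.card T ≤ Nat.card X := Subgroup.card_le_of_le hTX
      rw [hTcard, hXcard] at h1
      exact (Nat.pow_le_pow_iff_right hr.one_lt).mp h1
    have hY2 : ((X : Set G) \ (T : Set G)).ncard = r ^ β * (r ^ (α - β) - 1) := by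
      rw [hYcard, hXcard, hTcard, Nat.mul_sub, mul_one, ← pow_add, Nat.add_sub_of_le hβα]
    have hS : (P : Subgroup G) ⊓ Subgroup.centralizer ({u} : Set G) ≤ (P : Subgroup G) :=
      inf_le_left
    have hPc : Nat.card ↥(P : Subgroup G) = p ^ (Nat.card G).factorization p :=
      P.card_eq_multiplicity
    obtain ⟨γ, -, hγ⟩ := (Nat.dvd_prime_pow hp).1
      (show ((P : Subgroup G) ⊓ Subgroup.centralizer ({u} : Set G)).relIndex (P : Subgroup G) ∣
          p ^ (Nat.card G).factorization p from by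
        rw [← hPc]
        exact Subgroup.relIndex_dvd_card (H := _) (K := (P : Subgroup G)))
    rw [hY2, hγ] at horb
    have hcop : (p ^ γ).Coprime (r ^ β) :=
      Nat.Coprime.pow _ _ ((Nat.coprime_primes hp hr).mpr hpr)
    have hdvd1 : p ^ γ ∣ r ^ (α - β) - 1 := hcop.dvd_of_dvd_mul_left horb
    have hγn : n.factorization p ≤ γ := by
      have h1 := Subgroup.card_mul_index
        (H := ((P : Subgroup G) ⊓ Subgroup.centralizer ({u} : Set G)).subgroupOf (P : Subgroup G))
      have h2 : Nat.card ↥(((P : Subgroup G) ⊓ Subgroup.centralizer ({u} : Set G)).subgroupOf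
          (P : Subgroup G)) =
          Nat.card ↥((P : Subgroup G) ⊓ Subgroup.centralizer ({u} : Set G)) :=
        Nat.card_congr (Subgroup.subgroupOfEquivOfLe hS).toEquiv
      have h3 : (((P : Subgroup G) ⊓ Subgroup.centralizer ({u} : Set G)).subgroupOf
          (P : Subgroup G)).index = p ^ γ := hγ
      rw [h2, h3] at h1
      have hSp : IsPGroup p ↥((P : Subgroup G) ⊓ Subgroup.centralizer ({u} : Set G)) :=
        P.2.to_le hS
      obtain ⟨σ, hσ⟩ := IsPGroup.iff_card.mp hSp
      have hSC : Nat.card ↥((P : Subgroup G) ⊓ Subgroup.centralizer ({u} : Set G)) ∣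
          Nat.card (Subgroup.centralizer ({u} : Set G)) := Subgroup.card_dvd_of_le inf_le_right
      rw [hσ] at hSC h1
      have hσle : σ ≤ (Nat.card (Subgroup.centralizer ({u} : Set G))).factorization p :=
        (Nat.Prime.pow_dvd_iff_le_factorization hp Nat.card_pos.ne').mp hSC
      rw [hPc, ← pow_add] at h1
      have h4 : σ + γ = (Nat.card G).factorization p := Nat.pow_right_injective hp.two_le h1
      have h5 : Nat.card (Subgroup.centralizer ({u} : Set G)) * n = Nat.card G := by
        have := Subgroup.card_mul_index (H := Subgroup.centralizer ({u} : Set G))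
        rwa [hT u huZ] at this
      have hn0 : n ≠ 0 := by
        rw [← hT u huZ]; exact Subgroup.index_ne_zero_of_finite
      have h6 : (Nat.card G).factorization p =
          (Nat.card (Subgroup.centralizer ({u} : Set G))).factorization p + n.factorization p := by
        rw [← h5, Nat.factorization_mul Nat.card_pos.ne' hn0, Finsupp.add_apply]
      omega
    have hfin : p ^ n.factorization p ∣ r ^ (α - β) - 1 := (pow_dvd_pow p hγn).trans hdvd1
    rw [ito_card9 hT hx huZ, hα, hβ]
    exact hfin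

theorem ito_claimC9 [Finite G] {n : ℕ} (hn : 1 < n)
    (hT : ∀ x : G, x ∉ Subgroup.center G → (Subgroup.centralizer ({x} : Set G)).index = n)
    (hab : ∀ g : G, g ∉ Subgroup.center G → ∀ a b : G, a * g = g * a → b * g = g * b →
      a * b = b * a)
    {q r : ℕ} (hq : q.Prime) (hr : r.Prime) (hqr : q ≠ r)
    {x y : G} (hx : x ∉ Subgroup.center G) (hy : y ∉ Subgroup.center G)
    {k j : ℕ} (hxo : orderOf x = q ^ k) (hyo : orderOf y = r ^ j) : False := by
  have hfq := ito_factc9 hab hq hx hxo
  have hfr := ito_factc9 hab hr hy hyo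
  rw [← ito_card9 hT hx hy] at hfr
  have hA := ito_pw9 hT hab hx hq hr hqr
  have hBall : ∀ s : ℕ, s.Prime → s ≠ q → s ^ n.factorization s ∣
      q ^ ((Nat.card (Subgroup.centralizer ({x} : Set G))).factorization q -
        (Nat.card (Subgroup.center G)).factorization q) - 1 :=
    fun s hs hsq => ito_pw9 hT hab hx hs hq hsq
  have hZC : Nat.card (Subgroup.center G) ∣ Nat.card (Subgroup.centralizer ({x} : Set G)) :=
    Subgroup.card_dvd_of_le (Subgroup.center_le_centralizer _)
  have hnpos : 0 < n := by omega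
  have hn0 : n ≠ 0 := by omega
  have hC3 : Nat.card (Subgroup.centralizer ({x} : Set G)) ≤ n * Nat.card (Subgroup.center G) := by
    have hne : Subgroup.centralizer ({x} : Set G) ≠ ⊤ := by
      intro h
      have h0 := hT x hx
      rw [h, Subgroup.index_top] at h0
      omega
    obtain ⟨h, -, hh⟩ := SetLike.exists_of_lt (lt_top_iff_ne_top.mpr hne)
    have hhx : ¬ h * x = x * h := fun e => hh (Subgroup.mem_centralizer_singleton_iff.mpr e)
    have hhZ : h ∉ Subgroup.center G := fun e => hhx ((Subgroup.mem_center_iff.mp e x).symm)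
    have hinf : Subgroup.centralizer ({x} : Set G) ⊓ Subgroup.centralizer ({h} : Set G) =
        Subgroup.center G := by
      apply le_antisymm
      · intro w hw
        by_contra hwZ
        have hwx : w * x = x * w := Subgroup.mem_centralizer_singleton_iff.mp hw.1
        have hwh : w * h = h * w := Subgroup.mem_centralizer_singleton_iff.mp hw.2
        have h1 := ito_cent_eq9 hT hx hwZ (fun v hv => hab x hx v w hv hwx)
        exact hhx (h1 h hwh.symm)
      · exact le_inf (Subgroup.center_le_centralizer _) (Subgroup.center_le_centralizer _)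
    have h1 := Subgroup.index_inf_le (H := Subgroup.centralizer ({x} : Set G))
      (K := Subgroup.centralizer ({h} : Set G))
    rw [hinf, hT x hx, hT h hhZ] at h1
    have h2 := Subgroup.card_mul_index (H := Subgroup.center G)
    have h3 := Subgroup.card_mul_index (H := Subgroup.centralizer ({x} : Set G))
    rw [hT x hx] at h3
    have h4 : Nat.card (Subgroup.centralizer ({x} : Set G)) * n ≤
        n * Nat.card (Subgroup.center G) * n := by
      calc Nat.card (Subgroup.centralizer ({x} : Set G)) * n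
          = Nat.card (Subgroup.center G) * (Subgroup.center G).index := by rw [h3, h2]
        _ ≤ Nat.card (Subgroup.center G) * (n * n) := Nat.mul_le_mul_left _ h1
        _ = n * Nat.card (Subgroup.center G) * n := by ring
    exact Nat.le_of_mul_le_mul_right h4 hnpos
  obtain ⟨cC, hcC⟩ : ∃ cC : ℕ, Nat.card (Subgroup.centralizer ({x} : Set G)) = cC := ⟨_, rfl⟩
  obtain ⟨cZ, hcZ⟩ : ∃ cZ : ℕ, Nat.card (Subgroup.center G) = cZ := ⟨_, rfl⟩
  rw [hcC, hcZ] at hfq hfr hA hZC hC3
  have hBall' : ∀ s : ℕ, s.Prime → s ≠ q → s ^ n.factorization s ∣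
      q ^ (cC.factorization q - cZ.factorization q) - 1 := by
    intro s hs hsq
    have := hBall s hs hsq
    rwa [hcC, hcZ] at this
  have hcZpos : 0 < cZ := by rw [← hcZ]; exact Nat.card_pos
  have hcCpos : 0 < cC := by rw [← hcC]; exact Nat.card_pos
  obtain ⟨eq, heq⟩ : ∃ eq : ℕ, cC.factorization q - cZ.factorization q = eq := ⟨_, rfl⟩
  obtain ⟨er, her⟩ : ∃ er : ℕ, cC.factorization r - cZ.factorization r = er := ⟨_, rfl⟩
  have heq1 : 1 ≤ eq := by omega
  have her1 : 1 ≤ er := by omega
  rw [her] at hA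
  rw [heq] at hBall'
  have hB : n / q ^ n.factorization q ∣ q ^ eq - 1 := by
    rw [Nat.dvd_iff_prime_pow_dvd_dvd]
    intro s t hs hst
    by_cases ht : t = 0
    · rw [ht, pow_zero]; exact one_dvd _
    · have hsq : s ≠ q := by
        intro hsq'
        rw [hsq'] at hst
        exact Nat.not_dvd_ordCompl hq hn0 ((dvd_pow_self q ht).trans hst)
      have hst' : s ^ t ∣ n := hst.trans (Nat.div_dvd_of_dvd (Nat.ordProj_dvd n q))
      have hle : t ≤ n.factorization s := (Nat.Prime.pow_dvd_iff_le_factorization hs hn0).mp hst'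
      exact (pow_dvd_pow s hle).trans (hBall' s hs hsq)
  have hqe : 2 ≤ q ^ eq := by
    calc 2 ≤ q := hq.two_le
      _ = q ^ 1 := (pow_one q).symm
      _ ≤ q ^ eq := Nat.pow_le_pow_right hq.pos heq1
  have hre : 2 ≤ r ^ er := by
    calc 2 ≤ r := hr.two_le
      _ = r ^ 1 := (pow_one r).symm
      _ ≤ r ^ er := Nat.pow_le_pow_right hr.pos her1
  have hAle : q ^ n.factorization q ≤ r ^ er - 1 := Nat.le_of_dvd (by omega) hA
  have hBle : n / q ^ n.factorization q ≤ q ^ eq - 1 := Nat.le_of_dvd (by omega) hB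
  have hnfac : q ^ n.factorization q * (n / q ^ n.factorization q) = n :=
    Nat.ordProj_mul_ordCompl_eq_self n q
  have hlt : n < r ^ er * q ^ eq := by
    calc n = q ^ n.factorization q * (n / q ^ n.factorization q) := hnfac.symm
      _ ≤ (r ^ er - 1) * (q ^ eq - 1) := Nat.mul_le_mul hAle hBle
      _ < r ^ er * q ^ eq := by
        have h1 : r ^ er - 1 < r ^ er := by omega
        have h2 : q ^ eq - 1 < q ^ eq := by omega
        exact Nat.mul_lt_mul'' h1 h2
  have hcfq : (cC / cZ).factorization q = eq := by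
    rw [Nat.factorization_div hZC, Finsupp.tsub_apply]; exact heq
  have hcfr : (cC / cZ).factorization r = er := by
    rw [Nat.factorization_div hZC, Finsupp.tsub_apply]; exact her
  have hdq : q ^ eq ∣ cC / cZ := by
    have := Nat.ordProj_dvd (cC / cZ) q
    rwa [hcfq] at this
  have hdr : r ^ er ∣ cC / cZ := by
    have := Nat.ordProj_dvd (cC / cZ) r
    rwa [hcfr] at this
  have hcop : (r ^ er).Coprime (q ^ eq) :=
    Nat.Coprime.pow _ _ ((Nat.coprime_primes hr hq).mpr (Ne.symm hqr))
  have hprod : r ^ er * q ^ eq ∣ cC / cZ := Nat.Coprime.mul_dvd_of_dvd_of_dvd hcop hdr hdq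
  have hcpos : 0 < cC / cZ := Nat.div_pos (Nat.le_of_dvd hcCpos hZC) hcZpos
  have hle1 : r ^ er * q ^ eq ≤ cC / cZ := Nat.le_of_dvd hcpos hprod
  have hle2 : cC / cZ ≤ n := Nat.div_le_of_le_mul (by rw [mul_comm]; exact hC3)
  exact absurd (lt_of_lt_of_le hlt (hle1.trans hle2)) (lt_irrefl n)

theorem ito_pgroup9 {H : Type*} [Group H] [Finite H] (p : ℕ) [Fact p.Prime] (hH : IsPGroup p H)
    (hstar : ∀ y w : H, y ∉ Subgroup.center H → w ∉ Subgroup.center H →
      (∀ h : H, h * y = y * h → h * w = w * h) → ∀ h : H, h * w = w * h → h * y = y * h) :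
    ∃ A : Subgroup H, A.Normal ∧ IsMulCommutative A ∧ ∀ y : H, y ^ p ∈ A := by
  have hp : p.Prime := Fact.out
  have hcomm : ∀ g g' : H, g ^ p * g' ^ p = g' ^ p * g ^ p := by
    by_cases hZ : ∀ t : H, t ∈ Subgroup.center H
    · intro g g'
      exact (Subgroup.mem_center_iff.mp (hZ (g' ^ p)) (g ^ p))
    · push_neg at hZ
      obtain ⟨v, hv⟩ := hZ
      haveI : Nontrivial (H ⧸ Subgroup.center H) := by
        refine ⟨⟨(QuotientGroup.mk v), 1, ?_⟩⟩
        intro h
        rw [QuotientGroup.eq_one_iff] at h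
        exact hv h
      have hQ : IsPGroup p (H ⧸ Subgroup.center H) := hH.to_quotient _
      haveI := hQ.center_nontrivial
      have hQc : IsPGroup p (Subgroup.center (H ⧸ Subgroup.center H)) := hQ.to_subgroup _
      obtain ⟨e, he⟩ := IsPGroup.iff_card.mp hQc
      have hdvd : p ∣ Nat.card (Subgroup.center (H ⧸ Subgroup.center H)) := by
        have h1 : 1 < Nat.card (Subgroup.center (H ⧸ Subgroup.center H)) := Finite.one_lt_card
        rw [he] at h1 ⊢
        have he0 : e ≠ 0 := by
          rintro rfl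
          rw [pow_zero] at h1
          omega
        exact dvd_pow_self p he0
      obtain ⟨⟨xb, hxb⟩, hxo⟩ := exists_prime_orderOf_dvd_card' p hdvd
      have hxo' : orderOf xb = p := by
        rw [← hxo]
        exact Subgroup.orderOf_coe (⟨xb, hxb⟩ : Subgroup.center (H ⧸ Subgroup.center H))
      obtain ⟨x, rfl⟩ := QuotientGroup.mk_surjective xb
      have hxZ : x ∉ Subgroup.center H := by
        intro hc
        have h1 : (QuotientGroup.mk x : H ⧸ Subgroup.center H) = 1 :=
          (QuotientGroup.eq_one_iff x).mpr hc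
        rw [h1, orderOf_one] at hxo'
        exact hp.one_lt.ne hxo'
      have hxp : x ^ p ∈ Subgroup.center H := by
        rw [← QuotientGroup.eq_one_iff, QuotientGroup.mk_pow, ← hxo']
        exact pow_orderOf_eq_one _
      have hxc : ∀ g : H, x⁻¹ * g⁻¹ * x * g ∈ Subgroup.center H := by
        intro g
        have h1 := (Subgroup.mem_center_iff.mp hxb) (QuotientGroup.mk g)
        rw [← QuotientGroup.mk_mul, ← QuotientGroup.mk_mul, QuotientGroup.eq] at h1
        have e1 : (g * x)⁻¹ * (x * g) = x⁻¹ * g⁻¹ * x * g := by group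
        rw [e1] at h1
        exact h1
      -- x commutes with all p-th powers
      have ha' : ∀ g : H, x * g ^ p = g ^ p * x := by
        intro g
        obtain ⟨w, hwdef⟩ : ∃ w : H, w = x⁻¹ * g⁻¹ * x * g := ⟨_, rfl⟩
        have hw : w ∈ Subgroup.center H := by rw [hwdef]; exact hxc g
        have e1 : g⁻¹ * x * g = x * w := by rw [hwdef]; group
        have hwk : ∀ k : ℕ, g⁻¹ * w ^ k * g = w ^ k := by
          intro k
          have h1 := Subgroup.mem_center_iff.mp (Subgroup.pow_mem _ hw k) g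
          rw [mul_assoc, ← h1, inv_mul_cancel_left]
        have key1 : ∀ k : ℕ, (g ^ k)⁻¹ * x * g ^ k = x * w ^ k := by
          intro k
          induction k with
          | zero => simp
          | succ k ih =>
            calc (g ^ (k + 1))⁻¹ * x * g ^ (k + 1)
                = g⁻¹ * ((g ^ k)⁻¹ * x * g ^ k) * g := by rw [pow_succ]; group
              _ = g⁻¹ * (x * w ^ k) * g := by rw [ih]
              _ = (g⁻¹ * x * g) * (g⁻¹ * w ^ k * g) := by group
              _ = (x * w) * w ^ k := by rw [e1, hwk k]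
              _ = x * w ^ (k + 1) := by rw [pow_succ', mul_assoc]
        have hwp : w ^ p = 1 := by
          have h0 : (g⁻¹ * x * g) ^ p = g⁻¹ * x ^ p * g := by
            have h := conj_pow (a := g⁻¹) (b := x) (i := p)
            rw [inv_inv] at h
            exact h
          have h1 : g⁻¹ * x ^ p * g = (x * w) ^ p := by rw [← h0, e1]
          have hc : Commute x w := Subgroup.mem_center_iff.mp hw x
          have h2 : (x * w) ^ p = x ^ p * w ^ p := hc.mul_pow p
          have h3 : g⁻¹ * x ^ p * g = x ^ p := by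
            rw [mul_assoc, ← (Subgroup.mem_center_iff.mp hxp g), inv_mul_cancel_left]
          have h4 : x ^ p * w ^ p = x ^ p * 1 := by
            rw [mul_one, ← h2, ← h1, h3]
          exact mul_left_cancel h4
        have h5 := key1 p
        rw [hwp, mul_one, mul_assoc] at h5
        exact eq_mul_of_inv_mul_eq h5
      have hT1 : ∀ g : H, g ^ p ∉ Subgroup.center H →
          ∀ h : H, h * x = x * h → h * g = g * h := by
        intro g hgp
        have hgZ : g ∉ Subgroup.center H := fun hg => hgp (Subgroup.pow_mem _ hg p)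
        have h1 : ∀ h : H, h * g ^ p = g ^ p * h → h * g = g * h :=
          hstar g (g ^ p) hgZ hgp (fun h hh => (show Commute h g from hh).pow_right p)
        have hxg : x * g = g * x := h1 x (ha' g)
        have hgx : Commute g x := hxg.symm
        have hpow : (g * x) ^ p = g ^ p * x ^ p := hgx.mul_pow p
        have hgxp : (g * x) ^ p ∉ Subgroup.center H := by
          intro hc
          apply hgp
          have h2 : g ^ p = (g * x) ^ p * (x ^ p)⁻¹ := by rw [hpow]; group
          rw [h2]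
          exact Subgroup.mul_mem _ hc (Subgroup.inv_mem _ hxp)
        have hgxZ : g * x ∉ Subgroup.center H := fun hc => hgxp (Subgroup.pow_mem _ hc p)
        have h2 : ∀ h : H, h * (g * x) ^ p = (g * x) ^ p * h → h * (g * x) = (g * x) * h :=
          hstar (g * x) ((g * x) ^ p) hgxZ hgxp
            (fun h hh => (show Commute h (g * x) from hh).pow_right p)
        have h3 : ∀ h : H, h * g = g * h → h * x = x * h := by
          intro h hh
          have hhp : h * g ^ p = g ^ p * h := (show Commute h g from hh).pow_right p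
          have hxpc : h * x ^ p = x ^ p * h := Subgroup.mem_center_iff.mp hxp h
          have h4 : h * (g * x) ^ p = (g * x) ^ p * h := by
            rw [hpow]
            calc h * (g ^ p * x ^ p) = (h * g ^ p) * x ^ p := by rw [mul_assoc]
              _ = (g ^ p * h) * x ^ p := by rw [hhp]
              _ = g ^ p * (h * x ^ p) := by rw [mul_assoc]
              _ = g ^ p * (x ^ p * h) := by rw [hxpc]
              _ = g ^ p * x ^ p * h := by rw [mul_assoc]
          have h5 : h * (g * x) = (g * x) * h := h2 h h4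
          have h6 : g * (h * x) = g * (x * h) := by
            calc g * (h * x) = (g * h) * x := by rw [mul_assoc]
              _ = (h * g) * x := by rw [hh]
              _ = h * (g * x) := by rw [mul_assoc]
              _ = (g * x) * h := h5
              _ = g * (x * h) := by rw [mul_assoc]
          exact mul_left_cancel h6
        exact hstar g x hgZ hxZ h3
      intro g g'
      by_cases hg : g ^ p ∈ Subgroup.center H
      · exact ((Subgroup.mem_center_iff.mp hg) (g' ^ p)).symm
      · by_cases hg' : g' ^ p ∈ Subgroup.center H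
        · exact (Subgroup.mem_center_iff.mp hg') (g ^ p)
        · have hxg' : x * g' = g' * x := hT1 g' hg' x rfl
          have hgg' : g' * g = g * g' := hT1 g hg g' hxg'.symm
          have hc : Commute g g' := hgg'.symm
          exact hc.pow_pow p p
  -- the subgroup
  have hS0K : ∀ y : H, y ^ p ∈ Subgroup.centralizer {t : H | ∃ y : H, t = y ^ p} := by
    intro y
    rw [Subgroup.mem_centralizer_iff]
    rintro h ⟨y', rfl⟩
    exact hcomm y' y
  have hKn : ∀ k ∈ Subgroup.centralizer {t : H | ∃ y : H, t = y ^ p}, ∀ g : H,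
      g * k * g⁻¹ ∈ Subgroup.centralizer {t : H | ∃ y : H, t = y ^ p} := by
    intro k hk g
    rw [Subgroup.mem_centralizer_iff]
    rintro h ⟨y, rfl⟩
    have h1 : g⁻¹ * y ^ p * g ∈ {t : H | ∃ y : H, t = y ^ p} := by
      refine ⟨g⁻¹ * y * g, ?_⟩
      have h := conj_pow (a := g⁻¹) (b := y) (i := p)
      rw [inv_inv] at h
      exact h.symm
    have h2 := (Subgroup.mem_centralizer_iff.mp hk) _ h1
    calc y ^ p * (g * k * g⁻¹) = g * ((g⁻¹ * y ^ p * g) * k) * g⁻¹ := by group
      _ = g * (k * (g⁻¹ * y ^ p * g)) * g⁻¹ := by rw [h2]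
      _ = g * k * g⁻¹ * y ^ p := by group
  refine ⟨Subgroup.centralizer
      ((Subgroup.centralizer {t : H | ∃ y : H, t = y ^ p} : Subgroup H) : Set H) ⊓
    Subgroup.centralizer {t : H | ∃ y : H, t = y ^ p}, ?_, ?_, ?_⟩
  · refine ⟨fun a ha g => ?_⟩
    obtain ⟨ha1, ha2⟩ := Subgroup.mem_inf.mp ha
    refine Subgroup.mem_inf.mpr ⟨?_, hKn a ha2 g⟩
    rw [Subgroup.mem_centralizer_iff]
    intro k hk
    have h1 : g⁻¹ * k * g ∈ Subgroup.centralizer {t : H | ∃ y : H, t = y ^ p} := by
      have h := hKn k hk g⁻¹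
      rw [inv_inv] at h
      exact h
    have h2 := (Subgroup.mem_centralizer_iff.mp ha1) _ h1
    calc k * (g * a * g⁻¹) = g * ((g⁻¹ * k * g) * a) * g⁻¹ := by group
      _ = g * (a * (g⁻¹ * k * g)) * g⁻¹ := by rw [h2]
      _ = g * a * g⁻¹ * k := by group
  · refine ⟨⟨fun a b => Subtype.ext ?_⟩⟩
    obtain ⟨ha1, -⟩ := Subgroup.mem_inf.mp a.2
    obtain ⟨-, hb2⟩ := Subgroup.mem_inf.mp b.2
    exact ((Subgroup.mem_centralizer_iff.mp ha1) _ hb2).symm
  · intro y
    refine Subgroup.mem_inf.mpr ⟨?_, hS0K y⟩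
    rw [Subgroup.mem_centralizer_iff]
    intro k hk
    exact ((Subgroup.mem_centralizer_iff.mp hk) _ ⟨y, rfl⟩).symm

theorem ito_claimD9 [Finite G] {n : ℕ}
    (hT : ∀ x : G, x ∉ Subgroup.center G → (Subgroup.centralizer ({x} : Set G)).index = n)
    (p : ℕ) [hpF : Fact p.Prime]
    (hp1 : ∀ x : G, x ∉ Subgroup.center G → ∀ r k : ℕ, r.Prime → orderOf x = r ^ k → r = p)
    (x0 : G) (hx0 : x0 ∉ Subgroup.center G) :
    (∃ a : ℕ, n = p ^ a) ∧ ∀ P : Sylow p G, (P : Subgroup G).Normal ∧
      (∃ N : Subgroup G, N.Normal ∧ N.IsComplement' (P : Subgroup G) ∧ IsMulCommutative N ∧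
        ∀ x ∈ N, ∀ y ∈ (P : Subgroup G), x * y = y * x) ∧
      ∃ A : Subgroup (P : Subgroup G), A.Normal ∧ IsMulCommutative A ∧
        ∀ y : (P : Subgroup G), y ^ p ∈ A := by
  have hp : p.Prime := hpF.out
  have hD1 : ∀ g : G, (orderOf g).Coprime p → g ∈ Subgroup.center G := by
    intro g hcop
    refine mem_of_prime_pow_parts9 _ (orderOf g) g rfl (orderOf_pos g) ?_
    intro m r k hr hord
    by_contra hne
    have hrp : r = p := hp1 (g ^ m) hne r k hr hord
    rw [hrp] at hord
    have hdvd : p ^ k ∣ orderOf g := by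
      rw [← hord]; exact orderOf_pow_dvd m
    have hk0 : k = 0 := by
      by_contra hk
      have h1 : p ∣ orderOf g := (dvd_pow_self p hk).trans hdvd
      exact (Nat.Prime.coprime_iff_not_dvd hp).mp hcop.symm h1
    rw [hk0, pow_zero, orderOf_eq_one_iff] at hord
    rw [hord] at hne
    exact hne (Subgroup.one_mem _)
  obtain ⟨e, he⟩ : ∃ e : ℕ, (Nat.card G).factorization p = e := ⟨_, rfl⟩
  obtain ⟨m, hm⟩ : ∃ m : ℕ, Nat.card G / p ^ e = m := ⟨_, rfl⟩
  have hGm : p ^ e * m = Nat.card G := by
    rw [← hm, ← he]; exact Nat.ordProj_mul_ordCompl_eq_self _ p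
  have hmp : p.Coprime m := by
    rw [← hm, ← he]; exact Nat.coprime_ordCompl hp Nat.card_pos.ne'
  have hD2 : ∀ g : G, g ^ p ^ e ∈ Subgroup.center G := by
    intro g
    apply hD1
    have h1 : (g ^ p ^ e) ^ m = 1 := by
      rw [← pow_mul, hGm]; exact pow_card_eq_one'
    exact Nat.Coprime.coprime_dvd_left (orderOf_dvd_of_pow_eq_one h1) hmp.symm
  have hQ : IsPGroup p (G ⧸ Subgroup.center G) := by
    intro gb
    obtain ⟨g, rfl⟩ := QuotientGroup.mk_surjective gb
    refine ⟨e, ?_⟩
    rw [← QuotientGroup.mk_pow, QuotientGroup.eq_one_iff]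
    exact hD2 g
  obtain ⟨j, hj⟩ := IsPGroup.iff_card.mp hQ
  have hZidx : (Subgroup.center G).index = p ^ j := by
    rw [Subgroup.index_eq_card]; exact hj
  have hn_dvd : n ∣ p ^ j := by
    rw [← hZidx, ← hT x0 hx0]
    exact Subgroup.index_dvd_of_le (Subgroup.center_le_centralizer _)
  obtain ⟨a, -, ha⟩ := (Nat.dvd_prime_pow hp).1 hn_dvd
  refine ⟨⟨a, ha⟩, ?_⟩
  intro P
  have hPn : (P : Subgroup G).Normal := by
    have h1 : (Subgroup.normalizer ((P : Subgroup G) : Set G)).index ∣ p ^ j := by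
      rw [← hZidx]
      exact Subgroup.index_dvd_of_le (Subgroup.center_le_normalizer _)
    obtain ⟨i, -, hi⟩ := (Nat.dvd_prime_pow hp).1 h1
    have h2 : (Subgroup.normalizer ((P : Subgroup G) : Set G)).index ≡ 1 [MOD p] := by
      have h := card_sylow_modEq_one p G
      rw [P.card_eq_index_normalizer] at h
      exact h
    rw [hi] at h2
    have hidx : (Subgroup.normalizer ((P : Subgroup G) : Set G)).index = 1 := by
      rw [hi]
      by_contra hne
      have hi0 : i ≠ 0 := by
        rintro rfl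
        exact hne (pow_zero p)
      have h3 : p ∣ p ^ i := dvd_pow_self p hi0
      have h4 : p ^ i % p = 0 := Nat.mod_eq_zero_of_dvd h3
      have h5 : p ^ i % p = 1 % p := h2
      rw [h4, Nat.mod_eq_of_lt hp.one_lt] at h5
      omega
    exact Subgroup.normalizer_eq_top_iff.mp (Subgroup.index_eq_one.mp hidx)
  haveI := hPn
  have hPall : ∀ b : G, b ^ p ^ e = 1 → b ∈ (P : Subgroup G) := by
    intro b hb
    have hpz : IsPGroup p (Subgroup.zpowers b) := by
      obtain ⟨i, -, hi⟩ := (Nat.dvd_prime_pow hp).1 (orderOf_dvd_of_pow_eq_one hb)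
      exact IsPGroup.of_card (by rw [Nat.card_zpowers]; exact hi)
    obtain ⟨Q, hQ'⟩ := hpz.exists_le_sylow
    obtain ⟨g, hg⟩ := MulAction.exists_smul_eq G P Q
    rw [Sylow.smul_eq_of_normal] at hg
    rw [hg]
    exact hQ' (Subgroup.mem_zpowers b)
  let N : Subgroup G :=
    { carrier := {z : G | z ∈ Subgroup.center G ∧ z ^ m = 1}
      mul_mem' := by
        rintro a b ⟨ha, ha1⟩ ⟨hb, hb1⟩
        refine ⟨Subgroup.mul_mem _ ha hb, ?_⟩
        have hc : Commute a b := (Subgroup.mem_center_iff.mp hb a)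
        rw [hc.mul_pow, ha1, hb1, one_mul]
      one_mem' := ⟨Subgroup.one_mem _, one_pow _⟩
      inv_mem' := by
        rintro a ⟨ha, ha1⟩
        exact ⟨Subgroup.inv_mem _ ha, by rw [inv_pow, ha1, inv_one]⟩ }
  have hNmem : ∀ z : G, z ∈ N ↔ z ∈ Subgroup.center G ∧ z ^ m = 1 := fun z => Iff.rfl
  have hNc : ∀ z ∈ N, z ∈ Subgroup.center G := fun z hz => ((hNmem z).mp hz).1
  have hNn : N.Normal := ⟨fun z hz g => by
    have h1 : g * z * g⁻¹ = z := by
      rw [Subgroup.mem_center_iff.mp (hNc z hz) g, mul_inv_cancel_right]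
    rw [h1]; exact hz⟩
  have hNP : ∀ z ∈ N, ∀ y ∈ (P : Subgroup G), z * y = y * z := fun z hz y _ =>
    (Subgroup.mem_center_iff.mp (hNc z hz) y).symm
  have hNab : IsMulCommutative N :=
    ⟨⟨fun a b => Subtype.ext (Subgroup.mem_center_iff.mp (hNc b b.2) a)⟩⟩
  have hcopm : (p ^ e).Coprime m := Nat.Coprime.pow_left e hmp
  have hdec : ∀ g : G, ∃ a ∈ N, ∃ b ∈ (P : Subgroup G), a * b = g := by
    intro g
    have hbez := Nat.gcd_eq_gcd_ab (p ^ e) m
    rw [Nat.Coprime.gcd_eq_one hcopm] at hbez
    refine ⟨(g ^ p ^ e) ^ (Nat.gcdA (p ^ e) m), ?_, (g ^ m) ^ (Nat.gcdB (p ^ e) m), ?_, ?_⟩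
    · refine (hNmem _).mpr ⟨Subgroup.zpow_mem _ (hD2 g) _, ?_⟩
      rw [← zpow_natCast ((g ^ p ^ e) ^ (Nat.gcdA (p ^ e) m)) m, ← zpow_mul, mul_comm, zpow_mul,
        zpow_natCast, ← pow_mul, hGm, pow_card_eq_one', one_zpow]
    · apply hPall
      rw [← zpow_natCast ((g ^ m) ^ (Nat.gcdB (p ^ e) m)) (p ^ e), ← zpow_mul, mul_comm, zpow_mul,
        zpow_natCast, ← pow_mul, mul_comm m, hGm, pow_card_eq_one', one_zpow]
    · rw [← zpow_natCast g (p ^ e), ← zpow_natCast g m, ← zpow_mul, ← zpow_mul, ← zpow_add,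
        ← hbez]
      simp
  have hcompl : N.IsComplement' (P : Subgroup G) := by
    apply Subgroup.isComplement'_of_disjoint_and_mul_eq_univ
    · rw [Subgroup.disjoint_def]
      intro z hzN hzP
      obtain ⟨i, hi⟩ := P.2 ⟨z, hzP⟩
      have hi' : z ^ p ^ i = 1 := by
        have := congrArg Subtype.val hi
        simpa using this
      have h1 : orderOf z ∣ m := orderOf_dvd_of_pow_eq_one ((hNmem z).mp hzN).2
      have h2 : orderOf z ∣ p ^ i := orderOf_dvd_of_pow_eq_one hi'
      have h3 : (orderOf z).Coprime (p ^ i) :=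
        Nat.Coprime.coprime_dvd_left h1 (Nat.Coprime.pow_right i hmp.symm)
      exact orderOf_eq_one_iff.mp (Nat.Coprime.eq_one_of_dvd h3 h2)
    · rw [Set.eq_univ_iff_forall]
      intro g
      obtain ⟨a, ha, b, hb, hab'⟩ := hdec g
      exact Set.mem_mul.mpr ⟨a, ha, b, hb, hab'⟩
  refine ⟨hPn, ⟨N, hNn, hcompl, hNab, hNP⟩, ?_⟩
  have hstar : ∀ y w : ↥(P : Subgroup G), y ∉ Subgroup.center ↥(P : Subgroup G) →
      w ∉ Subgroup.center ↥(P : Subgroup G) →
      (∀ h : ↥(P : Subgroup G), h * y = y * h → h * w = w * h) →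
      ∀ h : ↥(P : Subgroup G), h * w = w * h → h * y = y * h := by
    intro y w hy hw hle h hhw
    have hyZ : (y : G) ∉ Subgroup.center G := by
      intro hc
      apply hy
      rw [Subgroup.mem_center_iff]
      intro t
      exact Subtype.ext (Subgroup.mem_center_iff.mp hc t)
    have hwZ : (w : G) ∉ Subgroup.center G := by
      intro hc
      apply hw
      rw [Subgroup.mem_center_iff]
      intro t
      exact Subtype.ext (Subgroup.mem_center_iff.mp hc t)
    have hG1 : ∀ g : G, g * (y : G) = (y : G) * g → g * (w : G) = (w : G) * g := by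
      intro g hg
      obtain ⟨a, ha, b, hb, rfl⟩ := hdec g
      have hac : ∀ t : G, t * a = a * t := Subgroup.mem_center_iff.mp (hNc a ha)
      have hby : b * (y : G) = (y : G) * b := by
        have h1 : a * (b * (y : G)) = a * ((y : G) * b) := by
          calc a * (b * (y : G)) = a * b * (y : G) := by rw [mul_assoc]
            _ = (y : G) * (a * b) := hg
            _ = ((y : G) * a) * b := by rw [mul_assoc]
            _ = (a * (y : G)) * b := by rw [hac (y : G)]
            _ = a * ((y : G) * b) := by rw [mul_assoc]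
        exact mul_left_cancel h1
      have hbw : b * (w : G) = (w : G) * b := by
        have h1 := hle ⟨b, hb⟩ (Subtype.ext hby)
        exact congrArg Subtype.val h1
      calc a * b * (w : G) = a * (b * (w : G)) := by rw [mul_assoc]
        _ = a * ((w : G) * b) := by rw [hbw]
        _ = (a * (w : G)) * b := by rw [mul_assoc]
        _ = ((w : G) * a) * b := by rw [← hac (w : G)]
        _ = (w : G) * (a * b) := by rw [mul_assoc]
    have hG2 := ito_cent_eq9 hT hyZ hwZ hG1
    exact Subtype.ext (hG2 (h : G) (congrArg Subtype.val hhw))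
  exact ito_pgroup9 p P.2 hstar

end Ito9

end Cfsg.Agent.Helper9
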