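import Mathlib
import Cfsg.Agent.Helper9.Ito

set_option autoImplicit false

namespace Cfsg.Agent.Helper9

open scoped Pointwise

section CMax9

variable {K : Type*} [Group K]

theorem cm_eq9 (hK : ∀ x : K, x ≠ 1 → IsCoatom (Subgroup.centralizer ({x} : Set K)))
    {x y : K} (hx : x ≠ 1) (hy : y ≠ 1)
    (hle : Subgroup.centralizer ({x} : Set K) ≤ Subgroup.centralizer ({y} : Set K)) :
    Subgroup.centralizer ({x} : Set K) = Subgroup.centralizer ({y} : Set K) := by
  rcases eq_or_lt_of_le hle with h | h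
  · exact h
  · exact absurd ((hK x hx).2 _ h) (hK y hy).1

theorem cm_pow9 (hK : ∀ x : K, x ≠ 1 → IsCoatom (Subgroup.centralizer ({x} : Set K)))
    {x : K} (k : ℕ) (hxk : x ^ k ≠ 1) :
    Subgroup.centralizer ({x ^ k} : Set K) = Subgroup.centralizer ({x} : Set K) := by
  have hx : x ≠ 1 := by
    rintro rfl
    exact hxk (one_pow k)
  refine (cm_eq9 hK hx hxk ?_).symm
  intro g hg
  rw [Subgroup.mem_centralizer_singleton_iff] at hg ⊢
  exact (show Commute g x from hg).pow_right k

theorem cm_coprime9 (hK : ∀ x : K, x ≠ 1 → IsCoatom (Subgroup.centralizer ({x} : Set K)))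
    {x y : K} (hx : x ≠ 1) (hy : y ≠ 1) (hxy : x * y = y * x)
    (hcop : (orderOf x).Coprime (orderOf y)) :
    Subgroup.centralizer ({x} : Set K) = Subgroup.centralizer ({y} : Set K) := by
  obtain ⟨m, hm⟩ := exists_pow_eq_self_of_coprime (x := x) (n := orderOf y) hcop.symm
  obtain ⟨m', hm'⟩ := exists_pow_eq_self_of_coprime (x := y) (n := orderOf x) hcop
  have hcomm : Commute x y := hxy
  have hpowx : ((x * y) ^ orderOf y) ^ m = x := by
    rw [hcomm.mul_pow, pow_orderOf_eq_one, mul_one]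
    exact hm
  have hpowy : ((x * y) ^ orderOf x) ^ m' = y := by
    rw [hcomm.mul_pow, pow_orderOf_eq_one, one_mul]
    exact hm'
  have hw : x * y ≠ 1 := by
    intro h
    rw [h, one_pow, one_pow] at hpowx
    exact hx hpowx.symm
  have h1 : Subgroup.centralizer ({x * y} : Set K) = Subgroup.centralizer ({x} : Set K) := by
    refine cm_eq9 hK hw hx ?_
    intro g hg
    rw [Subgroup.mem_centralizer_singleton_iff] at hg ⊢
    have h0 : Commute g (x * y) := hg
    have h2 : Commute g (((x * y) ^ orderOf y) ^ m) := (h0.pow_right _).pow_right _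
    rw [hpowx] at h2
    exact h2
  have h2 : Subgroup.centralizer ({x * y} : Set K) = Subgroup.centralizer ({y} : Set K) := by
    refine cm_eq9 hK hw hy ?_
    intro g hg
    rw [Subgroup.mem_centralizer_singleton_iff] at hg ⊢
    have h0 : Commute g (x * y) := hg
    have h2 : Commute g (((x * y) ^ orderOf x) ^ m') := (h0.pow_right _).pow_right _
    rw [hpowy] at h2
    exact h2
  rw [← h1, h2]

theorem cm_notp9 [Finite K]
    (hK : ∀ x : K, x ≠ 1 → IsCoatom (Subgroup.centralizer ({x} : Set K)))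
    (hnt : ∃ x : K, x ≠ 1) (p : ℕ) [Fact p.Prime] : ¬ IsPGroup p K := by
  intro hp
  obtain ⟨x, hx⟩ := hnt
  haveI : Nontrivial K := ⟨⟨x, 1, hx⟩⟩
  haveI := hp.center_nontrivial
  obtain ⟨⟨z, hz⟩, hne⟩ := exists_ne (1 : Subgroup.center K)
  have hz1 : z ≠ 1 := fun h => hne (Subtype.ext h)
  apply (hK z hz1).1
  rw [eq_top_iff]
  intro g _
  rw [Subgroup.mem_centralizer_singleton_iff]
  exact (Subgroup.mem_center_iff.mp hz g)

theorem pgroup_z2_9 {H : Type*} [Group H] [Finite H] (p : ℕ) [Fact p.Prime] (hH : IsPGroup p H)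
    (hna : ∃ a b : H, a * b ≠ b * a) :
    ∃ u : H, u ∉ Subgroup.center H ∧ ∀ g : H, u⁻¹ * g⁻¹ * u * g ∈ Subgroup.center H := by
  obtain ⟨a, b, hab⟩ := hna
  have haZ : a ∉ Subgroup.center H := fun h => hab ((Subgroup.mem_center_iff.mp h b).symm)
  haveI : Nontrivial (H ⧸ Subgroup.center H) := by
    refine ⟨⟨(QuotientGroup.mk a), 1, ?_⟩⟩
    intro h
    rw [QuotientGroup.eq_one_iff] at h
    exact haZ h
  have hQ : IsPGroup p (H ⧸ Subgroup.center H) := hH.to_quotient _
  haveI := hQ.center_nontrivial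
  obtain ⟨⟨zb, hzb⟩, hne⟩ := exists_ne (1 : Subgroup.center (H ⧸ Subgroup.center H))
  obtain ⟨u, rfl⟩ := QuotientGroup.mk_surjective zb
  refine ⟨u, ?_, ?_⟩
  · intro hu
    apply hne
    apply Subtype.ext
    show (QuotientGroup.mk u : H ⧸ Subgroup.center H) = 1
    rw [QuotientGroup.eq_one_iff]
    exact hu
  · intro g
    have h1 := (Subgroup.mem_center_iff.mp hzb) (QuotientGroup.mk g)
    rw [← QuotientGroup.mk_mul, ← QuotientGroup.mk_mul, QuotientGroup.eq] at h1
    have e1 : (g * u)⁻¹ * (u * g) = u⁻¹ * g⁻¹ * u * g := by group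
    rw [e1] at h1
    exact h1

theorem cm_l4_9 [Finite K]
    (hK : ∀ x : K, x ≠ 1 → IsCoatom (Subgroup.centralizer ({x} : Set K)))
    {x : K} {p : ℕ} (hp : p.Prime) (hxo : orderOf x = p) :
    (∀ a ∈ Subgroup.centralizer ({x} : Set K), ∀ b ∈ Subgroup.centralizer ({x} : Set K),
      a * b = b * a) ∨ IsPGroup p (Subgroup.centralizer ({x} : Set K)) := by
  have hx1 : x ≠ 1 := by
    intro h
    rw [h, orderOf_one] at hxo
    exact hp.one_lt.ne hxo
  by_cases hpg : ∀ y ∈ Subgroup.centralizer ({x} : Set K), ∃ k : ℕ, orderOf y = p ^ k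
  · right
    rintro ⟨y, hy⟩
    obtain ⟨k, hk⟩ := hpg y hy
    refine ⟨k, ?_⟩
    apply Subtype.ext
    rw [Subgroup.coe_pow, Subgroup.coe_one, ← hk]
    exact pow_orderOf_eq_one y
  · left
    push_neg at hpg
    obtain ⟨y, hyC, hy⟩ := hpg
    have hyo : 0 < orderOf y := orderOf_pos y
    obtain ⟨q, hq, hqy, hqp⟩ : ∃ q : ℕ, q.Prime ∧ q ∣ orderOf y ∧ q ≠ p := by
      by_contra hcon
      push_neg at hcon
      exact hy _ (Nat.eq_prime_pow_of_unique_prime_dvd hyo.ne' (fun {d} hd hdy => hcon d hd hdy))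
    obtain ⟨y', hy'def⟩ : ∃ y' : K, y' = y ^ (orderOf y / q) := ⟨_, rfl⟩
    have hy'o : orderOf y' = q := by
      rw [hy'def]; exact orderOf_pow_orderOf_div hyo.ne' hqy
    have hy'1 : y' ≠ 1 := by
      intro h
      rw [h, orderOf_one] at hy'o
      exact hq.one_lt.ne hy'o
    have hyx : y * x = x * y := Subgroup.mem_centralizer_singleton_iff.mp hyC
    have hy'x : x * y' = y' * x := by
      rw [hy'def]
      exact ((show Commute y x from hyx).pow_left _).symm.eq
    have hCy' : Subgroup.centralizer ({x} : Set K) = Subgroup.centralizer ({y'} : Set K) := by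
      refine cm_coprime9 hK hx1 hy'1 hy'x ?_
      rw [hxo, hy'o]
      exact (Nat.coprime_primes hp hq).mpr (Ne.symm hqp)
    intro a ha b hb
    have hmem : a ∈ Subgroup.centralizer
        ((Subgroup.centralizer ({x} : Set K) : Subgroup K) : Set K) := by
      refine mem_of_prime_pow_parts9 _ (orderOf a) a rfl (orderOf_pos a) ?_
      intro m r k hr hord
      by_cases h1 : a ^ m = 1
      · rw [h1]; exact Subgroup.one_mem _
      · have hamC : a ^ m ∈ Subgroup.centralizer ({x} : Set K) := Subgroup.pow_mem _ ha m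
        have hCam : Subgroup.centralizer ({a ^ m} : Set K) =
            Subgroup.centralizer ({x} : Set K) := by
          by_cases hrp : r = p
          · have hc1 : a ^ m * y' = y' * a ^ m := by
              rw [hCy'] at hamC
              exact Subgroup.mem_centralizer_singleton_iff.mp hamC
            have := cm_coprime9 hK h1 hy'1 hc1 (by
              rw [hord, hy'o, hrp]
              exact Nat.Coprime.pow_left _ ((Nat.coprime_primes hp hq).mpr (Ne.symm hqp)))
            rw [this, hCy']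
          · have hc1 : x * a ^ m = a ^ m * x :=
              (Subgroup.mem_centralizer_singleton_iff.mp hamC).symm
            exact (cm_coprime9 hK hx1 h1 hc1 (by
              rw [hxo, hord]
              exact Nat.Coprime.pow_right _ ((Nat.coprime_primes hp hr).mpr (Ne.symm hrp)))).symm
        rw [Subgroup.mem_centralizer_iff]
        intro c hc
        rw [← hCam] at hc
        exact Subgroup.mem_centralizer_singleton_iff.mp hc
    rw [Subgroup.mem_centralizer_iff] at hmem
    exact (hmem b hb).symm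

theorem cm_main9 [Finite K]
    (hK : ∀ x : K, x ≠ 1 → IsCoatom (Subgroup.centralizer ({x} : Set K)))
    {x : K} {p : ℕ} (hp : p.Prime) (hxo : orderOf x = p) :
    ∀ a ∈ Subgroup.centralizer ({x} : Set K), ∀ b ∈ Subgroup.centralizer ({x} : Set K),
      a * b = b * a := by
  by_contra hna
  haveI : Fact p.Prime := ⟨hp⟩
  have hx1 : x ≠ 1 := by
    intro h
    rw [h, orderOf_one] at hxo
    exact hp.one_lt.ne hxo
  have hP : IsPGroup p (Subgroup.centralizer ({x} : Set K)) :=
    (cm_l4_9 hK hp hxo).resolve_left hna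
  have hnotp := cm_notp9 hK ⟨x, hx1⟩ p
  have htopp : ∀ S : Subgroup K, IsPGroup p S → S ≠ ⊤ := by
    intro S hS htop
    apply hnotp
    intro g
    obtain ⟨k, hk⟩ := hS ⟨g, by rw [htop]; exact Subgroup.mem_top g⟩
    exact ⟨k, by simpa using congrArg Subtype.val hk⟩
  obtain ⟨Q, hQ⟩ := hP.exists_le_sylow
  have hQeq : (Q : Subgroup K) = Subgroup.centralizer ({x} : Set K) := by
    rcases eq_or_lt_of_le hQ with h | h
    · exact h.symm
    · exact absurd ((hK x hx1).2 _ h) (htopp _ Q.2)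
  -- (i) centralizers of nontrivial p-elements are p-groups
  have hi : ∀ g : K, g ≠ 1 → (∃ k : ℕ, orderOf g = p ^ k) →
      IsPGroup p (Subgroup.centralizer ({g} : Set K)) := by
    intro g hg1 ⟨k, hgo⟩
    have hk : k ≠ 0 := by
      rintro rfl
      rw [pow_zero, orderOf_eq_one_iff] at hgo
      exact hg1 hgo
    have hpd : p ∣ orderOf g := by rw [hgo]; exact dvd_pow_self p hk
    obtain ⟨g1, hg1def⟩ : ∃ g1 : K, g1 = g ^ (orderOf g / p) := ⟨_, rfl⟩
    have hg1o : orderOf g1 = p := by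
      rw [hg1def]; exact orderOf_pow_orderOf_div (orderOf_pos g).ne' hpd
    have hg11 : g1 ≠ 1 := by
      intro h
      rw [h, orderOf_one] at hg1o
      exact hp.one_lt.ne hg1o
    have hCeq : Subgroup.centralizer ({g1} : Set K) = Subgroup.centralizer ({g} : Set K) := by
      rw [hg1def]
      exact cm_pow9 hK _ (by rw [← hg1def]; exact hg11)
    rcases cm_l4_9 hK hp hg1o with hab | hpg
    · exfalso
      have hpz : IsPGroup p (Subgroup.zpowers g) :=
        IsPGroup.of_card (by rw [Nat.card_zpowers]; exact hgo)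
      obtain ⟨Q', hQ'⟩ := hpz.exists_le_sylow
      obtain ⟨c, hc⟩ := MulAction.exists_smul_eq K Q Q'
      have hgQ' : g ∈ (Q' : Subgroup K) := hQ' (Subgroup.mem_zpowers g)
      rw [← hc] at hgQ'
      have hgQ'' : g ∈ MulAut.conj c • (Q : Subgroup K) := hgQ'
      obtain ⟨z, hz, hzg⟩ := (Subgroup.mem_smul_pointwise_iff_exists _ _ _).mp hgQ''
      have hzg' : c * z * c⁻¹ = g := by simpa [MulAut.smul_def] using hzg
      rw [hQeq] at hz
      have hzx : z * x = x * z := Subgroup.mem_centralizer_singleton_iff.mp hz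
      obtain ⟨x', hx'def⟩ : ∃ x' : K, x' = c * x * c⁻¹ := ⟨_, rfl⟩
      have hx'1 : x' ≠ 1 := by
        intro h
        apply hx1
        have h2 : c⁻¹ * (c * x * c⁻¹) * c = c⁻¹ * 1 * c := by rw [← hx'def, h]
        simpa [mul_assoc] using h2
      have hx'g : x' * g = g * x' := by
        rw [hx'def, ← hzg']
        calc c * x * c⁻¹ * (c * z * c⁻¹) = c * (x * z) * c⁻¹ := by group
          _ = c * (z * x) * c⁻¹ := by rw [hzx]
          _ = c * z * c⁻¹ * (c * x * c⁻¹) := by group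
      have hx'C : x' ∈ Subgroup.centralizer ({g1} : Set K) := by
        rw [hCeq]; exact Subgroup.mem_centralizer_singleton_iff.mpr hx'g
      have hle : Subgroup.centralizer ({g1} : Set K) ≤ Subgroup.centralizer ({x'} : Set K) := by
        intro d hd
        exact Subgroup.mem_centralizer_singleton_iff.mpr (hab d hd x' hx'C)
      have hEq := cm_eq9 hK hg11 hx'1 hle
      apply hna
      intro a ha b hb
      have hax : a * x = x * a := Subgroup.mem_centralizer_singleton_iff.mp ha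
      have hbx : b * x = x * b := Subgroup.mem_centralizer_singleton_iff.mp hb
      have ha' : c * a * c⁻¹ ∈ Subgroup.centralizer ({g1} : Set K) := by
        rw [hEq, Subgroup.mem_centralizer_singleton_iff, hx'def]
        calc c * a * c⁻¹ * (c * x * c⁻¹) = c * (a * x) * c⁻¹ := by group
          _ = c * (x * a) * c⁻¹ := by rw [hax]
          _ = c * x * c⁻¹ * (c * a * c⁻¹) := by group
      have hb' : c * b * c⁻¹ ∈ Subgroup.centralizer ({g1} : Set K) := by
        rw [hEq, Subgroup.mem_centralizer_singleton_iff, hx'def]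
        calc c * b * c⁻¹ * (c * x * c⁻¹) = c * (b * x) * c⁻¹ := by group
          _ = c * (x * b) * c⁻¹ := by rw [hbx]
          _ = c * x * c⁻¹ * (c * b * c⁻¹) := by group
      have h3 := hab _ ha' _ hb'
      have h4 : c * (a * b) * c⁻¹ = c * (b * a) * c⁻¹ := by
        calc c * (a * b) * c⁻¹ = c * a * c⁻¹ * (c * b * c⁻¹) := by group
          _ = c * b * c⁻¹ * (c * a * c⁻¹) := h3
          _ = c * (b * a) * c⁻¹ := by group
      exact mul_left_cancel (mul_right_cancel h4)
    · rw [← hCeq]; exact hpg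
  -- (iii) an element y of the second centre
  have hna' : ∃ a b : ↥(Subgroup.centralizer ({x} : Set K)), a * b ≠ b * a := by
    by_contra hcon
    push_neg at hcon
    apply hna
    intro a ha b hb
    exact congrArg Subtype.val (hcon ⟨a, ha⟩ ⟨b, hb⟩)
  obtain ⟨u, huZ, hu⟩ := pgroup_z2_9 p hP hna'
  obtain ⟨y, hydef⟩ : ∃ y : K, y = (u : K) := ⟨_, rfl⟩
  have hyC : y ∈ Subgroup.centralizer ({x} : Set K) := by rw [hydef]; exact u.2
  have hyP : ¬ ∀ g ∈ Subgroup.centralizer ({x} : Set K), g * y = y * g := by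
    intro hall
    apply huZ
    rw [Subgroup.mem_center_iff]
    intro g
    apply Subtype.ext
    have := hall g g.2
    rw [hydef] at this
    exact this
  have hyc : ∀ g ∈ Subgroup.centralizer ({x} : Set K),
      ∀ h ∈ Subgroup.centralizer ({x} : Set K),
        h * (y⁻¹ * g⁻¹ * y * g) = (y⁻¹ * g⁻¹ * y * g) * h := by
    intro g hg h hh
    have h1 := Subgroup.mem_center_iff.mp (hu ⟨g, hg⟩) ⟨h, hh⟩
    have h2 := congrArg Subtype.val h1
    rw [hydef]
    simpa using h2
  have hy1 : y ≠ 1 := by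
    intro h
    apply hyP
    intro g _
    rw [h, mul_one, one_mul]
  have hyo : ∃ k : ℕ, orderOf y = p ^ k := by
    obtain ⟨k, hk⟩ := hP ⟨y, hyC⟩
    have hk' : y ^ p ^ k = 1 := by simpa using congrArg Subtype.val hk
    obtain ⟨i, -, hi⟩ := (Nat.dvd_prime_pow hp).1 (orderOf_dvd_of_pow_eq_one hk')
    exact ⟨i, hi⟩
  have hP2 : IsPGroup p (Subgroup.centralizer ({y} : Set K)) := hi y hy1 hyo
  obtain ⟨D, hDdef⟩ : ∃ D : Subgroup K, D = Subgroup.centralizer ({x} : Set K) ⊓
      Subgroup.centralizer ({y} : Set K) := ⟨_, rfl⟩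
  have hDmem : ∀ d : K, d ∈ D ↔ d ∈ Subgroup.centralizer ({x} : Set K) ∧
      d ∈ Subgroup.centralizer ({y} : Set K) := by
    intro d; rw [hDdef]; exact Subgroup.mem_inf
  have hyD : y ∈ D := (hDmem y).mpr ⟨hyC, Subgroup.mem_centralizer_singleton_iff.mpr rfl⟩
  -- conjugation by elements of C(x) preserves D
  have hF : ∀ g ∈ Subgroup.centralizer ({x} : Set K), ∀ d ∈ D, g * d * g⁻¹ ∈ D := by
    intro g hg d hd
    obtain ⟨hdx, hdy⟩ := (hDmem d).mp hd
    refine (hDmem _).mpr ⟨Subgroup.mul_mem _ (Subgroup.mul_mem _ hg hdx) (Subgroup.inv_mem _ hg), ?_⟩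
    rw [Subgroup.mem_centralizer_singleton_iff]
    obtain ⟨w, hw⟩ : ∃ w : K, w = y⁻¹ * g⁻¹ * y * g := ⟨_, rfl⟩
    have e1 : g⁻¹ * y * g = y * w := by rw [hw]; group
    have hdw : d * w = w * d := by rw [hw]; exact hyc g hg d hdx
    have hdy' : d * y = y * d := Subgroup.mem_centralizer_singleton_iff.mp hdy
    have hdyw : d * (y * w) = (y * w) * d := by
      rw [← mul_assoc, hdy', mul_assoc, hdw, mul_assoc]
    calc g * d * g⁻¹ * y = g * (d * (g⁻¹ * y * g)) * g⁻¹ := by group
      _ = g * ((g⁻¹ * y * g) * d) * g⁻¹ := by rw [e1, hdyw]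
      _ = y * (g * d * g⁻¹) := by group
  have hPN : Subgroup.centralizer ({x} : Set K) ≤ Subgroup.normalizer (D : Set K) := by
    intro g hg
    rw [Subgroup.mem_normalizer_iff]
    intro h
    constructor
    · intro hh
      exact hF g hg h hh
    · intro hh
      have := hF g⁻¹ (Subgroup.inv_mem _ hg) _ hh
      simpa [mul_assoc] using this
  -- an element of C(y) outside C(x) normalizing D
  have hne2 : ¬ Subgroup.centralizer ({y} : Set K) ≤ Subgroup.centralizer ({x} : Set K) := by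
    intro hle
    have hEq := cm_eq9 hK hy1 hx1 hle
    apply hyP
    intro g hg
    rw [← hEq] at hg
    exact Subgroup.mem_centralizer_singleton_iff.mp hg
  haveI : Group.IsNilpotent ↥(Subgroup.centralizer ({y} : Set K)) := hP2.isNilpotent
  have hnc : NormalizerCondition ↥(Subgroup.centralizer ({y} : Set K)) :=
    normalizerCondition_of_isNilpotent
  have hD'lt : D.subgroupOf (Subgroup.centralizer ({y} : Set K)) < ⊤ := by
    rw [lt_top_iff_ne_top]
    intro h
    rw [Subgroup.subgroupOf_eq_top] at h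
    apply hne2
    intro t ht
    exact ((hDmem t).mp (h ht)).1
  obtain ⟨g', hg'N, hg'D⟩ := SetLike.exists_of_lt (hnc _ hD'lt)
  have hg'x : (g' : K) ∉ Subgroup.centralizer ({x} : Set K) := by
    intro h
    apply hg'D
    rw [Subgroup.mem_subgroupOf]
    exact (hDmem _).mpr ⟨h, g'.2⟩
  have hg'ND : (g' : K) ∈ Subgroup.normalizer (D : Set K) := by
    rw [Subgroup.mem_normalizer_iff]
    intro h
    rw [Subgroup.mem_normalizer_iff] at hg'N
    constructor
    · intro hh
      have hhy : h ∈ Subgroup.centralizer ({y} : Set K) := ((hDmem h).mp hh).2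
      have := (hg'N ⟨h, hhy⟩).mp (Subgroup.mem_subgroupOf.mpr hh)
      exact Subgroup.mem_subgroupOf.mp this
    · intro hh
      have hhy' : (g' : K) * h * (g' : K)⁻¹ ∈ Subgroup.centralizer ({y} : Set K) :=
        ((hDmem _).mp hh).2
      have hhy : h ∈ Subgroup.centralizer ({y} : Set K) := by
        have h5 := Subgroup.mul_mem _ (Subgroup.mul_mem _ (Subgroup.inv_mem _ g'.2) hhy') g'.2
        simpa [mul_assoc] using h5
      have := (hg'N ⟨h, hhy⟩).mpr (Subgroup.mem_subgroupOf.mpr hh)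
      exact Subgroup.mem_subgroupOf.mp this
  have hNtop : Subgroup.normalizer (D : Set K) = ⊤ := by
    refine (hK x hx1).2 _ (lt_of_le_of_ne hPN ?_)
    intro h
    exact hg'x (h ▸ hg'ND)
  haveI hDn : D.Normal := Subgroup.normalizer_eq_top_iff.mp hNtop
  have hDp : IsPGroup p D := by
    rw [hDdef]; exact hP.to_le inf_le_left
  -- (iv)
  apply hyP
  intro g hg
  by_cases hg1 : g = 1
  · rw [hg1, mul_one, one_mul]
  · have hgo : ∃ k : ℕ, orderOf g = p ^ k := by
      obtain ⟨k, hk⟩ := hP ⟨g, hg⟩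
      have hk' : g ^ p ^ k = 1 := by simpa using congrArg Subtype.val hk
      obtain ⟨i, -, hi⟩ := (Nat.dvd_prime_pow hp).1 (orderOf_dvd_of_pow_eq_one hk')
      exact ⟨i, hi⟩
    have hCg : IsPGroup p (Subgroup.centralizer ({g} : Set K)) := hi g hg1 hgo
    have hsup : IsPGroup p ↥(Subgroup.centralizer ({g} : Set K) ⊔ D) :=
      IsPGroup.to_sup_of_normal_right hCg hDp
    have hsupne := htopp _ hsup
    have hsupeq : Subgroup.centralizer ({g} : Set K) ⊔ D = Subgroup.centralizer ({g} : Set K) := by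
      by_contra hne
      exact hsupne ((hK g hg1).2 _ (lt_of_le_of_ne le_sup_left (Ne.symm hne)))
    have hDle : D ≤ Subgroup.centralizer ({g} : Set K) := by
      rw [← hsupeq]; exact le_sup_right
    exact (Subgroup.mem_centralizer_singleton_iff.mp (hDle hyD)).symm

theorem cm_ca9 [Finite K]
    (hK : ∀ x : K, x ≠ 1 → IsCoatom (Subgroup.centralizer ({x} : Set K)))
    {x : K} (hx : x ≠ 1) :
    ∀ a ∈ Subgroup.centralizer ({x} : Set K), ∀ b ∈ Subgroup.centralizer ({x} : Set K),
      a * b = b * a := by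
  have hne : orderOf x ≠ 1 := fun h => hx (orderOf_eq_one_iff.mp h)
  obtain ⟨p, hp, hpx⟩ := Nat.exists_prime_and_dvd hne
  obtain ⟨x1, hx1def⟩ : ∃ x1 : K, x1 = x ^ (orderOf x / p) := ⟨_, rfl⟩
  have hx1o : orderOf x1 = p := by
    rw [hx1def]; exact orderOf_pow_orderOf_div (orderOf_pos x).ne' hpx
  have hx11 : x1 ≠ 1 := by
    intro h
    rw [h, orderOf_one] at hx1o
    exact hp.one_lt.ne hx1o
  have hCeq : Subgroup.centralizer ({x1} : Set K) = Subgroup.centralizer ({x} : Set K) := by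
    rw [hx1def]
    exact cm_pow9 hK _ (by rw [← hx1def]; exact hx11)
  rw [← hCeq]
  exact cm_main9 hK hp hx1o

theorem cm_cent9 [Finite K]
    (hK : ∀ x : K, x ≠ 1 → IsCoatom (Subgroup.centralizer ({x} : Set K)))
    {x : K} (hx : x ≠ 1) {m : K} (hm : m ∈ Subgroup.centralizer ({x} : Set K)) (hm1 : m ≠ 1) :
    Subgroup.centralizer ({m} : Set K) = Subgroup.centralizer ({x} : Set K) := by
  refine (cm_eq9 hK hx hm1 ?_).symm
  intro d hd
  exact Subgroup.mem_centralizer_singleton_iff.mpr (cm_ca9 hK hx d hd m hm)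

theorem cm_normal9 [Finite K]
    (hK : ∀ x : K, x ≠ 1 → IsCoatom (Subgroup.centralizer ({x} : Set K)))
    (hnt : ∃ x : K, x ≠ 1) :
    ∃ x : K, x ≠ 1 ∧ (Subgroup.centralizer ({x} : Set K)).Normal := by
  by_contra hcon
  push_neg at hcon
  have hself : ∀ x : K, x ≠ 1 →
      Subgroup.normalizer ((Subgroup.centralizer ({x} : Set K) : Subgroup K) : Set K) =
        Subgroup.centralizer ({x} : Set K) := by
    intro x hx
    rcases eq_or_lt_of_le
      (Subgroup.le_normalizer (H := Subgroup.centralizer ({x} : Set K))) with h | h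
    · exact h.symm
    · exact absurd (Subgroup.normalizer_eq_top_iff.mp ((hK x hx).2 _ h)) (hcon x hx)
  have hkey : ∀ x : K, x ≠ 1 → ∀ m ∈ Subgroup.centralizer ({x} : Set K), m ≠ 1 → ∀ t : K,
      t * m * t⁻¹ ∈ Subgroup.centralizer ({x} : Set K) →
        t ∈ Subgroup.centralizer ({x} : Set K) := by
    intro x hx m hm hm1 t ht
    have hm'1 : t * m * t⁻¹ ≠ 1 := by
      intro h
      apply hm1
      have h2 : t⁻¹ * (t * m * t⁻¹) * t = t⁻¹ * 1 * t := by rw [h]
      simpa [mul_assoc] using h2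
    have e1 := cm_cent9 hK hx hm hm1
    have e2 := cm_cent9 hK hx ht hm'1
    rw [← hself x hx, Subgroup.mem_normalizer_iff]
    intro h
    constructor
    · intro hh
      rw [← e1] at hh
      rw [← e2, Subgroup.mem_centralizer_singleton_iff]
      have h3 : h * m = m * h := Subgroup.mem_centralizer_singleton_iff.mp hh
      calc t * h * t⁻¹ * (t * m * t⁻¹) = t * (h * m) * t⁻¹ := by group
        _ = t * (m * h) * t⁻¹ := by rw [h3]
        _ = t * m * t⁻¹ * (t * h * t⁻¹) := by group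
    · intro hh
      rw [← e2, Subgroup.mem_centralizer_singleton_iff] at hh
      rw [← e1, Subgroup.mem_centralizer_singleton_iff]
      have h3 : t * (h * m) * t⁻¹ = t * (m * h) * t⁻¹ := by
        calc t * (h * m) * t⁻¹ = t * h * t⁻¹ * (t * m * t⁻¹) := by group
          _ = t * m * t⁻¹ * (t * h * t⁻¹) := hh
          _ = t * (m * h) * t⁻¹ := by group
      exact mul_left_cancel (mul_right_cancel h3)
  obtain ⟨F, hFdef⟩ : ∃ F : ∀ x : K, (K ⧸ Subgroup.centralizer ({x} : Set K)) ×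
      ↥(((Subgroup.centralizer ({x} : Set K) : Subgroup K) : Set K) \ {1}) → K,
      ∀ x q, F x q = q.1.out * (q.2 : K) * (q.1.out)⁻¹ :=
    ⟨fun x q => q.1.out * (q.2 : K) * (q.1.out)⁻¹, fun _ _ => rfl⟩
  have hFinj : ∀ x : K, x ≠ 1 → Function.Injective (F x) := by
    rintro x hx ⟨q, m⟩ ⟨q', m'⟩ h
    rw [hFdef, hFdef] at h
    simp only at h
    have hmC : (m : K) ∈ Subgroup.centralizer ({x} : Set K) := m.2.1
    have hm1 : (m : K) ≠ 1 := m.2.2
    have hm'C : (m' : K) ∈ Subgroup.centralizer ({x} : Set K) := m'.2.1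
    obtain ⟨t, htdef⟩ : ∃ t : K, t = q'.out⁻¹ * q.out := ⟨_, rfl⟩
    have ht : t * (m : K) * t⁻¹ = (m' : K) := by
      calc t * (m : K) * t⁻¹ = q'.out⁻¹ * (q.out * (m : K) * q.out⁻¹) * q'.out := by
            rw [htdef]; group
        _ = q'.out⁻¹ * (q'.out * (m' : K) * q'.out⁻¹) * q'.out := by rw [h]
        _ = (m' : K) := by group
    have htC : t ∈ Subgroup.centralizer ({x} : Set K) :=
      hkey x hx m hmC hm1 t (by rw [ht]; exact hm'C)
    have hq : q' = q := by
      calc q' = QuotientGroup.mk q'.out := (QuotientGroup.out_eq' q').symm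
        _ = QuotientGroup.mk q.out := QuotientGroup.eq.mpr (by rw [← htdef]; exact htC)
        _ = q := QuotientGroup.out_eq' q
    subst hq
    have hmm : (m : K) = (m' : K) := mul_left_cancel (mul_right_cancel h)
    have hmm' : m = m' := Subtype.ext hmm
    rw [hmm']
  have hFne : ∀ x : K, ∀ q, F x q ≠ 1 := by
    rintro x ⟨q, m⟩ h
    rw [hFdef] at h
    simp only at h
    have hm1 : (m : K) ≠ 1 := m.2.2
    apply hm1
    have h2 : q.out⁻¹ * (q.out * (m : K) * q.out⁻¹) * q.out = q.out⁻¹ * 1 * q.out := by rw [h]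
    simpa [mul_assoc] using h2
  have hFrange : ∀ x : K, ∀ t m : K, m ∈ Subgroup.centralizer ({x} : Set K) → m ≠ 1 →
      t * m * t⁻¹ ∈ Set.range (F x) := by
    intro x t m hm hm1
    obtain ⟨c, hc⟩ := QuotientGroup.mk_out_eq_mul (Subgroup.centralizer ({x} : Set K)) t
    have hmem : (c : K)⁻¹ * m * (c : K) ∈
        ((Subgroup.centralizer ({x} : Set K) : Subgroup K) : Set K) \ {1} := by
      refine ⟨Subgroup.mul_mem _ (Subgroup.mul_mem _ (Subgroup.inv_mem _ c.2) hm) c.2, ?_⟩
      intro h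
      apply hm1
      have h1 : (c : K)⁻¹ * m * (c : K) = 1 := h
      have h2 : (c : K) * ((c : K)⁻¹ * m * (c : K)) * (c : K)⁻¹ = (c : K) * 1 * (c : K)⁻¹ := by
        rw [h1]
      simpa [mul_assoc] using h2
    refine ⟨((t : K ⧸ Subgroup.centralizer ({x} : Set K)), ⟨(c : K)⁻¹ * m * (c : K), hmem⟩), ?_⟩
    rw [hFdef]
    show (QuotientGroup.mk t : K ⧸ Subgroup.centralizer ({x} : Set K)).out *
      ((c : K)⁻¹ * m * (c : K)) *
      ((QuotientGroup.mk t : K ⧸ Subgroup.centralizer ({x} : Set K)).out)⁻¹ = t * m * t⁻¹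
    rw [hc]
    group
  have hidx2 : ∀ x : K, x ≠ 1 → 2 ≤ (Subgroup.centralizer ({x} : Set K)).index := by
    intro x hx
    have h0 : (Subgroup.centralizer ({x} : Set K)).index ≠ 0 := Subgroup.index_ne_zero_of_finite
    have h1 : (Subgroup.centralizer ({x} : Set K)).index ≠ 1 := fun h =>
      (hK x hx).1 (Subgroup.index_eq_one.mp h)
    omega
  have hhalf : ∀ x : K, x ≠ 1 → 2 * (Subgroup.centralizer ({x} : Set K)).index ≤ Nat.card K := by
    intro x hx
    have hne : Subgroup.centralizer ({x} : Set K) ≠ ⊥ := by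
      intro h
      have hxC : x ∈ Subgroup.centralizer ({x} : Set K) :=
        Subgroup.mem_centralizer_singleton_iff.mpr rfl
      rw [h, Subgroup.mem_bot] at hxC
      exact hx hxC
    have h1 : 1 < Nat.card (Subgroup.centralizer ({x} : Set K)) :=
      (Subgroup.one_lt_card_iff_ne_bot _).mpr hne
    rw [← Subgroup.card_mul_index (Subgroup.centralizer ({x} : Set K))]
    exact Nat.mul_le_mul_right _ h1
  have hncard : ∀ x : K, x ≠ 1 →
      (Set.range (F x)).ncard + (Subgroup.centralizer ({x} : Set K)).index = Nat.card K := by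
    intro x hx
    have h1 : (Set.range (F x)).ncard = Nat.card ((K ⧸ Subgroup.centralizer ({x} : Set K)) ×
        ↥(((Subgroup.centralizer ({x} : Set K) : Subgroup K) : Set K) \ {1})) := by
      rw [← Set.image_univ, Set.ncard_image_of_injective _ (hFinj x hx), Set.ncard_univ]
    have h2 : Nat.card ↥(((Subgroup.centralizer ({x} : Set K) : Subgroup K) : Set K) \ {1}) =
        Nat.card (Subgroup.centralizer ({x} : Set K)) - 1 := by
      rw [Nat.card_coe_set_eq, Set.ncard_diff_singleton_of_mem (Subgroup.one_mem _)]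
      congr 1
    have h3 := Subgroup.card_mul_index (Subgroup.centralizer ({x} : Set K))
    have h4 : 0 < Nat.card (Subgroup.centralizer ({x} : Set K)) := Nat.card_pos
    rw [h1, Nat.card_prod, h2, ← Subgroup.index_eq_card, ← h3]
    obtain ⟨c, hc⟩ := Nat.exists_eq_succ_of_ne_zero h4.ne'
    rw [hc]
    rw [Nat.succ_sub_one, Nat.succ_mul, Nat.mul_comm]
  have hsub : ∀ x : K, Set.range (F x) ⊆ ({1}ᶜ : Set K) := by
    rintro x g ⟨q, rfl⟩
    exact hFne x q
  have hcompl : 1 + ({1}ᶜ : Set K).ncard = Nat.card K := by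
    have := Set.ncard_add_ncard_compl ({1} : Set K)
    rwa [Set.ncard_singleton] at this
  obtain ⟨x, hx⟩ := hnt
  obtain ⟨u, hu1, hurange⟩ : ∃ u : K, u ≠ 1 ∧ u ∉ Set.range (F x) := by
    by_contra hall
    push_neg at hall
    have hsub' : ({1}ᶜ : Set K) ⊆ Set.range (F x) := fun g hg => hall g hg
    have h1 := Set.ncard_le_ncard hsub' (Set.toFinite _)
    have h2 := hncard x hx
    have h3 := hidx2 x hx
    omega
  have hdisj : Disjoint (Set.range (F x)) (Set.range (F u)) := by
    rw [Set.disjoint_left]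
    rintro g ⟨⟨q, m⟩, hg⟩ ⟨⟨q', m'⟩, hg'⟩
    rw [hFdef] at hg hg'
    simp only at hg hg'
    have hmC : (m : K) ∈ Subgroup.centralizer ({x} : Set K) := m.2.1
    have hm1 : (m : K) ≠ 1 := m.2.2
    have hm'C : (m' : K) ∈ Subgroup.centralizer ({u} : Set K) := m'.2.1
    have hm'1 : (m' : K) ≠ 1 := m'.2.2
    obtain ⟨t, htdef⟩ : ∃ t : K, t = q'.out⁻¹ * q.out := ⟨_, rfl⟩
    have ht : t * (m : K) * t⁻¹ = (m' : K) := by
      calc t * (m : K) * t⁻¹ = q'.out⁻¹ * (q.out * (m : K) * q.out⁻¹) * q'.out := by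
            rw [htdef]; group
        _ = q'.out⁻¹ * (q'.out * (m' : K) * q'.out⁻¹) * q'.out := by rw [hg, hg']
        _ = (m' : K) := by group
    have hum' : u * (m' : K) = (m' : K) * u := by
      have h1 : u ∈ Subgroup.centralizer ({(m' : K)} : Set K) := by
        rw [cm_cent9 hK hu1 hm'C hm'1]
        exact Subgroup.mem_centralizer_singleton_iff.mpr rfl
      exact Subgroup.mem_centralizer_singleton_iff.mp h1
    have hm''C : t⁻¹ * u * t ∈ Subgroup.centralizer ({x} : Set K) := by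
      rw [← cm_cent9 hK hx hmC hm1, Subgroup.mem_centralizer_singleton_iff]
      calc t⁻¹ * u * t * (m : K) = t⁻¹ * (u * (t * (m : K) * t⁻¹)) * t := by group
        _ = t⁻¹ * ((t * (m : K) * t⁻¹) * u) * t := by rw [ht, hum']
        _ = (m : K) * (t⁻¹ * u * t) := by group
    have hm''1 : t⁻¹ * u * t ≠ 1 := by
      intro h
      apply hu1
      have h2 : t * (t⁻¹ * u * t) * t⁻¹ = t * 1 * t⁻¹ := by rw [h]
      simpa [mul_assoc] using h2
    apply hurange
    have h5 := hFrange x t (t⁻¹ * u * t) hm''C hm''1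
    have e5 : t * (t⁻¹ * u * t) * t⁻¹ = u := by group
    rw [e5] at h5
    exact h5
  have hun : (Set.range (F x) ∪ Set.range (F u)).ncard =
      (Set.range (F x)).ncard + (Set.range (F u)).ncard :=
    Set.ncard_union_eq hdisj (Set.toFinite _) (Set.toFinite _)
  have hle := Set.ncard_le_ncard (Set.union_subset (hsub x) (hsub u)) (Set.toFinite _)
  have h1 := hncard x hx
  have h2 := hncard u hu1
  have h3 := hhalf x hx
  have h4 := hhalf u hu1
  omega

theorem cm_quot9 {G : Type*} [Group G] [Finite G] (M : Subgroup G) [hMn : M.Normal]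
    (hM : IsCoatom M) :
    ∃ r : ℕ, r.Prime ∧ (∀ g : G, g ^ r ∈ M) ∧ (∀ a b : G, a⁻¹ * b⁻¹ * a * b ∈ M) := by
  have hidx : Nat.card (G ⧸ M) ≠ 1 := by
    rw [← Subgroup.index_eq_card]
    intro h
    exact hM.1 (Subgroup.index_eq_one.mp h)
  obtain ⟨r, hr, hrd⟩ := Nat.exists_prime_and_dvd hidx
  haveI : Fact r.Prime := ⟨hr⟩
  obtain ⟨yb, hyo⟩ := exists_prime_orderOf_dvd_card' r hrd
  obtain ⟨y, rfl⟩ := QuotientGroup.mk_surjective yb
  have hyM : y ∉ M := by
    intro h
    rw [(QuotientGroup.eq_one_iff y).mpr h, orderOf_one] at hyo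
    exact hr.one_lt.ne hyo
  have hsup : M ⊔ Subgroup.zpowers y = ⊤ := by
    refine hM.2 _ (lt_of_le_of_ne le_sup_left ?_)
    intro h
    apply hyM
    rw [h]
    exact (le_sup_right : Subgroup.zpowers y ≤ M ⊔ Subgroup.zpowers y) (Subgroup.mem_zpowers y)
  have hdec : ∀ g : G, ∃ i : ℤ, (QuotientGroup.mk g : G ⧸ M) = (QuotientGroup.mk y) ^ i := by
    intro g
    have hg : g ∈ ((M ⊔ Subgroup.zpowers y : Subgroup G) : Set G) := by
      rw [hsup]; exact Set.mem_univ g
    rw [Subgroup.normal_mul] at hg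
    obtain ⟨m, hm, z, hz, rfl⟩ := Set.mem_mul.mp hg
    obtain ⟨i, rfl⟩ := Subgroup.mem_zpowers_iff.mp hz
    refine ⟨i, ?_⟩
    rw [QuotientGroup.mk_mul, (QuotientGroup.eq_one_iff m).mpr hm, one_mul, QuotientGroup.mk_zpow]
  refine ⟨r, hr, ?_, ?_⟩
  · intro g
    obtain ⟨i, hi⟩ := hdec g
    rw [← QuotientGroup.eq_one_iff, QuotientGroup.mk_pow, hi, ← zpow_natCast, ← zpow_mul,
      mul_comm, zpow_mul, zpow_natCast, ← hyo, pow_orderOf_eq_one, one_zpow]
  · intro a b
    obtain ⟨i, hi⟩ := hdec a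
    obtain ⟨j, hj⟩ := hdec b
    have hc : (QuotientGroup.mk a : G ⧸ M) * QuotientGroup.mk b =
        QuotientGroup.mk b * QuotientGroup.mk a := by
      rw [hi, hj, ← zpow_add, ← zpow_add, add_comm]
    rw [← QuotientGroup.eq_one_iff, QuotientGroup.mk_mul, QuotientGroup.mk_mul,
      QuotientGroup.mk_mul, QuotientGroup.mk_inv, QuotientGroup.mk_inv, mul_assoc, hc]
    group

theorem cm_struct9 [Finite K]
    (hK : ∀ x : K, x ≠ 1 → IsCoatom (Subgroup.centralizer ({x} : Set K)))
    (hnt : ∃ x : K, x ≠ 1) :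
    ¬ IsMulCommutative K ∧ (∀ H : Subgroup K, H ≠ ⊤ → IsMulCommutative ↥H) ∧
      ∃ p q a : ℕ, p.Prime ∧ q.Prime ∧ p ≠ q ∧ Nat.card K = p ^ a * q ∧
        ∀ P : Subgroup K, Nat.card ↥P = p ^ a → P.Normal := by
  obtain ⟨x₀, hx₀, hMn0⟩ := cm_normal9 hK hnt
  obtain ⟨M, hMdef⟩ : ∃ M : Subgroup K, M = Subgroup.centralizer ({x₀} : Set K) := ⟨_, rfl⟩
  have hMn : M.Normal := by rw [hMdef]; exact hMn0
  haveI := hMn
  have hMco : IsCoatom M := by rw [hMdef]; exact hK x₀ hx₀
  have hMab : ∀ a ∈ M, ∀ b ∈ M, a * b = b * a := by rw [hMdef]; exact cm_ca9 hK hx₀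
  have hx₀M : x₀ ∈ M := by rw [hMdef]; exact Subgroup.mem_centralizer_singleton_iff.mpr rfl
  obtain ⟨q, hq, hpowq, hcommM⟩ := cm_quot9 M hMco
  have hout : ∀ h : K, h ∉ M → h ≠ 1 ∧ Subgroup.centralizer ({h} : Set K) ⊓ M = ⊥ := by
    intro h hh
    have hh1 : h ≠ 1 := by
      rintro rfl
      exact hh (Subgroup.one_mem _)
    refine ⟨hh1, ?_⟩
    rw [eq_bot_iff]
    intro m hm
    rw [Subgroup.mem_bot]
    by_contra hm1
    obtain ⟨hmL, hmM⟩ := Subgroup.mem_inf.mp hm
    have e1 := cm_cent9 hK hh1 hmL hm1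
    have e2 : Subgroup.centralizer ({m} : Set K) = M := by
      rw [hMdef]; exact cm_cent9 hK hx₀ (by rw [← hMdef]; exact hmM) hm1
    apply hh
    rw [← e2, e1]
    exact Subgroup.mem_centralizer_singleton_iff.mpr rfl
  have hordq : ∀ h : K, h ∉ M → orderOf h = q := by
    intro h hh
    obtain ⟨hh1, hinf⟩ := hout h hh
    have h1 : h ^ q ∈ Subgroup.centralizer ({h} : Set K) ⊓ M :=
      Subgroup.mem_inf.mpr ⟨Subgroup.mem_centralizer_singleton_iff.mpr
        ((Commute.refl h).pow_left q).eq, hpowq h⟩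
    rw [hinf, Subgroup.mem_bot] at h1
    have h2 : orderOf h ∣ q := orderOf_dvd_of_pow_eq_one h1
    rcases (Nat.dvd_prime hq).mp h2 with h3 | h3
    · exact absurd (orderOf_eq_one_iff.mp h3) hh1
    · exact h3
  obtain ⟨h₀, hh₀⟩ : ∃ h₀ : K, h₀ ∉ M := by
    by_contra hcon
    push_neg at hcon
    exact hMco.1 (eq_top_iff.mpr (fun g _ => hcon g))
  have hcardK : Nat.card M * q = Nat.card K := by
    have hdisj : Disjoint M (Subgroup.zpowers h₀) := by
      rw [disjoint_iff, eq_bot_iff]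
      intro m hm
      obtain ⟨hmM, hmz⟩ := Subgroup.mem_inf.mp hm
      have hmem : m ∈ Subgroup.centralizer ({h₀} : Set K) ⊓ M := by
        refine Subgroup.mem_inf.mpr ⟨?_, hmM⟩
        obtain ⟨i, rfl⟩ := Subgroup.mem_zpowers_iff.mp hmz
        rw [Subgroup.mem_centralizer_singleton_iff]
        exact ((Commute.refl h₀).zpow_left i).eq
      rw [(hout h₀ hh₀).2] at hmem
      exact hmem
    have hsup : M ⊔ Subgroup.zpowers h₀ = ⊤ := by
      refine hMco.2 _ (lt_of_le_of_ne le_sup_left ?_)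
      intro h
      apply hh₀
      rw [h]
      exact (le_sup_right : Subgroup.zpowers h₀ ≤ M ⊔ Subgroup.zpowers h₀)
        (Subgroup.mem_zpowers h₀)
    have hmul : ((M : Set K) * (Subgroup.zpowers h₀ : Set K)) = Set.univ := by
      rw [← Subgroup.normal_mul, hsup, Subgroup.coe_top]
    have hcomp := Subgroup.isComplement'_of_disjoint_and_mul_eq_univ hdisj hmul
    have hcc := hcomp.card_mul_card
    rw [Nat.card_zpowers, hordq h₀ hh₀] at hcc
    exact hcc
  have hminimal : ∀ T : Subgroup K, T.Normal → T ≤ M → T ≠ ⊥ → T = M := by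
    intro T hTn hTM hT
    haveI := hTn
    obtain ⟨hh1, hinf⟩ := hout h₀ hh₀
    have hTL : Disjoint T (Subgroup.centralizer ({h₀} : Set K)) := by
      rw [disjoint_iff, eq_bot_iff, ← hinf]
      intro m hm
      obtain ⟨h1, h2⟩ := Subgroup.mem_inf.mp hm
      exact Subgroup.mem_inf.mpr ⟨h2, hTM h1⟩
    have hML : Disjoint M (Subgroup.centralizer ({h₀} : Set K)) := by
      rw [disjoint_iff, inf_comm]; exact hinf
    have hsupM : M ⊔ Subgroup.centralizer ({h₀} : Set K) = ⊤ := by
      refine hMco.2 _ (lt_of_le_of_ne le_sup_left ?_)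
      intro h
      apply hh₀
      rw [h]
      exact (le_sup_right : Subgroup.centralizer ({h₀} : Set K) ≤
        M ⊔ Subgroup.centralizer ({h₀} : Set K)) (Subgroup.mem_centralizer_singleton_iff.mpr rfl)
    have hsupT : T ⊔ Subgroup.centralizer ({h₀} : Set K) = ⊤ := by
      rw [sup_comm]
      refine (hK h₀ hh1).2 _ (lt_of_le_of_ne le_sup_left ?_)
      intro h
      apply hT
      rw [eq_bot_iff]
      intro t ht
      have htC : t ∈ Subgroup.centralizer ({h₀} : Set K) := by
        rw [h]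
        exact (le_sup_right : T ≤ Subgroup.centralizer ({h₀} : Set K) ⊔ T) ht
      have hmem : t ∈ T ⊓ Subgroup.centralizer ({h₀} : Set K) := Subgroup.mem_inf.mpr ⟨ht, htC⟩
      rw [hTL.eq_bot] at hmem
      exact hmem
    have c1 := (Subgroup.isComplement'_of_disjoint_and_mul_eq_univ hML
      (by rw [← Subgroup.normal_mul, hsupM, Subgroup.coe_top])).card_mul_card
    have c2 := (Subgroup.isComplement'_of_disjoint_and_mul_eq_univ hTL
      (by rw [← Subgroup.normal_mul, hsupT, Subgroup.coe_top])).card_mul_card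
    have hpos : 0 < Nat.card (Subgroup.centralizer ({h₀} : Set K)) := Nat.card_pos
    have hcard : Nat.card T = Nat.card M := Nat.eq_of_mul_eq_mul_right hpos (c2.trans c1.symm)
    exact Subgroup.eq_of_le_of_card_ge hTM hcard.ge
  have hMne : M ≠ ⊥ := by
    intro h
    rw [h, Subgroup.mem_bot] at hx₀M
    exact hx₀ hx₀M
  have hMcard1 : Nat.card M ≠ 1 := fun h => hMne (Subgroup.eq_bot_of_card_eq M h)
  obtain ⟨p, hp, hpM⟩ := Nat.exists_prime_and_dvd hMcard1
  haveI : Fact p.Prime := ⟨hp⟩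
  obtain ⟨⟨m₀, hm₀M⟩, hm₀o⟩ := exists_prime_orderOf_dvd_card' p hpM
  have hm₀o' : orderOf m₀ = p := by
    rw [← hm₀o]
    exact Subgroup.orderOf_coe (⟨m₀, hm₀M⟩ : ↥M)
  let T : Subgroup K :=
    { carrier := {m : K | m ∈ M ∧ m ^ p = 1}
      mul_mem' := by
        rintro a b ⟨ha, ha1⟩ ⟨hb, hb1⟩
        refine ⟨Subgroup.mul_mem _ ha hb, ?_⟩
        have hc : Commute a b := hMab a ha b hb
        rw [hc.mul_pow, ha1, hb1, one_mul]
      one_mem' := ⟨Subgroup.one_mem _, one_pow _⟩
      inv_mem' := by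
        rintro a ⟨ha, ha1⟩
        exact ⟨Subgroup.inv_mem _ ha, by rw [inv_pow, ha1, inv_one]⟩ }
  have hTmem : ∀ m : K, m ∈ T ↔ m ∈ M ∧ m ^ p = 1 := fun m => Iff.rfl
  have hTn : T.Normal := ⟨fun m hm g => by
    obtain ⟨hmM, hm1⟩ := (hTmem m).mp hm
    refine (hTmem _).mpr ⟨hMn.conj_mem m hmM g, ?_⟩
    rw [conj_pow, hm1, mul_one, mul_inv_cancel]⟩
  have hTM : T ≤ M := fun m hm => ((hTmem m).mp hm).1
  have hTne : T ≠ ⊥ := by
    intro h
    have hm₀T : m₀ ∈ T := (hTmem m₀).mpr ⟨hm₀M, by rw [← hm₀o']; exact pow_orderOf_eq_one m₀⟩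
    rw [h, Subgroup.mem_bot] at hm₀T
    rw [hm₀T, orderOf_one] at hm₀o'
    exact hp.one_lt.ne hm₀o'
  have hTeq := hminimal T hTn hTM hTne
  have hMexp : ∀ m ∈ M, m ^ p = 1 := by
    intro m hm
    rw [← hTeq] at hm
    exact ((hTmem m).mp hm).2
  have hMp : IsPGroup p M := by
    rintro ⟨m, hm⟩
    refine ⟨1, ?_⟩
    apply Subtype.ext
    rw [Subgroup.coe_pow, pow_one, Subgroup.coe_one]
    exact hMexp m hm
  obtain ⟨a, ha⟩ := IsPGroup.iff_card.mp hMp
  have hpq : p ≠ q := by
    intro h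
    apply cm_notp9 hK hnt p
    apply IsPGroup.of_card (n := a + 1)
    rw [← hcardK, ha, ← h, pow_succ]
  have hSyl : ∀ P : Subgroup K, Nat.card ↥P = p ^ a → P.Normal := by
    intro P hP
    have hPM : P ≤ M := by
      intro s hs
      by_contra hsM
      have h1 := hordq s hsM
      have h2 : orderOf s ∣ Nat.card P := orderOf_dvd_card_of_mem9 hs
      rw [h1, hP] at h2
      exact hpq ((Nat.prime_dvd_prime_iff_eq hq hp).mp (hq.dvd_of_dvd_pow h2)).symm
    have hPeq : P = M := Subgroup.eq_of_le_of_card_ge hPM (by rw [hP, ha])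
    rw [hPeq]; exact hMn
  refine ⟨?_, ?_, p, q, a, hp, hq, hpq, by rw [← hcardK, ha], hSyl⟩
  · intro hc
    apply hMco.1
    rw [eq_top_iff, hMdef]
    intro g _
    rw [Subgroup.mem_centralizer_singleton_iff]
    exact hc.is_comm.comm g x₀
  · intro H hH
    by_cases hHM : H ≤ M
    · exact ⟨⟨fun a b => Subtype.ext (hMab a (hHM a.2) b (hHM b.2))⟩⟩
    · obtain ⟨s, hsH, hsM⟩ := SetLike.not_le_iff_exists.mp hHM
      have hsupHM : M ⊔ H = ⊤ := by
        refine hMco.2 _ (lt_of_le_of_ne le_sup_left ?_)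
        intro h
        apply hsM
        rw [h]
        exact (le_sup_right : H ≤ M ⊔ H) hsH
      have hTn' : (H ⊓ M).Normal := by
        refine ⟨fun t ht g => ?_⟩
        obtain ⟨htH, htM⟩ := Subgroup.mem_inf.mp ht
        have hg : g ∈ ((M ⊔ H : Subgroup K) : Set K) := by
          rw [hsupHM]; exact Set.mem_univ g
        rw [Subgroup.normal_mul] at hg
        obtain ⟨m, hm, h', hh', rfl⟩ := Set.mem_mul.mp hg
        have h1 : h' * t * h'⁻¹ ∈ M := hMn.conj_mem t htM h'
        have h2 : h' * t * h'⁻¹ ∈ H :=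
          Subgroup.mul_mem _ (Subgroup.mul_mem _ hh' htH) (Subgroup.inv_mem _ hh')
        have h3 : m * h' * t * (m * h')⁻¹ = h' * t * h'⁻¹ := by
          have hc := hMab m hm _ h1
          calc m * h' * t * (m * h')⁻¹ = m * (h' * t * h'⁻¹) * m⁻¹ := by group
            _ = (h' * t * h'⁻¹) * m * m⁻¹ := by rw [hc]
            _ = h' * t * h'⁻¹ := by group
        rw [h3]
        exact Subgroup.mem_inf.mpr ⟨h2, h1⟩
      have hbot : H ⊓ M = ⊥ := by
        by_contra hne
        have hEq := hminimal (H ⊓ M) hTn' inf_le_right hne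
        apply hH
        have hMH : M ≤ H := by
          rw [← hEq]; exact inf_le_left
        rw [eq_top_iff, ← hsupHM]
        exact sup_le hMH le_rfl
      refine ⟨⟨fun a b => ?_⟩⟩
      apply Subtype.ext
      have h1 : (a : K)⁻¹ * (b : K)⁻¹ * (a : K) * (b : K) ∈ H ⊓ M :=
        Subgroup.mem_inf.mpr ⟨Subgroup.mul_mem _ (Subgroup.mul_mem _ (Subgroup.mul_mem _
          (Subgroup.inv_mem _ a.2) (Subgroup.inv_mem _ b.2)) a.2) b.2, hcommM a b⟩
      rw [hbot, Subgroup.mem_bot] at h1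
      show (a : K) * (b : K) = (b : K) * (a : K)
      have h2 : (b : K) * (a : K) * ((a : K)⁻¹ * (b : K)⁻¹ * (a : K) * (b : K)) =
          (a : K) * (b : K) := by group
      rw [h1, mul_one] at h2
      exact h2.symm

end CMax9

section CMaxG9

variable {G : Type*} [Group G]

theorem mem_of_pow_coprime9 (H : Subgroup G) (g : G) {a b : ℕ} (hcop : a.Coprime b)
    (ha : g ^ a ∈ H) (hb : g ^ b ∈ H) : g ∈ H := by
  have hbez := Nat.gcd_eq_gcd_ab a b
  rw [Nat.Coprime.gcd_eq_one hcop] at hbez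
  have h1 : (g ^ a) ^ (Nat.gcdA a b) * (g ^ b) ^ (Nat.gcdB a b) = g := by
    rw [← zpow_natCast g a, ← zpow_natCast g b, ← zpow_mul, ← zpow_mul, ← zpow_add, ← hbez]
    simp
  rw [← h1]
  exact Subgroup.mul_mem _ (Subgroup.zpow_mem _ ha _) (Subgroup.zpow_mem _ hb _)

theorem conj_cent9 (u y : G)
    (hz : ∀ t : G, t * (y⁻¹ * u⁻¹ * y * u) = (y⁻¹ * u⁻¹ * y * u) * t) :
    ∀ t : G, t * y = y * t → (u * t * u⁻¹) * y = y * (u * t * u⁻¹) := by
  intro t ht
  obtain ⟨w, hw⟩ : ∃ w : G, w = y⁻¹ * u⁻¹ * y * u := ⟨_, rfl⟩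
  have e1 : u⁻¹ * y * u = y * w := by rw [hw]; group
  have htw : t * w = w * t := by rw [hw]; exact hz t
  have htyw : t * (y * w) = (y * w) * t := by
    rw [← mul_assoc, ht, mul_assoc, htw, mul_assoc]
  calc u * t * u⁻¹ * y = u * (t * (u⁻¹ * y * u)) * u⁻¹ := by group
    _ = u * ((u⁻¹ * y * u) * t) * u⁻¹ := by rw [e1, htyw]
    _ = y * (u * t * u⁻¹) := by group

theorem conj_pow_cent9 (x g : G)
    (hz : x * (x⁻¹ * g⁻¹ * x * g) = (x⁻¹ * g⁻¹ * x * g) * x) (k : ℕ) :
    g⁻¹ * x ^ k * g = x ^ k * (x⁻¹ * g⁻¹ * x * g) ^ k := by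
  obtain ⟨w, hw⟩ : ∃ w : G, w = x⁻¹ * g⁻¹ * x * g := ⟨_, rfl⟩
  rw [← hw] at hz ⊢
  have e1 : g⁻¹ * x * g = x * w := by rw [hw]; group
  have h0 : (g⁻¹ * x * g) ^ k = g⁻¹ * x ^ k * g := by
    have h := conj_pow (a := g⁻¹) (b := x) (i := k)
    rw [inv_inv] at h
    exact h
  have hc : Commute x w := hz
  rw [← h0, e1, hc.mul_pow]

theorem cmG_coprime9
    (h : ∀ x : G, x ∉ Subgroup.center G → IsCoatom (Subgroup.centralizer ({x} : Set G)))
    {a b : G} (hab : a * b = b * a) (hcop : (orderOf a).Coprime (orderOf b))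
    (hb : b ∉ Subgroup.center G) :
    Subgroup.centralizer ({b} : Set G) ≤ Subgroup.centralizer ({a} : Set G) := by
  obtain ⟨m, hm⟩ := exists_pow_eq_self_of_coprime (x := a) (n := orderOf b) hcop.symm
  obtain ⟨m', hm'⟩ := exists_pow_eq_self_of_coprime (x := b) (n := orderOf a) hcop
  have hcomm : Commute a b := hab
  have hpowa : ((a * b) ^ orderOf b) ^ m = a := by
    rw [hcomm.mul_pow, pow_orderOf_eq_one, mul_one]; exact hm
  have hpowb : ((a * b) ^ orderOf a) ^ m' = b := by
    rw [hcomm.mul_pow, pow_orderOf_eq_one, one_mul]; exact hm'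
  have hv : a * b ∉ Subgroup.center G := by
    intro hc
    apply hb
    rw [← hpowb]
    exact Subgroup.pow_mem _ (Subgroup.pow_mem _ hc _) _
  have h1 : Subgroup.centralizer ({a * b} : Set G) ≤ Subgroup.centralizer ({b} : Set G) := by
    intro g hg
    rw [Subgroup.mem_centralizer_singleton_iff] at hg ⊢
    have h0 : Commute g (a * b) := hg
    have h2 : Commute g (((a * b) ^ orderOf a) ^ m') := (h0.pow_right _).pow_right _
    rw [hpowb] at h2
    exact h2
  have h2 : Subgroup.centralizer ({a * b} : Set G) ≤ Subgroup.centralizer ({a} : Set G) := by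
    intro g hg
    rw [Subgroup.mem_centralizer_singleton_iff] at hg ⊢
    have h0 : Commute g (a * b) := hg
    have h2 : Commute g (((a * b) ^ orderOf b) ^ m) := (h0.pow_right _).pow_right _
    rw [hpowa] at h2
    exact h2
  have h3 : Subgroup.centralizer ({a * b} : Set G) = Subgroup.centralizer ({b} : Set G) := by
    rcases eq_or_lt_of_le h1 with h4 | h4
    · exact h4
    · exact absurd ((h _ hv).2 _ h4) (h b hb).1
  rw [← h3]; exact h2

theorem cm_caseA9 [Finite G]
    (h : ∀ x : G, x ∉ Subgroup.center G → IsCoatom (Subgroup.centralizer ({x} : Set G)))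
    (x : G) (hx : x ∉ Subgroup.center G)
    (hx2 : ∀ g : G, x⁻¹ * g⁻¹ * x * g ∈ Subgroup.center G) :
    ∃ p : ℕ, p.Prime ∧ (∀ a b : G, a⁻¹ * b⁻¹ * a * b ∈ Subgroup.center G) ∧
      ∀ a : G, a ^ p ∈ Subgroup.center G := by
  have hcz : ∀ g t : G, t * (x⁻¹ * g⁻¹ * x * g) = (x⁻¹ * g⁻¹ * x * g) * t :=
    fun g t => Subgroup.mem_center_iff.mp (hx2 g) t
  have hcoat : ∀ u v : G, u ∉ Subgroup.center G → v ∉ Subgroup.center G →
      Subgroup.centralizer ({u} : Set G) ≤ Subgroup.centralizer ({v} : Set G) →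
      Subgroup.centralizer ({u} : Set G) = Subgroup.centralizer ({v} : Set G) := by
    intro u v hu hv hle
    rcases eq_or_lt_of_le hle with h4 | h4
    · exact h4
    · exact absurd ((h u hu).2 _ h4) (h v hv).1
  haveI hMn : (Subgroup.centralizer ({x} : Set G)).Normal := ⟨fun m hm g => by
    rw [Subgroup.mem_centralizer_singleton_iff] at hm ⊢
    exact conj_cent9 g x (hcz g) m hm⟩
  obtain ⟨p, hp, hpowp, hcommp⟩ := cm_quot9 (Subgroup.centralizer ({x} : Set G)) (h x hx)
  have hcM : ∀ m : G, m ∈ Subgroup.centralizer ({x} : Set G) → x⁻¹ * m⁻¹ * x * m = 1 := by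
    intro m hm
    have hmx : m * x = x * m := Subgroup.mem_centralizer_singleton_iff.mp hm
    calc x⁻¹ * m⁻¹ * x * m = x⁻¹ * m⁻¹ * (x * m) := by group
      _ = x⁻¹ * m⁻¹ * (m * x) := by rw [hmx]
      _ = 1 := by group
  have hcM' : ∀ t : G, x⁻¹ * t⁻¹ * x * t = 1 → t ∈ Subgroup.centralizer ({x} : Set G) := by
    intro t ht
    rw [Subgroup.mem_centralizer_singleton_iff]
    have e : t * x * (x⁻¹ * t⁻¹ * x * t) = x * t := by group
    rw [ht, mul_one] at e
    exact e
  have hchom : ∀ g g' : G, x⁻¹ * (g * g')⁻¹ * x * (g * g') =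
      (x⁻¹ * g⁻¹ * x * g) * (x⁻¹ * g'⁻¹ * x * g') := by
    intro g g'
    obtain ⟨w, hw⟩ : ∃ w : G, w = x⁻¹ * g⁻¹ * x * g := ⟨_, rfl⟩
    have e1 : g⁻¹ * x * g = x * w := by rw [hw]; group
    have hwg : w * g' = g' * w := by rw [hw]; exact (hcz g g').symm
    have hwc : (x⁻¹ * g'⁻¹ * x * g') * w = w * (x⁻¹ * g'⁻¹ * x * g') := by
      rw [hw]; exact hcz g _
    rw [← hw]
    calc x⁻¹ * (g * g')⁻¹ * x * (g * g') = x⁻¹ * g'⁻¹ * (g⁻¹ * x * g) * g' := by group
      _ = x⁻¹ * g'⁻¹ * (x * w) * g' := by rw [e1]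
      _ = x⁻¹ * g'⁻¹ * x * (w * g') := by group
      _ = x⁻¹ * g'⁻¹ * x * (g' * w) := by rw [hwg]
      _ = (x⁻¹ * g'⁻¹ * x * g') * w := by group
      _ = w * (x⁻¹ * g'⁻¹ * x * g') := hwc
  have hcpowg : ∀ (g : G) (k : ℕ), x⁻¹ * (g ^ k)⁻¹ * x * g ^ k = (x⁻¹ * g⁻¹ * x * g) ^ k := by
    intro g k
    induction k with
    | zero => simp
    | succ k ih => rw [pow_succ, hchom, ih, pow_succ]
  have hcp : ∀ g : G, (x⁻¹ * g⁻¹ * x * g) ^ p = 1 := by
    intro g
    rw [← hcpowg]
    exact hcM _ (hpowp g)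
  have hconj : ∀ (g : G) (k : ℕ), g⁻¹ * x ^ k * g = x ^ k * (x⁻¹ * g⁻¹ * x * g) ^ k :=
    fun g k => conj_pow_cent9 x g (hcz g x) k
  have hA1 : ∀ g₀ : G, g₀ ∉ Subgroup.center G → ∀ q k : ℕ, q.Prime → q ≠ p →
      orderOf g₀ = q ^ k →
        Subgroup.centralizer ({g₀} : Set G) = Subgroup.centralizer ({x} : Set G) := by
    intro g₀ hg₀ q k hq hqp hgo
    have hcop : (q ^ k).Coprime p := Nat.Coprime.pow_left k ((Nat.coprime_primes hq hp).mpr hqp)
    have hg₀M : g₀ ∈ Subgroup.centralizer ({x} : Set G) := by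
      refine mem_of_pow_coprime9 _ g₀ hcop ?_ (hpowp g₀)
      rw [← hgo, pow_orderOf_eq_one]; exact Subgroup.one_mem _
    have hg₀x : g₀ * x = x * g₀ := Subgroup.mem_centralizer_singleton_iff.mp hg₀M
    have hle : Subgroup.centralizer ({x * g₀} : Set G) ≤ Subgroup.centralizer ({x} : Set G) := by
      intro t ht
      rw [Subgroup.mem_centralizer_singleton_iff] at ht
      have h0 : Commute t (x * g₀) := ht
      have h1 : Commute t ((x * g₀) ^ orderOf g₀) := h0.pow_right _
      have hxg : Commute x g₀ := hg₀x.symm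
      rw [hxg.mul_pow, pow_orderOf_eq_one, mul_one] at h1
      have h2 := hconj t (orderOf g₀)
      have h3 : t⁻¹ * x ^ orderOf g₀ * t = x ^ orderOf g₀ := by
        rw [mul_assoc, ← h1.eq, inv_mul_cancel_left]
      rw [h3] at h2
      have h4 : (1 : G) = (x⁻¹ * t⁻¹ * x * t) ^ orderOf g₀ :=
        mul_left_cancel (a := x ^ orderOf g₀) (by rw [mul_one]; exact h2)
      have h5 : x⁻¹ * t⁻¹ * x * t ∈ (⊥ : Subgroup G) := by
        refine mem_of_pow_coprime9 ⊥ _ (a := orderOf g₀) (b := p) (by rw [hgo]; exact hcop) ?_ ?_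
        · rw [← h4]; exact Subgroup.one_mem _
        · rw [hcp]; exact Subgroup.one_mem _
      exact hcM' t (Subgroup.mem_bot.mp h5)
    have hw : x * g₀ ∉ Subgroup.center G := by
      intro hc
      apply hx
      rw [Subgroup.mem_center_iff]
      intro t
      have ht : t ∈ Subgroup.centralizer ({x} : Set G) :=
        hle (Subgroup.mem_centralizer_singleton_iff.mpr (Subgroup.mem_center_iff.mp hc t))
      exact Subgroup.mem_centralizer_singleton_iff.mp ht
    have hEq := hcoat _ _ hw hx hle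
    have hle2 : Subgroup.centralizer ({x} : Set G) ≤ Subgroup.centralizer ({g₀} : Set G) := by
      intro t ht
      have ht' : t ∈ Subgroup.centralizer ({x * g₀} : Set G) := by rw [hEq]; exact ht
      rw [Subgroup.mem_centralizer_singleton_iff] at ht ht' ⊢
      have h1 : Commute t x := ht
      have h2 : Commute t (x * g₀) := ht'
      have h3 : Commute t (x⁻¹ * (x * g₀)) := h1.inv_right.mul_right h2
      rw [inv_mul_cancel_left] at h3
      exact h3
    exact (hcoat _ _ hx hg₀ hle2).symm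
  have hprim : ∀ g₀ : G, g₀ ∉ Subgroup.center G → ∀ q k : ℕ, q.Prime →
      orderOf g₀ = q ^ k → q = p := by
    intro g₀ hg₀ q k hq hgo
    by_contra hqp
    have hCg₀ := hA1 g₀ hg₀ q k hq hqp hgo
    have h7 : ∀ t : G, t ∈ Subgroup.centralizer ({x} : Set G) → t ∉ Subgroup.center G →
        ∀ r j : ℕ, r.Prime → orderOf t = r ^ j →
          Subgroup.centralizer ({t} : Set G) = Subgroup.centralizer ({x} : Set G) := by
      intro t htM htZ r j hr hto
      by_cases hrp : r = p
      · have htg : t * g₀ = g₀ * t := by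
          rw [← hCg₀] at htM
          exact Subgroup.mem_centralizer_singleton_iff.mp htM
        have hcop : (orderOf t).Coprime (orderOf g₀) := by
          rw [hto, hgo, hrp]
          exact Nat.Coprime.pow _ _ ((Nat.coprime_primes hp hq).mpr (Ne.symm hqp))
        have hle := cmG_coprime9 h htg hcop hg₀
        rw [hCg₀] at hle
        exact (hcoat _ _ hx htZ hle).symm
      · exact hA1 t htZ r j hr hrp hto
    have h8 : ∀ y : G, y ∉ Subgroup.centralizer ({x} : Set G) →
        ∀ t : G, t ∈ Subgroup.centralizer ({x} : Set G) → t * y = y * t →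
          t ∈ Subgroup.center G := by
      intro y hy t htM hty
      refine mem_of_prime_pow_parts9 _ (orderOf t) t rfl (orderOf_pos t) ?_
      intro m r j hr hord
      by_contra hnZ
      have hC := h7 (t ^ m) (Subgroup.pow_mem _ htM m) hnZ r j hr hord
      apply hy
      rw [← hC, Subgroup.mem_centralizer_singleton_iff]
      exact ((show Commute t y from hty).pow_left m).symm.eq
    obtain ⟨y, hy⟩ : ∃ y : G, y ∉ Subgroup.centralizer ({x} : Set G) := by
      by_contra hcon
      push_neg at hcon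
      exact (h x hx).1 (eq_top_iff.mpr (fun g _ => hcon g))
    have hyZ : y ∉ Subgroup.center G := fun hc => hy (Subgroup.center_le_centralizer _ hc)
    have hxL : x ∉ Subgroup.centralizer ({y} : Set G) := by
      intro hc
      apply hy
      rw [Subgroup.mem_centralizer_singleton_iff] at hc ⊢
      exact hc.symm
    have hcz' : ∀ t : G, t * (y⁻¹ * x⁻¹ * y * x) = (y⁻¹ * x⁻¹ * y * x) * t := by
      intro t
      have e : y⁻¹ * x⁻¹ * y * x = (x⁻¹ * y⁻¹ * x * y)⁻¹ := by group
      rw [e]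
      exact ((show Commute t _ from hcz y t).inv_right).eq
    have hcz'' : ∀ t : G, t * (y⁻¹ * x⁻¹⁻¹ * y * x⁻¹) = (y⁻¹ * x⁻¹⁻¹ * y * x⁻¹) * t := by
      intro t
      have e : y⁻¹ * x⁻¹⁻¹ * y * x⁻¹ = x * (x⁻¹ * y⁻¹ * x * y) * x⁻¹ := by group
      have e2 : x * (x⁻¹ * y⁻¹ * x * y) * x⁻¹ = x⁻¹ * y⁻¹ * x * y := by
        rw [hcz y x, mul_inv_cancel_right]
      rw [e, e2]
      exact hcz y t
    have hLN : Subgroup.normalizer
        ((Subgroup.centralizer ({y} : Set G) : Subgroup G) : Set G) = ⊤ := by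
      refine (h y hyZ).2 _ (lt_of_le_of_ne Subgroup.le_normalizer ?_)
      intro hEq
      apply hxL
      rw [hEq, Subgroup.mem_normalizer_iff]
      intro t
      constructor
      · intro ht
        rw [Subgroup.mem_centralizer_singleton_iff] at ht ⊢
        exact conj_cent9 x y hcz' t ht
      · intro ht
        rw [Subgroup.mem_centralizer_singleton_iff] at ht ⊢
        have h9 := conj_cent9 x⁻¹ y hcz'' _ ht
        simpa [mul_assoc] using h9
    haveI hLn : (Subgroup.centralizer ({y} : Set G)).Normal :=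
      Subgroup.normalizer_eq_top_iff.mp hLN
    obtain ⟨r, hr, hpowr, hcommr⟩ := cm_quot9 (Subgroup.centralizer ({y} : Set G)) (h y hyZ)
    have hG' : ∀ a b : G, a⁻¹ * b⁻¹ * a * b ∈ Subgroup.center G := by
      intro a b
      exact h8 y hy _ (hcommp a b) (Subgroup.mem_centralizer_singleton_iff.mp (hcommr a b))
    obtain ⟨w, hw⟩ : ∃ w : G, w = g₀⁻¹ * y⁻¹ * g₀ * y := ⟨_, rfl⟩
    have hwZ : w ∈ Subgroup.center G := by rw [hw]; exact hG' g₀ y
    have h1 := conj_pow_cent9 g₀ y
      (by rw [← hw]; exact Subgroup.mem_center_iff.mp hwZ g₀) (orderOf g₀)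
    rw [pow_orderOf_eq_one, mul_one, inv_mul_cancel, one_mul, ← hw] at h1
    obtain ⟨w₂, hw₂⟩ : ∃ w₂ : G, w₂ = y⁻¹ * g₀⁻¹ * y * g₀ := ⟨_, rfl⟩
    have hw₂Z : w₂ ∈ Subgroup.center G := by rw [hw₂]; exact hG' y g₀
    have h2 := conj_pow_cent9 y g₀
      (by rw [← hw₂]; exact Subgroup.mem_center_iff.mp hw₂Z y) p
    have hypM : y ^ p ∈ Subgroup.centralizer ({g₀} : Set G) := by
      rw [hCg₀]; exact hpowp y
    have hyp : g₀⁻¹ * y ^ p * g₀ = y ^ p := by
      have h3 : y ^ p * g₀ = g₀ * y ^ p := Subgroup.mem_centralizer_singleton_iff.mp hypM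
      rw [mul_assoc, h3, inv_mul_cancel_left]
    rw [hyp, ← hw₂] at h2
    have h4 : (1 : G) = w₂ ^ p := mul_left_cancel (a := y ^ p) (by rw [mul_one]; exact h2)
    have hww : w₂ = w⁻¹ := by rw [hw, hw₂]; group
    have h5 : w ^ p = 1 := by
      rw [hww, inv_pow] at h4
      exact inv_eq_one.mp h4.symm
    have h6 : w ∈ (⊥ : Subgroup G) := by
      refine mem_of_pow_coprime9 ⊥ w (a := orderOf g₀) (b := p) ?_ ?_ ?_
      · rw [hgo]; exact Nat.Coprime.pow_left k ((Nat.coprime_primes hq hp).mpr hqp)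
      · rw [← h1]; exact Subgroup.one_mem _
      · rw [h5]; exact Subgroup.one_mem _
    rw [Subgroup.mem_bot, hw] at h6
    apply hy
    rw [← hCg₀, Subgroup.mem_centralizer_singleton_iff]
    have e : g₀ * y * (g₀⁻¹ * y⁻¹ * g₀ * y)⁻¹ = y * g₀ := by group
    rw [h6, inv_one, mul_one] at e
    exact e.symm
  have hpg : ∀ g : G, ∃ k : ℕ, g ^ p ^ k ∈ Subgroup.center G := by
    intro g
    obtain ⟨e, b, hpb, hnb⟩ := Nat.exists_eq_pow_mul_and_not_dvd (orderOf_pos g).ne' p hp.ne_one
    refine ⟨e, ?_⟩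
    refine mem_of_prime_pow_parts9 _ (orderOf (g ^ p ^ e)) (g ^ p ^ e) rfl (orderOf_pos _) ?_
    intro m r j hr hord
    by_contra hnZ
    have hrp := hprim _ hnZ r j hr hord
    have h1 : ((g ^ p ^ e) ^ m) ^ b = 1 := by
      rw [← pow_mul, ← pow_mul, mul_comm m b, ← mul_assoc, ← hnb, pow_mul, pow_orderOf_eq_one,
        one_pow]
    have h2 : orderOf ((g ^ p ^ e) ^ m) ∣ b := orderOf_dvd_of_pow_eq_one h1
    rw [hord, hrp] at h2
    rcases Nat.eq_zero_or_pos j with hj | hj
    · rw [hj, pow_zero, orderOf_eq_one_iff] at hord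
      apply hnZ
      rw [hord]; exact Subgroup.one_mem _
    · exact hpb ((dvd_pow_self p hj.ne').trans h2)
  haveI : Fact p.Prime := ⟨hp⟩
  have hpQ : IsPGroup p (G ⧸ Subgroup.center G) := by
    intro gb
    obtain ⟨g, rfl⟩ := QuotientGroup.mk_surjective gb
    obtain ⟨k, hk⟩ := hpg g
    exact ⟨k, by rw [← QuotientGroup.mk_pow]; exact (QuotientGroup.eq_one_iff _).mpr hk⟩
  haveI hnilQ : Group.IsNilpotent (G ⧸ Subgroup.center G) := hpQ.isNilpotent
  haveI hnil : Group.IsNilpotent G := Group.of_quotient_center_nilpotent hnilQ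
  have hnc : NormalizerCondition G := normalizerCondition_of_isNilpotent
  have hall : ∀ x' : G, x' ∉ Subgroup.center G →
      (∀ g : G, g ^ p ∈ Subgroup.centralizer ({x'} : Set G)) ∧
      (∀ a b : G, a⁻¹ * b⁻¹ * a * b ∈ Subgroup.centralizer ({x'} : Set G)) := by
    intro x' hx'
    haveI hn' : (Subgroup.centralizer ({x'} : Set G)).Normal :=
      Subgroup.NormalizerCondition.normal_of_coatom _ hnc (h x' hx')
    obtain ⟨r, hr, hpowr, hcommr⟩ := cm_quot9 (Subgroup.centralizer ({x'} : Set G)) (h x' hx')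
    have hrp : r = p := by
      by_contra hne
      obtain ⟨g, hg⟩ : ∃ g : G, g ∉ Subgroup.centralizer ({x'} : Set G) := by
        by_contra hcon
        push_neg at hcon
        exact (h x' hx').1 (eq_top_iff.mpr (fun g _ => hcon g))
      obtain ⟨k, hk⟩ := hpg g
      apply hg
      exact mem_of_pow_coprime9 _ g
        (Nat.Coprime.pow_right k ((Nat.coprime_primes hr hp).mpr hne))
        (hpowr g) (Subgroup.center_le_centralizer _ hk)
    rw [hrp] at hpowr
    exact ⟨hpowr, hcommr⟩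
  refine ⟨p, hp, ?_, ?_⟩
  · intro a b
    rw [Subgroup.mem_center_iff]
    intro t
    by_cases ht : t ∈ Subgroup.center G
    · exact (Subgroup.mem_center_iff.mp ht _).symm
    · exact (Subgroup.mem_centralizer_singleton_iff.mp ((hall t ht).2 a b)).symm
  · intro a
    rw [Subgroup.mem_center_iff]
    intro t
    by_cases ht : t ∈ Subgroup.center G
    · exact (Subgroup.mem_center_iff.mp ht _).symm
    · exact (Subgroup.mem_centralizer_singleton_iff.mp ((hall t ht).1 a)).symm

theorem cm_caseB9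
    (h : ∀ x : G, x ∉ Subgroup.center G → IsCoatom (Subgroup.centralizer ({x} : Set G)))
    (hB : ∀ x : G, x ∉ Subgroup.center G → ∃ g : G, x⁻¹ * g⁻¹ * x * g ∉ Subgroup.center G) :
    ∀ xb : G ⧸ Subgroup.center G, xb ≠ 1 →
      IsCoatom (Subgroup.centralizer ({xb} : Set (G ⧸ Subgroup.center G))) := by
  intro xb hxb
  obtain ⟨x, rfl⟩ := QuotientGroup.mk_surjective xb
  have hx : x ∉ Subgroup.center G := fun hc => hxb ((QuotientGroup.eq_one_iff x).mpr hc)
  constructor
  · intro htop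
    obtain ⟨g, hg⟩ := hB x hx
    apply hg
    have h1 : (QuotientGroup.mk g : G ⧸ Subgroup.center G) ∈
        Subgroup.centralizer
          ({(QuotientGroup.mk x : G ⧸ Subgroup.center G)} : Set (G ⧸ Subgroup.center G)) := by
      rw [htop]; exact Subgroup.mem_top _
    rw [Subgroup.mem_centralizer_singleton_iff] at h1
    rw [← QuotientGroup.eq_one_iff, QuotientGroup.mk_mul, QuotientGroup.mk_mul,
      QuotientGroup.mk_mul, QuotientGroup.mk_inv, QuotientGroup.mk_inv, mul_assoc, ← h1]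
    group
  · intro B hB'
    obtain ⟨bb, hbB, hbC⟩ := SetLike.exists_of_lt hB'
    obtain ⟨b, rfl⟩ := QuotientGroup.mk_surjective bb
    have hMle : Subgroup.centralizer ({x} : Set G) ≤
        B.comap (QuotientGroup.mk' (Subgroup.center G)) := by
      intro m hm
      rw [Subgroup.mem_comap]
      apply hB'.le
      rw [Subgroup.mem_centralizer_singleton_iff] at hm ⊢
      show (QuotientGroup.mk m : G ⧸ Subgroup.center G) * QuotientGroup.mk x =
        QuotientGroup.mk x * QuotientGroup.mk m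
      rw [← QuotientGroup.mk_mul, ← QuotientGroup.mk_mul, hm]
    have hbM : b ∉ Subgroup.centralizer ({x} : Set G) := by
      intro hb
      apply hbC
      rw [Subgroup.mem_centralizer_singleton_iff] at hb ⊢
      rw [← QuotientGroup.mk_mul, ← QuotientGroup.mk_mul, hb]
    have hlt : Subgroup.centralizer ({x} : Set G) <
        B.comap (QuotientGroup.mk' (Subgroup.center G)) := by
      refine lt_of_le_of_ne hMle ?_
      intro hEq
      apply hbM
      rw [hEq, Subgroup.mem_comap]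
      exact hbB
    have htop := (h x hx).2 _ hlt
    rw [eq_top_iff]
    intro yb _
    obtain ⟨y, rfl⟩ := QuotientGroup.mk_surjective yb
    have hy : y ∈ B.comap (QuotientGroup.mk' (Subgroup.center G)) := by
      rw [htop]; exact Subgroup.mem_top _
    exact Subgroup.mem_comap.mp hy

end CMaxG9

end Cfsg.Agent.Helper9
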