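import Cfsg.Agent.Helper9.Signalizer
import Cfsg.Agent.Helper4.CardMul

set_option autoImplicit false

namespace Cfsg.Agent.Helper9

open Subgroup
open scoped Pointwise

universe u

theorem centralizer_zpowers_eq {G : Type*} [Group G] (a : G) :
    centralizer ((zpowers a : Subgroup G) : Set G) = centralizer ({a} : Set G) :=
  le_antisymm (centralizer_zpowers_le_centralizer_singleton a)
    (centralizer_singleton_le_centralizer_zpowers a)

theorem isSolvable_of_le_elemAbelian {G : Type*} [Group G] (p : ℕ) (A B : Subgroup G)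
    (hA : Cfsg.IsElementaryAbelian p A) (hBA : B ≤ A) : Group.IsSolvable ↥B :=
  Group.isSolvable_of_comm (fun x y =>
    Subtype.ext (isMulCommutative_iff_of_setLike.mp hA.1 x.1 (hBA x.2) y.1 (hBA y.2)))

theorem not_isCyclic_of_elemAbelian {G : Type*} [Group G] [Finite G] (p : ℕ)
    [hp : Fact p.Prime] (A : Subgroup G) (hA : Cfsg.IsElementaryAbelian p A)
    (hA2 : p ^ 2 ≤ Nat.card ↥A) : ¬ IsCyclic ↥A := by
  intro hcyc
  obtain ⟨g, hg⟩ := IsCyclic.exists_generator (α := ↥A)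
  have hAz : A ≤ zpowers (g : G) := by
    intro x hx
    obtain ⟨k, hk⟩ := Subgroup.mem_zpowers_iff.mp (hg ⟨x, hx⟩)
    rw [Subgroup.mem_zpowers_iff]
    exact ⟨k, by rw [← Subgroup.coe_zpow, hk]⟩
  have h1 : Nat.card ↥A ≤ Nat.card ↥(zpowers (g : G)) := Subgroup.card_le_of_le hAz
  have h2 : Nat.card ↥(zpowers (g : G)) ∣ p := by
    rw [Nat.card_zpowers]; exact orderOf_dvd_of_pow_eq_one (hA.2 _ g.2)
  have h3 : Nat.card ↥(zpowers (g : G)) ≤ p := Nat.le_of_dvd hp.out.pos h2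
  have h4 : p * 2 ≤ p ^ 2 := by
    have h6 := hp.out.two_le
    calc p * 2 ≤ p * p := Nat.mul_le_mul_left _ h6
      _ = p ^ 2 := by ring
  have h5 := hp.out.pos
  omega

theorem factorization_mul_apply {a b : ℕ} (ha : a ≠ 0) (hb : b ≠ 0) (q : ℕ) :
    (a * b).factorization q = a.factorization q + b.factorization q := by
  rw [Nat.factorization_mul ha hb, Finsupp.add_apply]

theorem factorization_add_of_mul_eq {a b c d : ℕ} (ha : a ≠ 0) (hb : b ≠ 0) (hc : c ≠ 0)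
    (hd : d ≠ 0) (h : a * b = c * d) (q : ℕ) :
    a.factorization q + b.factorization q = c.factorization q + d.factorization q := by
  rw [← factorization_mul_apply ha hb, ← factorization_mul_apply hc hd, h]

/-- a `q`-subgroup of `W` containing a subgroup of Sylow order equals it -/
theorem eq_of_le_of_sylowCard {G : Type*} [Group G] [Finite G] (q : ℕ) [hq : Fact q.Prime]
    {U V W : Subgroup G} (hUV : U ≤ V) (hVW : V ≤ W) (hV : IsPGroup q ↥V)
    (hU : Nat.card ↥U = q ^ (Nat.card ↥W).factorization q) : U = V := by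
  apply Subgroup.eq_of_le_of_card_ge hUV
  obtain ⟨j, hj⟩ := hV.exists_card_eq
  have hdvd : q ^ j ∣ Nat.card ↥W := hj ▸ Subgroup.card_dvd_of_le hVW
  have hjle : j ≤ (Nat.card ↥W).factorization q :=
    (hq.out.pow_dvd_iff_le_factorization Nat.card_pos.ne').mp hdvd
  rw [hj, hU]
  exact Nat.pow_le_pow_right hq.out.pos hjle

theorem exists_sylow_map_eq {G : Type*} [Group G] [Finite G] (q : ℕ) [Fact q.Prime]
    (K Q : Subgroup G) (hQK : Q ≤ K) (hQc : Nat.card ↥Q = q ^ (Nat.card ↥K).factorization q) :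
    ∃ P : Sylow q ↥K, (P : Subgroup ↥K).map K.subtype = Q := by
  have h : Nat.card ↥(Q.subgroupOf K) = q ^ (Nat.card ↥K).factorization q := by
    rw [← hQc]
    exact Nat.card_congr (Subgroup.subgroupOfEquivOfLe hQK).toEquiv
  refine ⟨Sylow.ofCard _ h, ?_⟩
  rw [Sylow.coe_ofCard, Subgroup.map_subgroupOf_eq_of_le hQK]

/-- invariant Sylow subgroups (in subgroup form) are conjugate under the fixed points -/
theorem inv_sylow_conj {G : Type u} [Group G] [Finite G] (q : ℕ) [Fact q.Prime]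
    (B K Q₁ Q₂ : Subgroup G) (hBK : B ≤ normalizer (K : Set G))
    (hcop : (Nat.card ↥B).Coprime (Nat.card ↥K))
    (hsolv : Group.IsSolvable ↥B ∨ Group.IsSolvable ↥K) (h₁K : Q₁ ≤ K)
    (h₁c : Nat.card ↥Q₁ = q ^ (Nat.card ↥K).factorization q)
    (h₁B : B ≤ normalizer (Q₁ : Set G)) (h₂K : Q₂ ≤ K)
    (h₂c : Nat.card ↥Q₂ = q ^ (Nat.card ↥K).factorization q)
    (h₂B : B ≤ normalizer (Q₂ : Set G)) :
    ∃ c ∈ K ⊓ centralizer (B : Set G), MulAut.conj c • Q₁ = Q₂ := by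
  obtain ⟨P₁, hP₁⟩ := exists_sylow_map_eq q K Q₁ h₁K h₁c
  obtain ⟨P₂, hP₂⟩ := exists_sylow_map_eq q K Q₂ h₂K h₂c
  obtain ⟨c, hcB, hc⟩ := Cfsg.Agent.S0024.result B K hBK hcop hsolv q P₁ P₂
    (by rw [hP₁]; exact h₁B) (by rw [hP₂]; exact h₂B)
  refine ⟨(c : G), Subgroup.mem_inf.mpr ⟨c.2, hcB⟩, ?_⟩
  have h1 : MulAut.conj c • (P₁ : Subgroup ↥K) = (P₂ : Subgroup ↥K) :=
    congrArg (fun S : Sylow q ↥K => (S : Subgroup ↥K)) hc
  rw [← hP₁, ← hP₂, ← Cfsg.Agent.Helper1.map_subtype_conj_smul, h1]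

/-- fixed points of an invariant Sylow subgroup form a Sylow subgroup of the fixed points -/
theorem card_inf_centralizer_of_inv_sylow {G : Type u} [Group G] [Finite G] (q : ℕ)
    [hq : Fact q.Prime] (B K Q : Subgroup G) (hBK : B ≤ normalizer (K : Set G))
    (hcop : (Nat.card ↥B).Coprime (Nat.card ↥K))
    (hsolv : Group.IsSolvable ↥B ∨ Group.IsSolvable ↥K) (hQK : Q ≤ K)
    (hQc : Nat.card ↥Q = q ^ (Nat.card ↥K).factorization q)
    (hBQ : B ≤ normalizer (Q : Set G)) :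
    Nat.card ↥(Q ⊓ centralizer (B : Set G) : Subgroup G) =
      q ^ (Nat.card ↥(K ⊓ centralizer (B : Set G) : Subgroup G)).factorization q := by
  obtain ⟨S₀⟩ : Nonempty (Sylow q ↥(K ⊓ centralizer (B : Set G) : Subgroup G)) := inferInstance
  have hSc : Nat.card ↥((S₀ : Subgroup ↥(K ⊓ centralizer (B : Set G) : Subgroup G)).map
      (K ⊓ centralizer (B : Set G)).subtype) =
      q ^ (Nat.card ↥(K ⊓ centralizer (B : Set G) : Subgroup G)).factorization q := by
    rw [Subgroup.card_map_of_injective (Subgroup.subtype_injective _)]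
    exact S₀.card_eq_multiplicity
  obtain ⟨S, hS⟩ : ∃ S : Subgroup G,
      S = (S₀ : Subgroup ↥(K ⊓ centralizer (B : Set G) : Subgroup G)).map
        (K ⊓ centralizer (B : Set G)).subtype := ⟨_, rfl⟩
  rw [← hS] at hSc
  have hSC : S ≤ K ⊓ centralizer (B : Set G) := by rw [hS]; exact Subgroup.map_subtype_le _
  have hSq : IsPGroup q ↥S := IsPGroup.of_card hSc
  have hBS : B ≤ normalizer (S : Set G) := by
    apply le_normalizer_of_conj_inv
    intro b hb s hs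
    have h1 : b * s = s * b :=
      (Subgroup.mem_centralizer_iff.mp (Subgroup.mem_inf.mp (hSC hs)).2) b hb
    rw [h1, mul_inv_cancel_right]
    exact hs
  obtain ⟨Q', hQ'K, hQ'c, hSQ', hBQ'⟩ :=
    Cfsg.Agent.Helper1.inv_sylow_ge B K hBK hcop hsolv q S (hSC.trans inf_le_left) hSq hBS
  obtain ⟨c, hc, hcQ⟩ := inv_sylow_conj q B K Q' Q hBK hcop hsolv hQ'K hQ'c hBQ' hQK hQc hBQ
  have hT : MulAut.conj c • S ≤ Q ⊓ centralizer (B : Set G) := by
    intro x hx
    rw [Cfsg.Agent.Helper1.mem_conj_smul] at hx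
    refine Subgroup.mem_inf.mpr ⟨?_, ?_⟩
    · rw [← hcQ, Cfsg.Agent.Helper1.mem_conj_smul]
      exact hSQ' hx
    · have h1 : x = c * (c⁻¹ * x * c) * c⁻¹ := by group
      rw [h1]
      have hcB := (Subgroup.mem_inf.mp hc).2
      exact Subgroup.mul_mem _ (Subgroup.mul_mem _ hcB (Subgroup.mem_inf.mp (hSC hx)).2)
        (Subgroup.inv_mem _ hcB)
  have hTc : Nat.card ↥(MulAut.conj c • S : Subgroup G) =
      q ^ (Nat.card ↥(K ⊓ centralizer (B : Set G) : Subgroup G)).factorization q := by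
    rw [Cfsg.Agent.Helper1.card_conj_smul]; exact hSc
  have hQq : IsPGroup q ↥Q := IsPGroup.of_card hQc
  have heq := eq_of_le_of_sylowCard q hT (inf_le_inf_right _ hQK) (hQq.to_le inf_le_left) hTc
  rw [← heq]; exact hTc

theorem card_inf_centralizer_singleton {G : Type u} [Group G] [Finite G] (p : ℕ)
    [hp : Fact p.Prime] (q : ℕ) [hq : Fact q.Prime] (A : Subgroup G)
    (hA : Cfsg.IsElementaryAbelian p A) (K Q : Subgroup G) (hK : ¬ p ∣ Nat.card ↥K)
    (hAK : A ≤ normalizer (K : Set G)) (hQK : Q ≤ K)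
    (hQc : Nat.card ↥Q = q ^ (Nat.card ↥K).factorization q)
    (hAQ : A ≤ normalizer (Q : Set G)) (a : G) (ha : a ∈ A) :
    Nat.card ↥(Q ⊓ centralizer ({a} : Set G) : Subgroup G) =
      q ^ (Nat.card ↥(K ⊓ centralizer ({a} : Set G) : Subgroup G)).factorization q := by
  have hzA : zpowers a ≤ A := by rw [Subgroup.zpowers_le]; exact ha
  have h := card_inf_centralizer_of_inv_sylow q (zpowers a) K Q (hzA.trans hAK)
    (card_coprime_of_elemAbelian p (zpowers a) (elemAbelian_of_le p A _ hA hzA) K hK)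
    (Or.inl (isSolvable_of_le_elemAbelian p A _ hA hzA)) hQK hQc (hzA.trans hAQ)
  rw [centralizer_zpowers_eq] at h
  exact h

/-- if the fixed points of `A` on `K` normalize `X`, every `A`-invariant Sylow subgroup of `K`
meets `X` in a Sylow subgroup of `X` -/
theorem card_inf_of_inv_sylow {G : Type u} [Group G] [Finite G] (q : ℕ) [hq : Fact q.Prime]
    (A K X Q : Subgroup G) (hAK : A ≤ normalizer (K : Set G))
    (hcop : (Nat.card ↥A).Coprime (Nat.card ↥K)) (hAs : Group.IsSolvable ↥A) (hXK : X ≤ K)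
    (hAX : A ≤ normalizer (X : Set G))
    (hCX : K ⊓ centralizer (A : Set G) ≤ normalizer (X : Set G)) (hQK : Q ≤ K)
    (hQc : Nat.card ↥Q = q ^ (Nat.card ↥K).factorization q)
    (hAQ : A ≤ normalizer (Q : Set G)) :
    Nat.card ↥(Q ⊓ X : Subgroup G) = q ^ (Nat.card ↥X).factorization q := by
  have hcopX : (Nat.card ↥A).Coprime (Nat.card ↥X) :=
    hcop.coprime_dvd_right (Subgroup.card_dvd_of_le hXK)
  obtain ⟨S₀, hS₀X, hS₀c, hAS₀⟩ :=
    Cfsg.Agent.Helper1.inv_sylow_exists A X hAX hcopX (Or.inl hAs) q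
  obtain ⟨S, hSK, hSc, hS₀S, hAS⟩ := Cfsg.Agent.Helper1.inv_sylow_ge A K hAK hcop (Or.inl hAs)
    q S₀ (hS₀X.trans hXK) (IsPGroup.of_card hS₀c) hAS₀
  obtain ⟨c, hc, hcQ⟩ :=
    inv_sylow_conj q A K S Q hAK hcop (Or.inl hAs) hSK hSc hAS hQK hQc hAQ
  have hT : MulAut.conj c • S₀ ≤ Q ⊓ X := by
    intro x hx
    rw [Cfsg.Agent.Helper1.mem_conj_smul] at hx
    refine Subgroup.mem_inf.mpr ⟨?_, ?_⟩
    · rw [← hcQ, Cfsg.Agent.Helper1.mem_conj_smul]
      exact hS₀S hx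
    · have h1 : x = c * (c⁻¹ * x * c) * c⁻¹ := by group
      rw [h1]
      exact (Subgroup.mem_normalizer_iff.mp (hCX hc) _).mp (hS₀X hx)
  have hTc : Nat.card ↥(MulAut.conj c • S₀ : Subgroup G) =
      q ^ (Nat.card ↥X).factorization q := by
    rw [Cfsg.Agent.Helper1.card_conj_smul]; exact hS₀c
  have hQq : IsPGroup q ↥Q := IsPGroup.of_card hQc
  have heq := eq_of_le_of_sylowCard q hT (inf_le_right : Q ⊓ X ≤ X) (hQq.to_le inf_le_left) hTc
  rw [← heq]; exact hTc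

theorem commutator_ne_of_nilpotent {G : Type*} [Group G] (Q N : Subgroup G) (hNQ : N ≤ Q)
    (hnil : Group.IsNilpotent ↥Q) (hN : N ≠ ⊥) : ⁅N, Q⁆ ≠ N := by
  intro heq
  apply hN
  have h1 : ∀ n : ℕ, N ≤ Q.lowerCentralSeries n := by
    intro n
    induction n with
    | zero => exact hNQ
    | succ n ih =>
      rw [Subgroup.lowerCentralSeries_succ, ← heq]
      exact Subgroup.commutator_mono ih le_rfl
  obtain ⟨n, hn⟩ := (Subgroup.isNilpotent_iff_lowerCentralSeries Q).mp hnil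
  rw [eq_bot_iff, ← hn]
  exact h1 n

/-- absorption predicate -/
def AbsIn {G : Type*} [Group G] (X M Y : Subgroup G) (z : G) : Prop :=
  ∀ x ∈ X, ∀ m ∈ M, ∀ y ∈ Y, ∃ x' ∈ X, ∃ m' ∈ M, ∃ y' ∈ Y, x * z * m * y = x' * m' * y'

theorem absIn_one {G : Type*} [Group G] (X M Y : Subgroup G) : AbsIn X M Y 1 :=
  fun x hx m hm y hy => ⟨x, hx, m, hm, y, hy, by rw [mul_one]⟩

theorem absIn_mul {G : Type*} [Group G] (X M Y : Subgroup G)
    (hYM : Y ≤ normalizer (M : Set G)) {c z x₁ y₁ : G} (hx₁ : x₁ ∈ X) (hy₁ : y₁ ∈ Y)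
    (hc : c = x₁ * y₁) (hcz : z⁻¹ * y₁ * z * y₁⁻¹ ∈ M) (hz : AbsIn X M Y z) :
    AbsIn X M Y (c * z) := by
  intro x hx m hm y hy
  obtain ⟨x', hx', m', hm', y', hy', h⟩ := hz (x * x₁) (X.mul_mem hx hx₁)
    ((z⁻¹ * y₁ * z * y₁⁻¹) * (y₁ * m * y₁⁻¹))
    (M.mul_mem hcz ((Subgroup.mem_normalizer_iff.mp (hYM hy₁) m).mp hm)) (y₁ * y)
    (Y.mul_mem hy₁ hy)
  refine ⟨x', hx', m', hm', y', hy', ?_⟩
  rw [← h, hc]
  group

/-- factorization in the nilpotent case -/
theorem factor_of_nilpotent {G : Type u} [Group G] [Finite G] (p : ℕ) [hp : Fact p.Prime]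
    (A Q X Y : Subgroup G) (hA : Cfsg.IsElementaryAbelian p A) (hA2 : p ^ 2 ≤ Nat.card ↥A)
    (hQp : ¬ p ∣ Nat.card ↥Q) (hAQ : A ≤ normalizer (Q : Set G))
    (hnil : Group.IsNilpotent ↥Q) (hY : Y ≤ Q)
    (hfac : ∀ a ∈ A, a ≠ 1 → ∀ c ∈ Q ⊓ centralizer ({a} : Set G),
      ∃ x ∈ X, ∃ y ∈ Y, c = x * y) :
    ∀ k ∈ Q, ∃ x ∈ X, ∃ y ∈ Y, k = x * y := by
  have hcomm : ∀ x ∈ A, ∀ y ∈ A, x * y = y * x := isMulCommutative_iff_of_setLike.mp hA.1
  have hnc : ¬ IsCyclic ↥A := not_isCyclic_of_elemAbelian p A hA hA2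
  have main : ∀ n : ℕ, ∀ N : Subgroup G, N ≤ Q → Q ≤ normalizer (N : Set G) →
      A ≤ normalizer (N : Set G) → Nat.card ↥N = n →
      (∀ k ∈ Q, ∃ x ∈ X, ∃ z ∈ N, ∃ y ∈ Y, k = x * z * y) →
      ∀ k ∈ Q, ∃ x ∈ X, ∃ y ∈ Y, k = x * y := by
    intro n
    induction n using Nat.strong_induction_on with
    | _ n ih =>
    intro N hNQ hQN hAN hn hN k hk
    by_cases hbot : N = ⊥
    · obtain ⟨x, hx, z, hz, y, hy, rfl⟩ := hN k hk
      rw [hbot, Subgroup.mem_bot] at hz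
      exact ⟨x, hx, y, hy, by rw [hz, mul_one]⟩
    · have hN'N : ⁅N, Q⁆ ≤ N := Cfsg.Agent.Helper1.commutator_le_of_le_normalizer N Q hQN
      have hN'ne : ⁅N, Q⁆ ≠ N := commutator_ne_of_nilpotent Q N hNQ hnil hbot
      have hQN' : Q ≤ normalizer ((⁅N, Q⁆ : Subgroup G) : Set G) :=
        Cfsg.Agent.Helper1.le_normalizer_commutator N Q Q hQN Subgroup.le_normalizer
      have hAN' : A ≤ normalizer ((⁅N, Q⁆ : Subgroup G) : Set G) :=
        Cfsg.Agent.Helper1.le_normalizer_commutator N Q A hAN hAQ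
      have hlt : Nat.card ↥(⁅N, Q⁆ : Subgroup G) < n := by
        rw [← hn]
        by_contra hle
        push_neg at hle
        exact hN'ne (Subgroup.eq_of_le_of_card_ge hN'N hle)
      refine ih _ hlt ⁅N, Q⁆ (hN'N.trans hNQ) hQN' hAN' rfl ?_ k hk
      have hNp : (Nat.card ↥A).Coprime (Nat.card ↥N) :=
        card_coprime_of_elemAbelian p A hA N
          (fun h => hQp (h.trans (Subgroup.card_dvd_of_le hNQ)))
      have hgen := Cfsg.Agent.Helper1.centGen_aux _ G A N rfl hcomm hnc hAN hNp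
      have hgen' : N ≤ ⨆ i : {a : G // a ∈ A ∧ a ≠ 1}, N ⊓ centralizer ({(i : G)} : Set G) := by
        refine hgen.trans ?_
        unfold Cfsg.Agent.Helper1.centGen
        exact iSup₂_le (fun a ha =>
          le_iSup_of_le (⟨a, ha⟩ : {a : G // a ∈ A ∧ a ≠ 1}) le_rfl)
      have hP : ∀ g ∈ N, g ∈ N ∧ ∀ z ∈ N, AbsIn X ⁅N, Q⁆ Y z → AbsIn X ⁅N, Q⁆ Y (g * z) := by
        intro g hg
        refine Subgroup.iSup_induction
          (fun i : {a : G // a ∈ A ∧ a ≠ 1} => N ⊓ centralizer ({(i : G)} : Set G))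
          (C := fun g => g ∈ N ∧ ∀ z ∈ N, AbsIn X ⁅N, Q⁆ Y z → AbsIn X ⁅N, Q⁆ Y (g * z))
          (hgen' hg) ?_ ?_ ?_
        · rintro ⟨a, haA, ha1⟩ c hc
          obtain ⟨hcN, hcC⟩ := Subgroup.mem_inf.mp hc
          refine ⟨hcN, ?_⟩
          intro z hz hzA
          obtain ⟨x₁, hx₁, y₁, hy₁, hcxy⟩ :=
            hfac a haA ha1 c (Subgroup.mem_inf.mpr ⟨hNQ hcN, hcC⟩)
          have hcz : z⁻¹ * y₁ * z * y₁⁻¹ ∈ ⁅N, Q⁆ := by
            have h7 := Subgroup.commutator_mem_commutator (N.inv_mem hz) (hY hy₁)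
            rw [commutatorElement_def, inv_inv] at h7
            exact h7
          exact absIn_mul X ⁅N, Q⁆ Y (hY.trans hQN') hx₁ hy₁ hcxy hcz hzA
        · exact ⟨N.one_mem, fun z _ h => by rw [one_mul]; exact h⟩
        · rintro g h ⟨hg1, hg2⟩ ⟨hh1, hh2⟩
          refine ⟨N.mul_mem hg1 hh1, fun z hz hzA => ?_⟩
          rw [mul_assoc]
          exact hg2 (h * z) (N.mul_mem hh1 hz) (hh2 z hz hzA)
      intro k' hk'
      obtain ⟨x, hx, z, hz, y, hy, rfl⟩ := hN k' hk'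
      have hz' := (hP z hz).2 1 N.one_mem (absIn_one X ⁅N, Q⁆ Y)
      rw [mul_one] at hz'
      obtain ⟨x', hx', m', hm', y', hy', h⟩ := hz' x hx 1 (Subgroup.one_mem _) y hy
      rw [mul_one] at h
      exact ⟨x', hx', m', hm', y', hy', h⟩
  exact main _ Q le_rfl Subgroup.le_normalizer hAQ rfl
    (fun k hk => ⟨1, X.one_mem, k, hk, 1, Y.one_mem, by rw [one_mul, mul_one]⟩)

/-- the `q`-parts of the orders in the factorization lemma -/
theorem card_eq_of_factor {H : Type u} [Group H] [Finite H] (p : ℕ) [hp : Fact p.Prime]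
    (A K X Y : Subgroup H) (hA : Cfsg.IsElementaryAbelian p A) (hA2 : p ^ 2 ≤ Nat.card ↥A)
    (hK : ¬ p ∣ Nat.card ↥K) (hAK : A ≤ normalizer (K : Set H)) (hX : X ≤ K) (hY : Y ≤ K)
    (hAX : A ≤ normalizer (X : Set H)) (hAY : A ≤ normalizer (Y : Set H))
    (hCX : K ⊓ centralizer (A : Set H) ≤ normalizer (X : Set H))
    (hfac : ∀ a ∈ A, a ≠ 1 → ((K ⊓ centralizer {a} : Subgroup H) : Set H) =
      ((X ⊓ centralizer {a} : Subgroup H) : Set H) * ((Y ⊓ centralizer {a} : Subgroup H) : Set H))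
    (q : ℕ) [hq : Fact q.Prime] :
    (Nat.card ↥K).factorization q + (Nat.card ↥(X ⊓ Y : Subgroup H)).factorization q =
      (Nat.card ↥X).factorization q + (Nat.card ↥Y).factorization q := by
  have hcomm : ∀ x ∈ A, ∀ y ∈ A, x * y = y * x := isMulCommutative_iff_of_setLike.mp hA.1
  have hAs : Group.IsSolvable ↥A := isSolvable_of_le_elemAbelian p A A hA le_rfl
  have hcopK : (Nat.card ↥A).Coprime (Nat.card ↥K) := card_coprime_of_elemAbelian p A hA K hK
  have hXYK : X ⊓ Y ≤ K := inf_le_left.trans hX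
  have hAXY : A ≤ normalizer ((X ⊓ Y : Subgroup H) : Set H) := le_normalizer_inf' A X Y hAX hAY
  have hpXY : ¬ p ∣ Nat.card ↥(X ⊓ Y : Subgroup H) := fun h =>
    hK (h.trans (Subgroup.card_dvd_of_le hXYK))
  have hpX : ¬ p ∣ Nat.card ↥X := fun h => hK (h.trans (Subgroup.card_dvd_of_le hX))
  have hpY : ¬ p ∣ Nat.card ↥Y := fun h => hK (h.trans (Subgroup.card_dvd_of_le hY))
  obtain ⟨R₀, hR₀le, hR₀c, hAR₀⟩ := Cfsg.Agent.Helper1.inv_sylow_exists A (X ⊓ Y) hAXY
    (card_coprime_of_elemAbelian p A hA _ hpXY) (Or.inl hAs) q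
  obtain ⟨R, hRY, hRc, hR₀R, hAR⟩ := Cfsg.Agent.Helper1.inv_sylow_ge A Y hAY
    (card_coprime_of_elemAbelian p A hA _ hpY) (Or.inl hAs) q R₀ (hR₀le.trans inf_le_right)
    (IsPGroup.of_card hR₀c) hAR₀
  obtain ⟨Q, hQK, hQc, hRQ, hAQ⟩ := Cfsg.Agent.Helper1.inv_sylow_ge A K hAK hcopK (Or.inl hAs)
    q R (hRY.trans hY) (IsPGroup.of_card hRc) hAR
  have hQq : IsPGroup q ↥Q := IsPGroup.of_card hQc
  have hQYc : Nat.card ↥(Q ⊓ Y : Subgroup H) = q ^ (Nat.card ↥Y).factorization q := by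
    have heq := eq_of_le_of_sylowCard q (le_inf hRQ hRY) (inf_le_right : Q ⊓ Y ≤ Y)
      (hQq.to_le inf_le_left) hRc
    rw [← heq]; exact hRc
  have hQXYc : Nat.card ↥(Q ⊓ (X ⊓ Y) : Subgroup H) =
      q ^ (Nat.card ↥(X ⊓ Y : Subgroup H)).factorization q := by
    have heq := eq_of_le_of_sylowCard q (le_inf (hR₀R.trans hRQ) hR₀le)
      (inf_le_right : Q ⊓ (X ⊓ Y) ≤ X ⊓ Y) (hQq.to_le inf_le_left) hR₀c
    rw [← heq]; exact hR₀c
  have hAQY : A ≤ normalizer ((Q ⊓ Y : Subgroup H) : Set H) := le_normalizer_inf' A Q Y hAQ hAY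
  have hAQXY : A ≤ normalizer ((Q ⊓ (X ⊓ Y) : Subgroup H) : Set H) :=
    le_normalizer_inf' A Q _ hAQ hAXY
  have hAQX : A ≤ normalizer ((Q ⊓ X : Subgroup H) : Set H) := le_normalizer_inf' A Q X hAQ hAX
  have hii : ∀ a ∈ A, a ≠ 1 →
      Nat.card ↥(Q ⊓ X ⊓ centralizer ({a} : Set H) : Subgroup H) =
        q ^ (Nat.card ↥(X ⊓ centralizer ({a} : Set H) : Subgroup H)).factorization q := by
    intro a ha ha1
    have hAC : A ≤ normalizer ((centralizer ({a} : Set H) : Subgroup H) : Set H) :=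
      le_normalizer_centralizer_of_comm A hcomm {a} (Set.singleton_subset_iff.mpr ha)
    have hKa : ¬ p ∣ Nat.card ↥(K ⊓ centralizer ({a} : Set H) : Subgroup H) := fun h =>
      hK (h.trans (Subgroup.card_dvd_of_le inf_le_left))
    have hCXa : K ⊓ centralizer ({a} : Set H) ⊓ centralizer (A : Set H) ≤
        normalizer ((X ⊓ centralizer ({a} : Set H) : Subgroup H) : Set H) := by
      intro c hc
      obtain ⟨hc1, hc2⟩ := Subgroup.mem_inf.mp hc
      obtain ⟨hcK, hca⟩ := Subgroup.mem_inf.mp hc1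
      have h1 : c ∈ normalizer (X : Set H) := hCX (Subgroup.mem_inf.mpr ⟨hcK, hc2⟩)
      have h2 : c ∈ normalizer ((centralizer ({a} : Set H) : Subgroup H) : Set H) :=
        Subgroup.le_normalizer hca
      rw [Subgroup.mem_normalizer_iff] at h1 h2 ⊢
      intro z
      simp only [Subgroup.mem_inf]
      rw [h1 z, h2 z]
    have h := card_inf_of_inv_sylow q A (K ⊓ centralizer ({a} : Set H))
      (X ⊓ centralizer ({a} : Set H)) (Q ⊓ centralizer ({a} : Set H))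
      (le_normalizer_inf' A K _ hAK hAC) (card_coprime_of_elemAbelian p A hA _ hKa) hAs
      (inf_le_inf_right _ hX) (le_normalizer_inf' A X _ hAX hAC) hCXa (inf_le_inf_right _ hQK)
      (card_inf_centralizer_singleton p q A hA K Q hK hAK hQK hQc hAQ a ha)
      (le_normalizer_inf' A Q _ hAQ hAC)
    have hlat : Q ⊓ centralizer ({a} : Set H) ⊓ (X ⊓ centralizer ({a} : Set H)) =
        Q ⊓ X ⊓ centralizer ({a} : Set H) := by
      ext z; simp only [Subgroup.mem_inf]; tauto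
    rw [hlat] at h
    exact h
  have hQXc : Nat.card ↥(Q ⊓ X : Subgroup H) = q ^ (Nat.card ↥X).factorization q := by
    obtain ⟨S, hSX, hSc, hQXS, hAS⟩ := Cfsg.Agent.Helper1.inv_sylow_ge A X hAX
      (card_coprime_of_elemAbelian p A hA _ hpX) (Or.inl hAs) q (Q ⊓ X) inf_le_right
      (hQq.to_le inf_le_left) hAQX
    have hSq : IsPGroup q ↥S := IsPGroup.of_card hSc
    have hSp : (Nat.card ↥A).Coprime (Nat.card ↥S) := card_coprime_of_elemAbelian p A hA S
      (fun h => hpX (h.trans (Subgroup.card_dvd_of_le hSX)))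
    have hgen := Cfsg.Agent.Helper1.centGen_aux _ H A S rfl hcomm
      (not_isCyclic_of_elemAbelian p A hA hA2) hAS hSp
    have hSle : S ≤ Q ⊓ X := by
      refine hgen.trans ?_
      unfold Cfsg.Agent.Helper1.centGen
      apply iSup₂_le
      rintro a ⟨ha, ha1⟩
      have heq := eq_of_le_of_sylowCard q
        (inf_le_inf_right (centralizer ({a} : Set H)) hQXS)
        (inf_le_inf_right (centralizer ({a} : Set H)) hSX) (hSq.to_le inf_le_left)
        (hii a ha ha1)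
      rw [← heq]
      exact inf_le_left
    have heq2 : Q ⊓ X = S := le_antisymm hQXS hSle
    rw [heq2]; exact hSc
  have hfacQ : ∀ a ∈ A, a ≠ 1 → ∀ c ∈ Q ⊓ centralizer ({a} : Set H),
      ∃ x ∈ Q ⊓ X, ∃ y ∈ Q ⊓ Y, c = x * y := by
    intro a ha ha1 c hc
    have c1 := hii a ha ha1
    have c2 : Nat.card ↥(Q ⊓ Y ⊓ centralizer ({a} : Set H) : Subgroup H) =
        q ^ (Nat.card ↥(Y ⊓ centralizer ({a} : Set H) : Subgroup H)).factorization q :=
      card_inf_centralizer_singleton p q A hA Y (Q ⊓ Y) hpY hAY inf_le_right hQYc hAQY a ha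
    have c3 : Nat.card ↥(Q ⊓ (X ⊓ Y) ⊓ centralizer ({a} : Set H) : Subgroup H) =
        q ^ (Nat.card ↥(X ⊓ Y ⊓ centralizer ({a} : Set H) : Subgroup H)).factorization q :=
      card_inf_centralizer_singleton p q A hA (X ⊓ Y) (Q ⊓ (X ⊓ Y)) hpXY hAXY inf_le_right
        hQXYc hAQXY a ha
    have c4 : Nat.card ↥(Q ⊓ centralizer ({a} : Set H) : Subgroup H) =
        q ^ (Nat.card ↥(K ⊓ centralizer ({a} : Set H) : Subgroup H)).factorization q :=
      card_inf_centralizer_singleton p q A hA K Q hK hAK hQK hQc hAQ a ha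
    have d1 : Nat.card ↥(X ⊓ centralizer ({a} : Set H) : Subgroup H) *
        Nat.card ↥(Y ⊓ centralizer ({a} : Set H) : Subgroup H) =
        Nat.card ↥(K ⊓ centralizer ({a} : Set H) : Subgroup H) *
          Nat.card ↥(X ⊓ Y ⊓ centralizer ({a} : Set H) : Subgroup H) := by
      have e := Cfsg.Agent.Helper4.card_mul_card_eq (X ⊓ centralizer ({a} : Set H))
        (Y ⊓ centralizer ({a} : Set H))
      have hl : X ⊓ centralizer ({a} : Set H) ⊓ (Y ⊓ centralizer ({a} : Set H)) =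
          X ⊓ Y ⊓ centralizer ({a} : Set H) := by
        ext z; simp only [Subgroup.mem_inf]; tauto
      rw [← hfac a ha ha1, hl] at e
      exact e
    have d2 := factorization_add_of_mul_eq Nat.card_pos.ne' Nat.card_pos.ne' Nat.card_pos.ne'
      Nat.card_pos.ne' d1 q
    have d3 := Cfsg.Agent.Helper4.card_mul_card_eq (Q ⊓ X ⊓ centralizer ({a} : Set H))
      (Q ⊓ Y ⊓ centralizer ({a} : Set H))
    have hlat2 : Q ⊓ X ⊓ centralizer ({a} : Set H) ⊓ (Q ⊓ Y ⊓ centralizer ({a} : Set H)) =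
        Q ⊓ (X ⊓ Y) ⊓ centralizer ({a} : Set H) := by
      ext z; simp only [Subgroup.mem_inf]; tauto
    rw [hlat2, c1, c2, c3, ← pow_add, d2, pow_add] at d3
    have d4 : Nat.card ↥(((Q ⊓ X ⊓ centralizer ({a} : Set H) : Subgroup H) : Set H) *
        ((Q ⊓ Y ⊓ centralizer ({a} : Set H) : Subgroup H) : Set H)) =
        q ^ (Nat.card ↥(K ⊓ centralizer ({a} : Set H) : Subgroup H)).factorization q :=
      (Nat.eq_of_mul_eq_mul_right (pow_pos hq.out.pos _) d3).symm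
    have hsub : ((Q ⊓ X ⊓ centralizer ({a} : Set H) : Subgroup H) : Set H) *
        ((Q ⊓ Y ⊓ centralizer ({a} : Set H) : Subgroup H) : Set H) ⊆
        ((Q ⊓ centralizer ({a} : Set H) : Subgroup H) : Set H) := by
      rintro _ ⟨x, hx, y, hy, rfl⟩
      have hx' := Subgroup.mem_inf.mp hx
      have hy' := Subgroup.mem_inf.mp hy
      exact Subgroup.mul_mem _ (Subgroup.mem_inf.mpr ⟨(Subgroup.mem_inf.mp hx'.1).1, hx'.2⟩)
        (Subgroup.mem_inf.mpr ⟨(Subgroup.mem_inf.mp hy'.1).1, hy'.2⟩)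
    have hseteq := Set.eq_of_subset_of_ncard_le hsub (by
      rw [← Nat.card_coe_set_eq, ← Nat.card_coe_set_eq, d4]
      exact le_of_eq c4) (Set.toFinite _)
    have hcmem : c ∈ ((Q ⊓ X ⊓ centralizer ({a} : Set H) : Subgroup H) : Set H) *
        ((Q ⊓ Y ⊓ centralizer ({a} : Set H) : Subgroup H) : Set H) := by
      rw [hseteq]; exact hc
    obtain ⟨x, hx, y, hy, rfl⟩ := Set.mem_mul.mp hcmem
    exact ⟨x, (Subgroup.mem_inf.mp hx).1, y, (Subgroup.mem_inf.mp hy).1, rfl⟩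
  have hQfac := factor_of_nilpotent p A Q (Q ⊓ X) (Q ⊓ Y) hA hA2
    (fun h => hK (h.trans (Subgroup.card_dvd_of_le hQK))) hAQ hQq.isNilpotent inf_le_left hfacQ
  have e1 := Cfsg.Agent.Helper4.card_mul_card_eq (Q ⊓ X) (Q ⊓ Y)
  have hset : ((Q ⊓ X : Subgroup H) : Set H) * ((Q ⊓ Y : Subgroup H) : Set H) = (Q : Set H) := by
    apply Set.Subset.antisymm
    · rintro _ ⟨x, hx, y, hy, rfl⟩
      exact Q.mul_mem (Subgroup.mem_inf.mp hx).1 (Subgroup.mem_inf.mp hy).1
    · intro k hk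
      obtain ⟨x, hx, y, hy, rfl⟩ := hQfac k hk
      exact Set.mul_mem_mul hx hy
  have hlat3 : Q ⊓ X ⊓ (Q ⊓ Y) = Q ⊓ (X ⊓ Y) := by
    ext z; simp only [Subgroup.mem_inf]; tauto
  rw [hset, hlat3, hQXc, hQYc, hQXYc] at e1
  have e2 : Nat.card ↥(Q : Set H) = q ^ (Nat.card ↥K).factorization q := hQc
  rw [e2, ← pow_add, ← pow_add] at e1
  have e3 := Nat.pow_right_injective hq.out.two_le e1
  omega

/-- the factorization lemma: `K = X Y` -/
theorem factor_of_coprime {H : Type u} [Group H] [Finite H] (p : ℕ) [hp : Fact p.Prime]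
    (A K X Y : Subgroup H) (hA : Cfsg.IsElementaryAbelian p A) (hA2 : p ^ 2 ≤ Nat.card ↥A)
    (hK : ¬ p ∣ Nat.card ↥K) (hAK : A ≤ normalizer (K : Set H)) (hX : X ≤ K) (hY : Y ≤ K)
    (hAX : A ≤ normalizer (X : Set H)) (hAY : A ≤ normalizer (Y : Set H))
    (hCX : K ⊓ centralizer (A : Set H) ≤ normalizer (X : Set H))
    (hfac : ∀ a ∈ A, a ≠ 1 → ((K ⊓ centralizer {a} : Subgroup H) : Set H) =
      ((X ⊓ centralizer {a} : Subgroup H) : Set H) *
        ((Y ⊓ centralizer {a} : Subgroup H) : Set H)) :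
    (K : Set H) = (X : Set H) * (Y : Set H) := by
  have hcount : Nat.card ↥K * Nat.card ↥(X ⊓ Y : Subgroup H) = Nat.card ↥X * Nat.card ↥Y := by
    apply Nat.eq_of_factorization_eq (Nat.mul_ne_zero Nat.card_pos.ne' Nat.card_pos.ne')
      (Nat.mul_ne_zero Nat.card_pos.ne' Nat.card_pos.ne')
    intro r
    by_cases hr : r.Prime
    · haveI : Fact r.Prime := ⟨hr⟩
      rw [factorization_mul_apply Nat.card_pos.ne' Nat.card_pos.ne',
        factorization_mul_apply Nat.card_pos.ne' Nat.card_pos.ne']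
      exact card_eq_of_factor p A K X Y hA hA2 hK hAK hX hY hAX hAY hCX hfac r
    · rw [Nat.factorization_eq_zero_of_not_prime _ hr,
        Nat.factorization_eq_zero_of_not_prime _ hr]
  have e := Cfsg.Agent.Helper4.card_mul_card_eq X Y
  rw [← hcount] at e
  have e2 : Nat.card ↥K = Nat.card ↥((X : Set H) * (Y : Set H)) :=
    Nat.eq_of_mul_eq_mul_right Nat.card_pos e
  have hsub : (X : Set H) * (Y : Set H) ⊆ (K : Set H) := by
    rintro _ ⟨x, hx, y, hy, rfl⟩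
    exact K.mul_mem (hX hx) (hY hy)
  exact (Set.eq_of_subset_of_ncard_le hsub (by
    rw [← Nat.card_coe_set_eq, ← Nat.card_coe_set_eq]
    exact le_of_eq e2) (Set.toFinite _)).symm

end Cfsg.Agent.Helper9
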