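import Mathlib

set_option autoImplicit false

namespace Cfsg.Agent.Helper9

theorem count_even_of_rank_even {t : ℕ} (d : Fin t → ℕ)
    (h : ∀ k, Odd k → Even (∑ i, (d i - k))) (j : ℕ) (hj : Even j) (hj0 : 0 < j) :
    Even (Finset.univ.filter (fun i : Fin t => d i = j)).card := by
  have hpt : ∀ i : Fin t,
      (if d i = j then 1 else 0) + 2 * (d i - j) = (d i - (j - 1)) + (d i - (j + 1)) := by
    intro i
    split_ifs <;> omega
  have hsum : (∑ i : Fin t, (if d i = j then 1 else 0)) + 2 * ∑ i : Fin t, (d i - j) =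
      (∑ i : Fin t, (d i - (j - 1))) + ∑ i : Fin t, (d i - (j + 1)) := by
    rw [Finset.mul_sum, ← Finset.sum_add_distrib, ← Finset.sum_add_distrib]
    exact Finset.sum_congr rfl (fun i _ => hpt i)
  have h1 : Odd (j - 1) := by
    obtain ⟨r, hr⟩ := hj
    exact ⟨r - 1, by omega⟩
  have h2 : Odd (j + 1) := by
    obtain ⟨r, hr⟩ := hj
    exact ⟨r, by omega⟩
  obtain ⟨x, hx⟩ := h (j - 1) h1
  obtain ⟨y, hy⟩ := h (j + 1) h2
  rw [Finset.card_filter]
  exact ⟨x + y - ∑ i : Fin t, (d i - j), by omega⟩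

end Cfsg.Agent.Helper9
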