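import Mathlib
import Cfsg.Prelude.Def_JordanBlocks

set_option autoImplicit false

namespace Cfsg.Agent.Helper9

open Matrix

theorem jo9_block_sub_one (d : ℕ) (F : Type*) [Field F] :
    Cfsg.jordanBlock d F - 1 =
      Matrix.of fun a b : Fin d => if (a : ℕ) = (b : ℕ) + 1 then (1 : F) else 0 := by
  ext a b
  simp only [Cfsg.jordanBlock, Matrix.sub_apply, Matrix.of_apply, Matrix.one_apply]
  by_cases h : a = b
  · subst h
    simp
  · have h' : (a : ℕ) ≠ (b : ℕ) := fun hh => h (Fin.ext hh)
    simp [h, h']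

theorem jo9_shift_pow (d : ℕ) (F : Type*) [Field F] (k : ℕ) :
    (Matrix.of fun a b : Fin d => if (a : ℕ) = (b : ℕ) + 1 then (1 : F) else 0) ^ k =
      Matrix.of fun a b : Fin d => if (a : ℕ) = (b : ℕ) + k then (1 : F) else 0 := by
  induction k with
  | zero =>
    ext a b
    simp [Matrix.one_apply, Fin.ext_iff]
  | succ k ih =>
    rw [pow_succ, ih]
    ext a c
    rw [Matrix.mul_apply]
    simp only [Matrix.of_apply]
    by_cases hc : (c : ℕ) + 1 < d
    · rw [Finset.sum_eq_single (⟨(c : ℕ) + 1, hc⟩ : Fin d)]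
      · have e : ((a : ℕ) = (c : ℕ) + 1 + k) ↔ ((a : ℕ) = (c : ℕ) + (k + 1)) := by omega
        simp [e]
      · intro b _ hb
        have : (b : ℕ) ≠ (c : ℕ) + 1 := fun hh => hb (Fin.ext hh)
        simp [this]
      · intro h
        exact absurd (Finset.mem_univ _) h
    · rw [Finset.sum_eq_zero]
      · have : (a : ℕ) ≠ (c : ℕ) + (k + 1) := by
          have := a.2
          omega
        simp [this]
      · intro b _
        have : (b : ℕ) ≠ (c : ℕ) + 1 := by
          have := b.2
          omega
        simp [this]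

theorem jo9_block_fact (d k : ℕ) (F : Type*) [Field F] :
    ∃ (R : Matrix (Fin d) (Fin (d - k)) F) (C : Matrix (Fin (d - k)) (Fin d) F)
      (U : Matrix (Fin (d - k)) (Fin d) F) (V : Matrix (Fin d) (Fin (d - k)) F),
      (Cfsg.jordanBlock d F - 1) ^ k = R * C ∧ U * R = 1 ∧ C * V = 1 := by
  refine ⟨Matrix.of fun a j => if (a : ℕ) = (j : ℕ) + k then 1 else 0,
    Matrix.of fun j b => if (j : ℕ) = (b : ℕ) then 1 else 0,
    Matrix.of fun j a => if (a : ℕ) = (j : ℕ) + k then 1 else 0,
    Matrix.of fun b j => if (j : ℕ) = (b : ℕ) then 1 else 0, ?_, ?_, ?_⟩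
  · rw [jo9_block_sub_one, jo9_shift_pow]
    ext a b
    rw [Matrix.mul_apply]
    simp only [Matrix.of_apply]
    by_cases hb : (b : ℕ) < d - k
    · rw [Finset.sum_eq_single (⟨(b : ℕ), hb⟩ : Fin (d - k))]
      · simp
      · intro j _ hj
        have : (j : ℕ) ≠ (b : ℕ) := fun hh => hj (Fin.ext hh)
        simp [this]
      · intro h
        exact absurd (Finset.mem_univ _) h
    · rw [Finset.sum_eq_zero]
      · have : (a : ℕ) ≠ (b : ℕ) + k := by
          have := a.2
          omega
        simp [this]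
      · intro j _
        have : (j : ℕ) ≠ (b : ℕ) := by
          have := j.2
          omega
        simp [this]
  · ext j j'
    rw [Matrix.mul_apply]
    simp only [Matrix.of_apply, Matrix.one_apply]
    have hj : (j : ℕ) + k < d := by
      have := j.2
      omega
    rw [Finset.sum_eq_single (⟨(j : ℕ) + k, hj⟩ : Fin d)]
    · by_cases h : j = j'
      · subst h
        simp
      · have h' : (j : ℕ) ≠ (j' : ℕ) := fun hh => h (Fin.ext hh)
        simp [h, h']
    · intro a _ ha
      have : (a : ℕ) ≠ (j : ℕ) + k := fun hh => ha (Fin.ext hh)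
      simp [this]
    · intro h
      exact absurd (Finset.mem_univ _) h
  · ext j j'
    rw [Matrix.mul_apply]
    simp only [Matrix.of_apply, Matrix.one_apply]
    have hj : (j : ℕ) < d := by
      have := j.2
      omega
    rw [Finset.sum_eq_single (⟨(j : ℕ), hj⟩ : Fin d)]
    · by_cases h : j = j'
      · subst h
        simp
      · have h' : (j' : ℕ) ≠ (j : ℕ) := fun hh => h (Fin.ext hh.symm)
        simp [h, h']
    · intro b _ hb
      have : (j : ℕ) ≠ (b : ℕ) := fun hh => hb (Fin.ext hh.symm)
      simp [this]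
    · intro h
      exact absurd (Finset.mem_univ _) h

theorem jordanType_rank {F : Type*} [Field F] {t : ℕ} (d : Fin t → ℕ) (k : ℕ) :
    ((Cfsg.jordanTypeMatrix d F - 1) ^ k).rank = ∑ i, (d i - k) := by
  choose R C U V hRC hUR hCV using fun i : Fin t => jo9_block_fact (d i) k F
  have hJ : Cfsg.jordanTypeMatrix d F - 1 =
      Matrix.blockDiagonal' (fun i => Cfsg.jordanBlock (d i) F - 1) := by
    have h1 : (fun i => Cfsg.jordanBlock (d i) F - 1) =
        (fun i => Cfsg.jordanBlock (d i) F) - (1 : ∀ i, Matrix (Fin (d i)) (Fin (d i)) F) := rfl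
    show Matrix.blockDiagonal' (fun i => Cfsg.jordanBlock (d i) F) - 1 = _
    rw [h1, Matrix.blockDiagonal'_sub, Matrix.blockDiagonal'_one]
  have hX : (Cfsg.jordanTypeMatrix d F - 1) ^ k =
      Matrix.blockDiagonal' R * Matrix.blockDiagonal' C := by
    rw [hJ, ← Matrix.blockDiagonal'_pow, ← Matrix.blockDiagonal'_mul]
    congr 1
    funext i
    exact hRC i
  have hcard : Fintype.card (Σ i : Fin t, Fin (d i - k)) = ∑ i, (d i - k) := by
    rw [Fintype.card_sigma]
    simp
  apply le_antisymm
  · rw [hX, ← hcard]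
    exact (Matrix.rank_mul_le_right _ _).trans (Matrix.rank_le_card_height _)
  · have e1 : Matrix.blockDiagonal' U * Matrix.blockDiagonal' R = 1 := by
      rw [← Matrix.blockDiagonal'_mul]
      have h1 : (fun i => U i * R i) =
          (1 : ∀ i, Matrix (Fin (d i - k)) (Fin (d i - k)) F) := funext hUR
      rw [h1, Matrix.blockDiagonal'_one]
    have e2 : Matrix.blockDiagonal' C * Matrix.blockDiagonal' V = 1 := by
      rw [← Matrix.blockDiagonal'_mul]
      have h1 : (fun i => C i * V i) =
          (1 : ∀ i, Matrix (Fin (d i - k)) (Fin (d i - k)) F) := funext hCV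
      rw [h1, Matrix.blockDiagonal'_one]
    have h1 : Matrix.blockDiagonal' U *
        ((Cfsg.jordanTypeMatrix d F - 1) ^ k * Matrix.blockDiagonal' V) = 1 := by
      rw [hX]
      calc Matrix.blockDiagonal' U *
            (Matrix.blockDiagonal' R * Matrix.blockDiagonal' C * Matrix.blockDiagonal' V)
          = (Matrix.blockDiagonal' U * Matrix.blockDiagonal' R) *
            (Matrix.blockDiagonal' C * Matrix.blockDiagonal' V) := by
            simp only [Matrix.mul_assoc]
        _ = 1 := by rw [e1, e2, Matrix.one_mul]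
    calc ∑ i, (d i - k) = Fintype.card (Σ i : Fin t, Fin (d i - k)) := hcard.symm
      _ = (1 : Matrix (Σ i : Fin t, Fin (d i - k)) (Σ i : Fin t, Fin (d i - k)) F).rank :=
          Matrix.rank_one.symm
      _ = (Matrix.blockDiagonal' U *
            ((Cfsg.jordanTypeMatrix d F - 1) ^ k * Matrix.blockDiagonal' V)).rank := by rw [h1]
      _ ≤ ((Cfsg.jordanTypeMatrix d F - 1) ^ k * Matrix.blockDiagonal' V).rank :=
          Matrix.rank_mul_le_right _ _
      _ ≤ ((Cfsg.jordanTypeMatrix d F - 1) ^ k).rank := Matrix.rank_mul_le_left _ _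

end Cfsg.Agent.Helper9
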