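import Mathlib
import Cfsg.Agent.Helper15.SympBasis

set_option autoImplicit false

namespace Cfsg.Agent.Helper9

open Matrix

theorem js9_conj_pow {n : Type*} [Fintype n] [DecidableEq n] {F : Type*} [Field F]
    (C Ci X : Matrix n n F) (h1 : C * Ci = 1) (h2 : Ci * C = 1) (k : ℕ) :
    (C * X * Ci) ^ k = C * X ^ k * Ci := by
  induction k with
  | zero => simp [h1]
  | succ k ih =>
    rw [pow_succ, ih, pow_succ]
    calc C * X ^ k * Ci * (C * X * Ci) = C * X ^ k * (Ci * C) * X * Ci := by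
          simp only [Matrix.mul_assoc]
      _ = C * (X ^ k * X) * Ci := by
          rw [h2, Matrix.mul_one]
          simp only [Matrix.mul_assoc]

theorem alt_to_symp {F : Type*} [Field F] {m : ℕ}
    (A M : Matrix (Fin m ⊕ Fin m) (Fin m ⊕ Fin m) F) (halt : ∀ v, v ⬝ᵥ M *ᵥ v = 0)
    (hdet : M.det ≠ 0) (hA : Aᵀ * M * A = M) :
    ∃ B : Matrix.symplecticGroup (Fin m) F,
      ∀ k, (((B : Matrix (Fin m ⊕ Fin m) (Fin m ⊕ Fin m) F) - 1) ^ k).rank =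
        ((A - 1) ^ k).rank := by
  have hω : ∀ v w : Fin m ⊕ Fin m → F, Matrix.toBilin' M v w = v ⬝ᵥ M *ᵥ w :=
    fun v w => Matrix.toBilin'_apply' M v w
  have hnd : ∀ x : Fin m ⊕ Fin m → F, (∀ y, Matrix.toBilin' M x y = 0) → x = 0 := by
    intro x hx
    apply Matrix.eq_zero_of_vecMul_eq_zero hdet
    funext i
    have := hx (Pi.single i 1)
    rw [hω, Matrix.dotProduct_mulVec] at this
    simpa using this
  have hV : Module.finrank F (Fin m ⊕ Fin m → F) = 2 * m := by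
    rw [Module.finrank_fintype_fun_eq_card]
    simp [two_mul]
  obtain ⟨e, he⟩ := Cfsg.Agent.Helper15.exists_symp_equiv (n := m) (Matrix.toBilin' M)
    (fun x => by rw [hω]; exact halt x) hnd hV
  obtain ⟨C, hCv⟩ : ∃ C : Matrix (Fin m ⊕ Fin m) (Fin m ⊕ Fin m) F, ∀ v, C *ᵥ v = e v :=
    ⟨LinearMap.toMatrix' (e : (Fin m ⊕ Fin m → F) →ₗ[F] (Fin m ⊕ Fin m → F)),
      fun v => by rw [LinearMap.toMatrix'_mulVec]; rfl⟩
  have hM : M = Cᵀ * Matrix.J (Fin m) F * C := by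
    apply Matrix.toBilin'.injective
    refine LinearMap.ext₂ (fun v w => ?_)
    rw [Matrix.toBilin'_apply', Matrix.toBilin'_apply']
    have h1 := he v w
    rw [hω, ← hCv, ← hCv] at h1
    rw [h1, ← Matrix.mulVec_mulVec, ← Matrix.mulVec_mulVec, Matrix.dotProduct_mulVec v Cᵀ,
      Matrix.vecMul_transpose]
  have hdetC : C.det ≠ 0 := by
    intro h0
    apply hdet
    rw [hM, Matrix.det_mul, Matrix.det_mul, h0, mul_zero]
  have hu : IsUnit C.det := isUnit_iff_ne_zero.mpr hdetC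
  have hC1 : C * C⁻¹ = 1 := Matrix.mul_nonsing_inv C hu
  have hC2 : C⁻¹ * C = 1 := Matrix.nonsing_inv_mul C hu
  have hB : (C * A * C⁻¹)ᵀ * Matrix.J (Fin m) F * (C * A * C⁻¹) = Matrix.J (Fin m) F := by
    have hCt : (C⁻¹)ᵀ * Cᵀ = 1 := by rw [← Matrix.transpose_mul, hC1, Matrix.transpose_one]
    have hMA : Aᵀ * (Cᵀ * Matrix.J (Fin m) F * C) * A = Cᵀ * Matrix.J (Fin m) F * C := by
      rw [← hM]; exact hA
    calc (C * A * C⁻¹)ᵀ * Matrix.J (Fin m) F * (C * A * C⁻¹)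
        = (C⁻¹)ᵀ * (Aᵀ * (Cᵀ * Matrix.J (Fin m) F * C) * A) * C⁻¹ := by
          simp only [Matrix.transpose_mul, Matrix.mul_assoc]
      _ = (C⁻¹)ᵀ * (Cᵀ * Matrix.J (Fin m) F * C) * C⁻¹ := by rw [hMA]
      _ = ((C⁻¹)ᵀ * Cᵀ) * Matrix.J (Fin m) F * (C * C⁻¹) := by simp only [Matrix.mul_assoc]
      _ = Matrix.J (Fin m) F := by rw [hCt, hC1, Matrix.one_mul, Matrix.mul_one]
  refine ⟨⟨C * A * C⁻¹, SymplecticGroup.mem_iff'.mpr hB⟩, fun k => ?_⟩
  show ((C * A * C⁻¹ - 1) ^ k).rank = ((A - 1) ^ k).rank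
  have h1 : C * A * C⁻¹ - 1 = C * (A - 1) * C⁻¹ := by
    rw [Matrix.mul_sub, Matrix.sub_mul, Matrix.mul_one, hC1]
  rw [h1, js9_conj_pow C C⁻¹ (A - 1) hC1 hC2 k,
    Matrix.rank_mul_eq_left_of_isUnit_det _ _ (Matrix.isUnit_nonsing_inv_det C hu),
    Matrix.rank_mul_eq_right_of_isUnit_det _ _ hu]

end Cfsg.Agent.Helper9
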