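import Mathlib
import Cfsg.Agent.Lead.NilNum

set_option autoImplicit false

namespace Cfsg.Agent.Helper9

/-- `v2(x!) + v2(y!) + 1 ≤ v2((x+y)!)` for odd `x`, `y`. -/
theorem na9_v_odd_add (x y : ℕ) (hx : Odd x) (hy : Odd y) :
    x.factorial.factorization 2 + y.factorial.factorization 2 + 1
      ≤ (x + y).factorial.factorization 2 := by
  obtain ⟨a, rfl⟩ := hx
  obtain ⟨b, rfl⟩ := hy
  have h1 : ∀ a : ℕ, (2 * a + 1).factorial.factorization 2 = (2 * a).factorial.factorization 2 := by
    intro a
    rw [Nat.factorial_succ, Nat.factorization_mul (by omega) (Nat.factorial_ne_zero _)]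
    have h0 : (2 * a + 1).factorization 2 = 0 := by
      apply Nat.factorization_eq_zero_of_not_dvd
      omega
    simp [h0]
  rw [h1 a, h1 b]
  have h2 := Lead.nn_v_add (2 * a) (2 * b)
  have h3 := Lead.nn_v2 (2 * a + 2 * b)
  rw [show 2 * a + 1 + (2 * b + 1) = 2 * a + 2 * b + 2 by ring]
  omega

/-- `v2(x!) + 3 ≤ v2((x+3)!)` for odd `x`. -/
theorem na9_v_odd_three (x : ℕ) (hx : Odd x) :
    x.factorial.factorization 2 + 3 ≤ (x + 3).factorial.factorization 2 := by
  have hd : 8 * x.factorial ∣ (x + 3).factorial := by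
    rw [Lead.nn_fact3]
    apply Nat.mul_dvd_mul_right
    obtain ⟨a, rfl⟩ := hx
    rcases Nat.even_or_odd a with ⟨q, rfl⟩ | ⟨q, rfl⟩
    · exact ⟨(2 * q + 1) * (4 * q + 3) * (q + 1), by ring⟩
    · exact ⟨(q + 1) * (4 * q + 5) * (2 * q + 3), by ring⟩
  have := Lead.nn_v_of_dvd 8 x 3 (by norm_num) hd
  rw [Lead.nn_fz8] at this
  omega

theorem nil_prod_odd_le (c : ℕ → ℕ)
    (hc : ∀ m, 0 < m → m ≠ 3 → c m ≤ 2 ^ (m.factorial.factorization 2)) (hc3 : c 3 = 3)
    (hc2 : ∀ m, Odd m → m ≠ 1 → m ≠ 3 → m ≠ 5 → m ≠ 9 →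
      2 * c m ≤ 2 ^ (m.factorial.factorization 2))
    (l : Multiset ℕ) (hodd : ∀ m ∈ l, Odd m) (h : l.sum % 4 ≠ 3) (h5 : l.sum ≠ 5)
    (h6 : l.sum ≠ 6) (h9 : l.sum ≠ 9) (h2 : 2 ≤ l.sum) :
    2 * (l.map c).prod ≤ 2 ^ (l.sum.factorial.factorization 2) := by
  by_cases hall : ∀ m ∈ l, m = 3
  · obtain ⟨b, rfl⟩ : ∃ b, l = Multiset.replicate b 3 :=
      ⟨_, Multiset.eq_replicate_card.mpr hall⟩
    rw [Multiset.sum_replicate, smul_eq_mul] at h h5 h6 h9 h2 ⊢
    rw [Multiset.map_replicate, Multiset.prod_replicate, hc3]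
    obtain ⟨k, rfl⟩ : ∃ k, b = k + 4 := ⟨b - 4, by omega⟩
    have e1 : (0 : ℕ).factorial.factorization 2 + 3 ≤ (4 : ℕ).factorial.factorization 2 :=
      Lead.nn_v4 0
    have e2 : (4 : ℕ).factorial.factorization 2 + 3 ≤ (8 : ℕ).factorial.factorization 2 :=
      Lead.nn_v4 4
    have e3 : (8 : ℕ).factorial.factorization 2 + 3 ≤ (12 : ℕ).factorial.factorization 2 :=
      Lead.nn_v4 8
    have e4 : 9 ≤ (12 : ℕ).factorial.factorization 2 := by omega
    have e5 := Lead.nn_threes k 12 (by omega)
    rw [show 12 + 3 * k = (k + 4) * 3 by ring] at e5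
    calc 2 * 3 ^ (k + 4) = 162 * 3 ^ k := by ring
      _ ≤ 2 ^ 9 * 3 ^ k := by
          apply Nat.mul_le_mul_right
          norm_num
      _ ≤ 2 ^ ((12 : ℕ).factorial.factorization 2) * 3 ^ k := by
          apply Nat.mul_le_mul_right
          exact Nat.pow_le_pow_right (by norm_num) e4
      _ = 3 ^ k * 2 ^ ((12 : ℕ).factorial.factorization 2) := by ring
      _ ≤ _ := e5
  · obtain ⟨x, hxl, hx3⟩ : ∃ x ∈ l, x ≠ 3 := by
      by_contra hne
      exact hall (fun m hm => by_contra (fun hm3 => hne ⟨m, hm, hm3⟩))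
    obtain ⟨l', rfl⟩ := Multiset.exists_cons_of_mem hxl
    have hxo : Odd x := hodd x (Multiset.mem_cons_self x l')
    by_cases hl' : l' = 0
    · subst hl'
      have hs : (x ::ₘ (0 : Multiset ℕ)).sum = x := by simp
      have hp : ((x ::ₘ (0 : Multiset ℕ)).map c).prod = c x := by simp
      rw [hs] at h h5 h9 h2 ⊢
      rw [hp]
      exact hc2 x hxo (by omega) hx3 h5 h9
    · obtain ⟨y, hyl⟩ := Multiset.exists_mem_of_ne_zero hl'
      obtain ⟨r, rfl⟩ := Multiset.exists_cons_of_mem hyl
      have hyo : Odd y := hodd y (Multiset.mem_cons_of_mem (Multiset.mem_cons_self y r))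
      have hro : ∀ m ∈ r, Odd m := fun m hm =>
        hodd m (Multiset.mem_cons_of_mem (Multiset.mem_cons_of_mem hm))
      obtain ⟨ax, hax⟩ := hxo
      obtain ⟨ay, hay⟩ := hyo
      have hxo : Odd x := ⟨ax, hax⟩
      have hyo : Odd y := ⟨ay, hay⟩
      have hxpos : 0 < x := by omega
      have hypos : 0 < y := by omega
      have hkey : 2 * c x * c y ≤ 2 ^ ((x + y).factorial.factorization 2) := by
        have hcx := hc x hxpos hx3
        by_cases hy3 : y = 3
        · rw [hy3, hc3]
          have hv := na9_v_odd_three x hxo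
          calc 2 * c x * 3 = 6 * c x := by ring
            _ ≤ 2 ^ 3 * 2 ^ (x.factorial.factorization 2) :=
                Nat.mul_le_mul (by norm_num) hcx
            _ = 2 ^ (x.factorial.factorization 2 + 3) := by ring
            _ ≤ _ := Nat.pow_le_pow_right (by norm_num) hv
        · have hcy := hc y hypos hy3
          have hv := na9_v_odd_add x y hxo hyo
          calc 2 * c x * c y
              ≤ 2 * 2 ^ (x.factorial.factorization 2) * 2 ^ (y.factorial.factorization 2) :=
                Nat.mul_le_mul (Nat.mul_le_mul_left _ hcx) hcy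
            _ = 2 ^ (x.factorial.factorization 2 + y.factorial.factorization 2 + 1) := by ring
            _ ≤ _ := Nat.pow_le_pow_right (by norm_num) hv
      obtain ⟨c', hc'⟩ : ∃ c' : ℕ → ℕ, ∀ m, c' m = if m = x + y then 2 * c x * c y else c m :=
        ⟨_, fun _ => rfl⟩
      have hc'1 : ∀ m, 0 < m → m ≠ 3 → c' m ≤ 2 ^ (m.factorial.factorization 2) := by
        intro m hm hm3
        rw [hc']
        by_cases hmx : m = x + y
        · rw [if_pos hmx, hmx]
          exact hkey
        · rw [if_neg hmx]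
          exact hc m hm hm3
      have hc'3 : c' 3 = 3 := by
        have h3 : (3 : ℕ) ≠ x + y := by omega
        rw [hc', if_neg h3]
        exact hc3
      have hmain := Lead.nil_prod_le_of c' hc'1 hc'3 ((x + y) ::ₘ r)
        (by
          intro m hm
          rcases Multiset.mem_cons.mp hm with rfl | hm
          · omega
          · obtain ⟨d, hd⟩ := hro m hm
            omega)
        (by
          rw [Multiset.sum_cons]
          rw [Multiset.sum_cons, Multiset.sum_cons] at h
          omega)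
      rw [Multiset.map_cons, Multiset.prod_cons, Multiset.sum_cons] at hmain
      have hmap : r.map c' = r.map c := by
        apply Multiset.map_congr rfl
        intro m hm
        have hne : m ≠ x + y := by
          obtain ⟨d, hd⟩ := hro m hm
          omega
        rw [hc', if_neg hne]
      have hcxy : c' (x + y) = 2 * c x * c y := by rw [hc', if_pos rfl]
      rw [hmap, hcxy] at hmain
      rw [Multiset.map_cons, Multiset.map_cons, Multiset.prod_cons, Multiset.prod_cons,
        Multiset.sum_cons, Multiset.sum_cons]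
      rw [show x + (y + r.sum) = x + y + r.sum by ring]
      calc 2 * (c x * (c y * (r.map c).prod)) = 2 * c x * c y * (r.map c).prod := by ring
        _ ≤ _ := hmain

end Cfsg.Agent.Helper9
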