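import Mathlib
import Cfsg.Agent.Helper3.NilAlt

set_option autoImplicit false

namespace Cfsg.Agent.Helper9

/-- for `k ≡ 0 mod 4`, nonzero: `v2((k-1)!) + 2 ≤ v2(k!)` -/
theorem na39_v_four (k : ℕ) (hk : k % 4 = 0) (hk0 : k ≠ 0) :
    (k - 1).factorial.factorization 2 + 2 ≤ k.factorial.factorization 2 := by
  obtain ⟨q, rfl⟩ : ∃ q, k = q + 1 := ⟨k - 1, by omega⟩
  rw [Nat.add_sub_cancel]
  rw [Nat.factorial_succ, Nat.factorization_mul (by omega) (Nat.factorial_ne_zero _),
    Finsupp.add_apply]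
  have h2 : 2 ≤ (q + 1).factorization 2 := by
    apply (Nat.Prime.pow_dvd_iff_le_factorization Nat.prime_two (by omega)).mp
    rw [show (2 : ℕ) ^ 2 = 4 from rfl]
    omega
  omega

/-- an element of order `3` of `S_n`, `n ≡ 3 mod 4`, centralized by a subgroup of order
`2^w` with `v2((n-3)!) ≤ w + 1`, is a `3`-cycle -/
theorem na39_cycleType {n : ℕ} (hn : n % 4 = 3) (z : Equiv.Perm (Fin n)) (hz : orderOf z = 3)
    (T : Subgroup (Equiv.Perm (Fin n))) (w : ℕ) (hT : Nat.card T = 2 ^ w)
    (hw : (n - 3).factorial.factorization 2 ≤ w + 1)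
    (hcomm : ∀ t ∈ T, t * z = z * t) : z.cycleType = {3} := by
  have hp : (orderOf z).Prime := by rw [hz]; exact Nat.prime_three
  obtain ⟨j, hj⟩ := Equiv.Perm.cycleType_prime_order hp
  rw [hz] at hj
  rcases Nat.eq_zero_or_pos j with rfl | hjpos
  · rw [hj]; simp
  exfalso
  have hle : T ≤ Subgroup.centralizer {z} := by
    intro t ht
    rw [Subgroup.mem_centralizer_iff]
    intro g hg
    rw [Set.mem_singleton_iff] at hg
    rw [hg]
    exact (hcomm t ht).symm
  have hdvd := Subgroup.card_dvd_of_le hle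
  have hsum : z.cycleType.sum ≤ n := by
    rw [Equiv.Perm.sum_cycleType]
    calc z.support.card ≤ Fintype.card (Fin n) := Finset.card_le_univ _
      _ = n := Fintype.card_fin n
  rw [hT, Equiv.Perm.nat_card_centralizer, Fintype.card_fin] at hdvd
  rw [hj] at hdvd hsum
  have hs : (Multiset.replicate (j + 1) 3).sum = 3 * (j + 1) := by
    rw [Multiset.sum_replicate, smul_eq_mul]; ring
  have hpr : (Multiset.replicate (j + 1) 3).prod = 3 ^ (j + 1) := Multiset.prod_replicate _ _
  have hfs : (Multiset.replicate (j + 1) 3).toFinset = {3} := by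
    ext m
    rw [Multiset.mem_toFinset, Multiset.mem_replicate, Finset.mem_singleton]
    constructor
    · rintro ⟨_, h⟩
      exact h
    · intro h
      exact ⟨by omega, h⟩
  have hfin : ∏ m ∈ (Multiset.replicate (j + 1) 3).toFinset,
      ((Multiset.replicate (j + 1) 3).count m).factorial = (j + 1).factorial := by
    rw [hfs, Finset.prod_singleton, Multiset.count_replicate_self]
  rw [hs, hpr, hfin] at hdvd
  rw [hs] at hsum
  have hcop : Nat.Coprime (2 ^ w) (3 ^ (j + 1)) :=
    Nat.Coprime.pow _ _ (by norm_num)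
  have h1 : 2 ^ w ∣ (n - 3 * (j + 1)).factorial * (j + 1).factorial := by
    have e : (n - 3 * (j + 1)).factorial * 3 ^ (j + 1) * (j + 1).factorial =
        3 ^ (j + 1) * ((n - 3 * (j + 1)).factorial * (j + 1).factorial) := by ring
    rw [e] at hdvd
    exact hcop.dvd_of_dvd_mul_left hdvd
  have h2 : (n - 3 * (j + 1)).factorial * (j + 1).factorial ∣
      (n - 3 * (j + 1) + (j + 1)).factorial := Nat.factorial_mul_factorial_dvd_factorial_add _ _
  have h3 : (n - 3 * (j + 1) + (j + 1)).factorial ∣ (n - 3 - 1).factorial :=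
    Nat.factorial_dvd_factorial (by omega)
  have h4 : w ≤ (n - 3 - 1).factorial.factorization 2 :=
    (Nat.Prime.pow_dvd_iff_le_factorization Nat.prime_two (Nat.factorial_ne_zero _)).mp
      (h1.trans (h2.trans h3))
  have h5 := na39_v_four (n - 3) (by omega) (by omega)
  omega

/-- structure of a nilpotent subgroup of `S_n` (`n ≡ 3 mod 4`) of order `3 * 2^w` with
`v2((n-3)!) ≤ w + 1` -/
theorem na39_structure (n : ℕ) (hn : n % 4 = 3) (N : Subgroup (Equiv.Perm (Fin n)))
    (hN : Group.IsNilpotent N) (w : ℕ) (hcard : Nat.card N = 3 * 2 ^ w)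
    (hw : (n - 3).factorial.factorization 2 ≤ w + 1) :
    ∃ (z : Equiv.Perm (Fin n)) (T : Subgroup (Equiv.Perm (Fin n))),
      z.cycleType = {3} ∧ Nat.card T = 2 ^ w ∧
      (∀ t ∈ T, t * z = z * t) ∧ N = T ⊔ Subgroup.zpowers z := by
  obtain ⟨P⟩ : Nonempty (Sylow 2 N) := inferInstance
  obtain ⟨Q, hQodd, hPQ, hmul⟩ := Cfsg.Agent.Helper3.nil_two_complement hN P
  have hPcard : Nat.card P = 2 ^ w := by
    rw [Sylow.card_eq_multiplicity, hcard]
    congr 1
    have h3 : (3 : ℕ).factorization 2 = 0 :=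
      Nat.factorization_eq_zero_of_not_dvd (by norm_num)
    rw [Nat.factorization_mul (by norm_num) (pow_ne_zero _ (by norm_num)), Finsupp.add_apply, h3,
      Nat.factorization_pow, Finsupp.smul_apply, Nat.Prime.factorization_self Nat.prime_two]
    simp
  have h2v : 0 < 2 ^ w := by positivity
  have hQcard : Nat.card Q = 3 := by
    rw [hcard, hPcard] at hmul
    exact Nat.eq_of_mul_eq_mul_left h2v (by rw [← hmul]; ring)
  obtain ⟨y, hyQ, hy1⟩ : ∃ y ∈ Q, y ≠ 1 := by
    by_contra hne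
    have hbot : Q = ⊥ := by
      rw [Subgroup.eq_bot_iff_forall]
      intro x hx
      by_contra hx1
      exact hne ⟨x, hx, hx1⟩
    rw [hbot, Subgroup.card_bot] at hQcard
    omega
  have hyo : orderOf y = 3 := by
    have hd : orderOf y ∣ 3 := by
      rw [← hQcard]
      exact Subgroup.orderOf_dvd_natCard Q hyQ
    rcases (Nat.dvd_prime Nat.prime_three).mp hd with h | h
    · exact absurd (orderOf_eq_one_iff.mp h) hy1
    · exact h
  have hzo : orderOf (y : Equiv.Perm (Fin n)) = 3 := by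
    rw [Subgroup.orderOf_coe]; exact hyo
  have hTcard : Nat.card ((P : Subgroup N).map N.subtype) = 2 ^ w := by
    rw [Subgroup.card_map_of_injective (Subgroup.subtype_injective N)]
    exact hPcard
  have hTcomm : ∀ t ∈ (P : Subgroup N).map N.subtype,
      t * (y : Equiv.Perm (Fin n)) = (y : Equiv.Perm (Fin n)) * t := by
    rintro t ⟨x, hx, rfl⟩
    exact congrArg Subtype.val (hPQ x hx y hyQ)
  refine ⟨(y : Equiv.Perm (Fin n)), (P : Subgroup N).map N.subtype,
    na39_cycleType hn _ hzo _ w hTcard hw hTcomm, hTcard, hTcomm, ?_⟩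
  have hle : (P : Subgroup N).map N.subtype ⊔ Subgroup.zpowers (y : Equiv.Perm (Fin n)) ≤ N := by
    apply sup_le
    · rintro t ⟨x, hx, rfl⟩
      exact x.2
    · rw [Subgroup.zpowers_le]
      exact y.2
  symm
  apply Subgroup.eq_of_le_of_card_ge hle
  have d1 : Nat.card ((P : Subgroup N).map N.subtype) ∣
      Nat.card ((P : Subgroup N).map N.subtype ⊔ Subgroup.zpowers (y : Equiv.Perm (Fin n)) :
        Subgroup (Equiv.Perm (Fin n))) := Subgroup.card_dvd_of_le le_sup_left
  have d2 : Nat.card (Subgroup.zpowers (y : Equiv.Perm (Fin n))) ∣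
      Nat.card ((P : Subgroup N).map N.subtype ⊔ Subgroup.zpowers (y : Equiv.Perm (Fin n)) :
        Subgroup (Equiv.Perm (Fin n))) := Subgroup.card_dvd_of_le le_sup_right
  rw [Nat.card_zpowers, hzo] at d2
  rw [hTcard] at d1
  have hcop : Nat.Coprime 3 (2 ^ w) := Nat.Coprime.pow_right _ (by norm_num)
  have d3 := hcop.mul_dvd_of_dvd_of_dvd d2 d1
  rw [hcard]
  exact Nat.le_of_dvd Nat.card_pos d3

theorem alt3_structure (n : ℕ) (hn : n % 4 = 3) (h7 : 7 ≤ n)
    (N : Subgroup (Equiv.Perm (Fin n))) (hN : Group.IsNilpotent N)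
    (hcard : 2 * Nat.card N = 3 * 2 ^ ((n - 3).factorial.factorization 2)) :
    ∃ (z : Equiv.Perm (Fin n)) (T : Subgroup (Equiv.Perm (Fin n))),
      z.cycleType = {3} ∧ 2 * Nat.card T = 2 ^ ((n - 3).factorial.factorization 2) ∧
      (∀ t ∈ T, t * z = z * t) ∧ N = T ⊔ Subgroup.zpowers z := by
  have hv1 : 1 ≤ (n - 3).factorial.factorization 2 := by
    apply (Nat.Prime.pow_dvd_iff_le_factorization Nat.prime_two (Nat.factorial_ne_zero _)).mp
    rw [pow_one]
    exact Nat.dvd_factorial (by norm_num) (by omega)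
  obtain ⟨w, hw⟩ : ∃ w, (n - 3).factorial.factorization 2 = w + 1 :=
    ⟨(n - 3).factorial.factorization 2 - 1, by omega⟩
  rw [hw] at hcard ⊢
  have hcard' : Nat.card N = 3 * 2 ^ w := by
    have e : 3 * 2 ^ (w + 1) = 2 * (3 * 2 ^ w) := by ring
    rw [e] at hcard
    exact Nat.eq_of_mul_eq_mul_left (by norm_num) hcard
  obtain ⟨z, T, hz, hT, hcomm, hsup⟩ := na39_structure n hn N hN w hcard' (by omega)
  refine ⟨z, T, hz, ?_, hcomm, hsup⟩
  rw [hT]
  ring

end Cfsg.Agent.Helper9
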