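import Mathlib
import Cfsg.Agent.Helper1.ZJBridge

set_option autoImplicit false

namespace Cfsg.Agent.Helper9

open Cfsg.Agent.Helper1
open scoped commutatorElement

variable {S : Type*} [Group S]

/-- One step of Glauberman replacement, keeping track of `[B,B]` and of `B` not being contained. -/
theorem repl_step9 [Finite S] {p : ℕ} [Fact p.Prime] (hS : IsPGroup p S) (hp : p ≠ 2) {e : ℕ}
    (he : e = 0 ∨ Odd e) (D : Subgroup S) [hDn : D.Normal] (B : Subgroup S) [B.Normal]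
    {A : Subgroup S} (hA : A ∈ maxE e D) (hBA : ⁅B, B⁆ ≤ A)
    (hnot : ¬ B ≤ Subgroup.normalizer (A : Set S)) :
    ∃ A' ∈ maxE e D, ⁅B, B⁆ ≤ A' ∧ ¬ B ≤ A' ∧ Nat.card ↥(A ⊓ B) < Nat.card ↥(A' ⊓ B) := by
  obtain ⟨hAD, ⟨hAc, hAe⟩, hAmax⟩ := hA
  obtain ⟨b, hb, hbN, hN1, hN2⟩ :=
    exists_b A B ⊤ (hS.to_subgroup ⊤) le_top le_top hnot
  have h : ReplData p A B b :=
    ⟨hAc, hS.to_subgroup B, fun h2 => absurd h2 hp, hBA, hb, hN1, hN2⟩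
  have hFD : replF A b ≤ D := by
    unfold replF
    rw [Subgroup.closure_le]
    rintro _ ⟨a, ha, rfl⟩
    have e1 : a * b⁻¹ * a⁻¹ * b = a * (b⁻¹ * a⁻¹ * b⁻¹⁻¹) := by group
    rw [e1]
    exact D.mul_mem (hAD ha) (hDn.conj_mem _ (D.inv_mem (hAD ha)) b⁻¹)
  have hle : replI A b ⊔ replF A b ≤ D :=
    sup_le (fun z hz => hAD (mem_replI.mp hz).1) hFD
  refine ⟨replI A b ⊔ replF A b, ⟨hle, ⟨h.star_comm, h.star_pow e he hAe⟩,
    fun B' hB' hB'e => (hAmax B' hB' hB'e).trans h.card_le⟩, h.der_le.trans le_sup_left,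
    fun hB => hnot (hB.trans h.star_le_normalizer), ?_⟩
  obtain ⟨a, ha, hfa⟩ := exists_gen_not_mem A b hbN
  have hle2 : A ⊓ B ≤ (replI A b ⊔ replF A b) ⊓ B :=
    le_inf (h.inf_le.trans le_sup_left) inf_le_right
  by_contra hcon
  have heq := Subgroup.eq_of_le_of_card_ge hle2 (not_lt.mp hcon)
  have hmem : a * b⁻¹ * a⁻¹ * b ∈ (replI A b ⊔ replF A b) ⊓ B :=
    Subgroup.mem_inf.mpr ⟨Subgroup.mem_sup_right
      (show a * b⁻¹ * a⁻¹ * b ∈ replF A b from Subgroup.subset_closure ⟨a, ha, rfl⟩),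
      h.gen_mem a⟩
  rw [← heq] at hmem
  exact hfa (Subgroup.mem_inf.mp hmem).1

/-- The replacement property of the family of `e`-abelian subgroups of `D` of largest order. -/
theorem repl_property9 [Finite S] {p : ℕ} [Fact p.Prime] (hS : IsPGroup p S) (hp : p ≠ 2) {e : ℕ}
    (he : e = 0 ∨ Odd e) (D : Subgroup S) [D.Normal] (B : Subgroup S) [B.Normal]
    (hex : ∃ U ∈ maxE e D, ⁅B, B⁆ ≤ U ∧ ¬ B ≤ U) :
    ∃ A ∈ maxE e D, ⁅B, B⁆ ≤ A ∧ ¬ B ≤ A ∧ B ≤ Subgroup.normalizer (A : Set S) := by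
  by_contra hcon
  have hno : ∀ A ∈ maxE e D, ⁅B, B⁆ ≤ A → ¬ B ≤ A → ¬ B ≤ Subgroup.normalizer (A : Set S) :=
    fun A hA h1 h2 h3 => hcon ⟨A, hA, h1, h2, h3⟩
  have hk : ∀ k : ℕ, ∃ U ∈ maxE e D, ⁅B, B⁆ ≤ U ∧ ¬ B ≤ U ∧ k ≤ Nat.card ↥(U ⊓ B) := by
    intro k
    induction k with
    | zero =>
      obtain ⟨U, hU, h1, h2⟩ := hex
      exact ⟨U, hU, h1, h2, Nat.zero_le _⟩
    | succ k ih =>
      obtain ⟨U, hU, h1, h2, h3⟩ := ih
      obtain ⟨U', hU', h1', h2', h3'⟩ := repl_step9 hS hp he D B hU h1 (hno U hU h1 h2)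
      exact ⟨U', hU', h1', h2', by omega⟩
  obtain ⟨U, -, -, -, h3⟩ := hk (Nat.card B + 1)
  have h4 : Nat.card ↥(U ⊓ B) ≤ Nat.card B := Subgroup.card_le_of_le inf_le_right
  omega

end Cfsg.Agent.Helper9
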