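import Mathlib
import Cfsg.Prelude.Def_Local
import Cfsg.Prelude.Def_Balance
import Cfsg.Prelude.Def_Transfer
import Cfsg.Agent.Helper9.PLocal
import Cfsg.Agent.Helper1.GenCent
import Cfsg.Agent.Helper1.Coprime3
import Cfsg.Agent.Helper8.PRank
import Cfsg.Agent.S0023
import Cfsg.Agent.S0024
import Cfsg.Agent.S0025
import Cfsg.Agent.S0030

set_option autoImplicit false

namespace Cfsg.Agent.Helper9

open Subgroup
open scoped Pointwise

universe u

/-- if `A = D ⊔ ⟨g⟩` with `g ^ p = 1` normalizing `D`, then `|A : D|` divides `p` -/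
theorem relIndex_dvd_of_le_sup_zpowers {H : Type*} [Group H] [Finite H] (p : ℕ)
    (D A : Subgroup H) (hDA : D ≤ A) (g : H) (hg : g ^ p = 1)
    (hgD : g ∈ normalizer (D : Set H)) (hA : A ≤ D ⊔ zpowers g) : D.relIndex A ∣ p := by
  have hn : zpowers g ≤ normalizer (D : Set H) := by
    rw [Subgroup.zpowers_le]; exact hgD
  have h1 : Nat.card ↥(D ⊔ zpowers g) ∣ Nat.card ↥D * Nat.card ↥(zpowers g) :=
    (sup_of_le_normalizer D (zpowers g) hn).2
  have h2 : Nat.card ↥(zpowers g) ∣ p := by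
    rw [Nat.card_zpowers]; exact orderOf_dvd_of_pow_eq_one hg
  have h3 : Nat.card ↥D * D.relIndex A = Nat.card ↥A := by
    have := Subgroup.relIndex_mul_relIndex (⊥ : Subgroup H) D A bot_le hDA
    rwa [Subgroup.relIndex_bot_left, Subgroup.relIndex_bot_left] at this
  have h4 : Nat.card ↥A ∣ Nat.card ↥(D ⊔ zpowers g) := Subgroup.card_dvd_of_le hA
  have h5 : Nat.card ↥D * D.relIndex A ∣ Nat.card ↥D * p := by
    rw [h3]
    exact h4.trans (h1.trans (Nat.mul_dvd_mul_left _ h2))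
  exact Nat.dvd_of_mul_dvd_mul_left Nat.card_pos h5

/-- an abelian subgroup normalizes each of its subgroups -/
theorem le_normalizer_of_comm_of_le {H : Type*} [Group H] (A D : Subgroup H)
    (hcomm : ∀ x ∈ A, ∀ y ∈ A, x * y = y * x) (hDA : D ≤ A) :
    A ≤ normalizer (D : Set H) := by
  apply le_normalizer_of_conj_inv
  intro z hz e he
  have : z * e * z⁻¹ = e := by
    rw [hcomm z hz e (hDA he), mul_assoc, mul_inv_cancel, mul_one]
  rw [this]; exact he

theorem le_normalizer_inf' {G : Type*} [Group G] (A K V : Subgroup G)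
    (hAK : A ≤ normalizer (K : Set G)) (hAV : A ≤ normalizer (V : Set G)) :
    A ≤ normalizer ((K ⊓ V : Subgroup G) : Set G) := by
  intro a ha
  rw [Subgroup.mem_normalizer_iff]
  intro z
  have e1 := Subgroup.mem_normalizer_iff.mp (hAK ha) z
  have e2 := Subgroup.mem_normalizer_iff.mp (hAV ha) z
  simp only [Subgroup.mem_inf]
  rw [e1, e2]

/-- an abelian group normalizes the centralizer of each of its subsets -/
theorem le_normalizer_centralizer_of_comm {G : Type*} [Group G] (A : Subgroup G)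
    (hcomm : ∀ x ∈ A, ∀ y ∈ A, x * y = y * x) (S : Set G) (hS : S ⊆ (A : Set G)) :
    A ≤ normalizer ((centralizer S : Subgroup G) : Set G) := by
  apply le_normalizer_of_conj_inv
  intro b hb x hx
  rw [Subgroup.mem_centralizer_iff] at hx ⊢
  intro d hd
  have hdx : Commute d x := hx d hd
  have hdb : Commute d b := hcomm d (hS hd) b hb
  exact ((hdb.mul_right hdx).mul_right hdb.inv_right).eq

theorem isPGroup_of_elemAbelian {G : Type*} [Group G] (p : ℕ) (A : Subgroup G)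
    (hA : Cfsg.IsElementaryAbelian p A) : IsPGroup p ↥A := by
  rintro ⟨g, hg⟩
  refine ⟨1, Subtype.ext ?_⟩
  rw [pow_one]
  show g ^ p = 1
  exact hA.2 g hg

theorem card_coprime_of_elemAbelian {G : Type*} [Group G] [Finite G] (p : ℕ) [hp : Fact p.Prime]
    (A : Subgroup G) (hA : Cfsg.IsElementaryAbelian p A) (K : Subgroup G)
    (hK : ¬ p ∣ Nat.card ↥K) : (Nat.card ↥A).Coprime (Nat.card ↥K) := by
  obtain ⟨k, hk⟩ := (isPGroup_of_elemAbelian p A hA).exists_card_eq
  rw [hk]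
  apply Nat.Coprime.pow_left
  rw [Nat.Prime.coprime_iff_not_dvd hp.out]
  exact hK

theorem elemAbelian_of_le {G : Type*} [Group G] (p : ℕ) (A B : Subgroup G)
    (hA : Cfsg.IsElementaryAbelian p A) (hBA : B ≤ A) : Cfsg.IsElementaryAbelian p B := by
  refine ⟨?_, fun b hb => hA.2 b (hBA hb)⟩
  apply IsMulCommutative.of_setLike_mul_comm
  intro a ha b hb
  exact isMulCommutative_iff_of_setLike.mp hA.1 a (hBA ha) b (hBA hb)

/-- a subgroup of an elementary abelian `p`-group has a complement -/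
theorem exists_compl_of_elemAbelian {H : Type*} [Group H] [Finite H] (p : ℕ)
    [hp : Fact p.Prime] (A : Subgroup H) (hA : Cfsg.IsElementaryAbelian p A) (D : Subgroup H) :
    ∃ E : Subgroup H, E ≤ A ∧ E ⊓ D = ⊥ ∧ A ≤ D ⊔ E := by
  classical
  set 𝒮 : Set (Subgroup H) := {E | E ≤ A ∧ E ⊓ D = ⊥} with h𝒮
  have hfin : 𝒮.Finite := Set.toFinite 𝒮
  obtain ⟨E, -, hEmax⟩ := hfin.exists_le_maximal (a := (⊥ : Subgroup H)) ⟨bot_le, bot_inf_eq _⟩
  obtain ⟨hEA, hED⟩ := hEmax.prop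
  refine ⟨E, hEA, hED, ?_⟩
  intro a haA
  by_contra haDE
  have hcomm : ∀ x ∈ A, ∀ y ∈ A, x * y = y * x := isMulCommutative_iff_of_setLike.mp hA.1
  have hap : a ^ p = 1 := hA.2 a haA
  have ha1 : a ≠ 1 := fun h => haDE (h ▸ Subgroup.one_mem _)
  have hord : orderOf a = p := orderOf_eq_prime hap ha1
  have hzA : zpowers a ≤ A := by rw [Subgroup.zpowers_le]; exact haA
  have hn : zpowers a ≤ normalizer (E : Set H) :=
    hzA.trans (le_normalizer_of_comm_of_le A E hcomm hEA)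
  have hE' : E ⊔ zpowers a ∈ 𝒮 := by
    refine ⟨sup_le hEA hzA, ?_⟩
    rw [eq_bot_iff]
    intro x hx
    obtain ⟨hx1, hx2⟩ := Subgroup.mem_inf.mp hx
    obtain ⟨e, he, z, hz, rfl⟩ := exists_mul_of_mem_sup_normalizer hn hx1
    have hz1 : z = 1 := by
      by_contra hz1
      have hzle : zpowers z ≤ zpowers a := by rw [Subgroup.zpowers_le]; exact hz
      have hcz : Nat.card ↥(zpowers z) = p := by
        have h1 : Nat.card ↥(zpowers z) ∣ p := by
          have := Subgroup.card_dvd_of_le hzle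
          rwa [Nat.card_zpowers a, hord] at this
        rcases (Nat.dvd_prime hp.out).mp h1 with h | h
        · exfalso
          rw [Nat.card_zpowers, orderOf_eq_one_iff] at h
          exact hz1 h
        · exact h
      have heq : zpowers z = zpowers a :=
        Subgroup.eq_of_le_of_card_ge hzle (by rw [hcz, Nat.card_zpowers, hord])
      have hzDE : z ∈ D ⊔ E := by
        have : z = e⁻¹ * (e * z) := by group
        rw [this]
        exact Subgroup.mul_mem _ (Subgroup.mem_sup_right (E.inv_mem he))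
          (Subgroup.mem_sup_left hx2)
      apply haDE
      have h3 : a ∈ zpowers z := heq ▸ Subgroup.mem_zpowers a
      exact (Subgroup.zpowers_le.mpr hzDE) h3
    rw [hz1, mul_one] at hx2 ⊢
    have h4 : e ∈ E ⊓ D := Subgroup.mem_inf.mpr ⟨he, hx2⟩
    rw [hED] at h4
    exact h4
  have hle : E ⊔ zpowers a ≤ E := hEmax.le_of_ge hE' le_sup_left
  exact haDE (Subgroup.mem_sup_right (hle (Subgroup.mem_sup_right (Subgroup.mem_zpowers a))))

/-- core induction for generation by centralizers of hyperplanes -/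
theorem hyperplane_gen_aux {H : Type u} [Group H] [Finite H] (p : ℕ) [hp : Fact p.Prime]
    (A X : Subgroup H) (hA : Cfsg.IsElementaryAbelian p A) (hX : ¬ p ∣ Nat.card ↥X)
    (hAX : A ≤ normalizer (X : Set H)) :
    ∀ n : ℕ, ∀ D : Subgroup H, D ≤ A → D ≠ A → Nat.card ↥A - Nat.card ↥D = n →
      X ⊓ centralizer (D : Set H) ≤
        ⨆ B : {B : Subgroup H // B ≤ A ∧ B.relIndex A = p},
          X ⊓ centralizer ((B : Subgroup H) : Set H) := by
  intro n
  induction n using Nat.strong_induction_on with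
  | _ n ih =>
  intro D hDA hDne hn
  have hcomm : ∀ x ∈ A, ∀ y ∈ A, x * y = y * x := isMulCommutative_iff_of_setLike.mp hA.1
  by_cases hr : D.relIndex A = p
  · exact le_iSup_of_le (⟨D, hDA, hr⟩ : {B : Subgroup H // B ≤ A ∧ B.relIndex A = p}) le_rfl
  · have hnd : ¬ D.relIndex A ∣ p := by
      intro h
      rcases (Nat.dvd_prime hp.out).mp h with h1 | h1
      · exact hDne (le_antisymm hDA (Subgroup.relIndex_eq_one.mp h1))
      · exact hr h1
    obtain ⟨E, hEA, hED, hAle⟩ := exists_compl_of_elemAbelian p A hA D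
    have hAn : A ≤ normalizer (D : Set H) := le_normalizer_of_comm_of_le A D hcomm hDA
    have hEnc : ¬ IsCyclic ↥E := by
      intro hcyc
      obtain ⟨g, hg⟩ := IsCyclic.exists_generator (α := ↥E)
      have hEz : E ≤ zpowers (g : H) := by
        intro x hx
        obtain ⟨k, hk⟩ := Subgroup.mem_zpowers_iff.mp (hg ⟨x, hx⟩)
        rw [Subgroup.mem_zpowers_iff]
        exact ⟨k, by rw [← Subgroup.coe_zpow, hk]⟩
      exact hnd (relIndex_dvd_of_le_sup_zpowers p D A hDA (g : H) (hA.2 _ (hEA g.2))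
        (hAn (hEA g.2)) (hAle.trans (sup_le_sup_left hEz D)))
    have hEK : E ≤ normalizer ((X ⊓ centralizer (D : Set H) : Subgroup H) : Set H) :=
      hEA.trans (le_normalizer_inf' A X _ hAX
        (le_normalizer_centralizer_of_comm A hcomm (D : Set H) hDA))
    have hcop : (Nat.card ↥E).Coprime (Nat.card ↥(X ⊓ centralizer (D : Set H) : Subgroup H)) :=
      card_coprime_of_elemAbelian p E (elemAbelian_of_le p A E hA hEA) _
        (fun h => hX (h.trans (Subgroup.card_dvd_of_le inf_le_left)))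
    have hgen := Cfsg.Agent.Helper1.centGen_aux _ H E (X ⊓ centralizer (D : Set H)) rfl
      (fun a ha b hb => hcomm a (hEA ha) b (hEA hb)) hEnc hEK hcop
    refine hgen.trans ?_
    unfold Cfsg.Agent.Helper1.centGen
    apply iSup₂_le
    rintro e ⟨heE, he1⟩
    have heD : e ∉ D := by
      intro h
      have h4 : e ∈ E ⊓ D := Subgroup.mem_inf.mpr ⟨heE, h⟩
      rw [hED] at h4
      exact he1 (Subgroup.mem_bot.mp h4)
    have hD'A : D ⊔ zpowers e ≤ A := sup_le hDA (by rw [Subgroup.zpowers_le]; exact hEA heE)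
    have hlt : Nat.card ↥D < Nat.card ↥(D ⊔ zpowers e : Subgroup H) := by
      by_contra hle
      push_neg at hle
      have h5 := Subgroup.eq_of_le_of_card_ge (le_sup_left : D ≤ D ⊔ zpowers e) hle
      apply heD
      rw [h5]
      exact Subgroup.mem_sup_right (Subgroup.mem_zpowers e)
    have hD'ne : D ⊔ zpowers e ≠ A := by
      intro h
      exact hnd (relIndex_dvd_of_le_sup_zpowers p D A hDA e (hA.2 e (hEA heE)) (hAn (hEA heE))
        (le_of_eq h.symm))
    have hcardle : Nat.card ↥(D ⊔ zpowers e : Subgroup H) ≤ Nat.card ↥A :=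
      Subgroup.card_le_of_le hD'A
    have hlt2 : Nat.card ↥A - Nat.card ↥(D ⊔ zpowers e : Subgroup H) < n := by
      rw [← hn]
      exact Nat.sub_lt_sub_left (lt_of_lt_of_le hlt hcardle) hlt
    have h1 : X ⊓ centralizer (D : Set H) ⊓ centralizer ({e} : Set H) ≤
        X ⊓ centralizer ((D ⊔ zpowers e : Subgroup H) : Set H) := by
      intro x hx
      obtain ⟨hxK, hxe⟩ := Subgroup.mem_inf.mp hx
      obtain ⟨hxX, hxD⟩ := Subgroup.mem_inf.mp hxK
      refine Subgroup.mem_inf.mpr ⟨hxX, ?_⟩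
      have hle : D ⊔ zpowers e ≤ centralizer ({x} : Set H) := by
        apply sup_le
        · intro d hd
          rw [Subgroup.mem_centralizer_iff]
          intro y hy
          rw [Set.mem_singleton_iff.mp hy]
          exact ((Subgroup.mem_centralizer_iff.mp hxD) d hd).symm
        · rw [Subgroup.zpowers_le, Subgroup.mem_centralizer_iff]
          intro y hy
          rw [Set.mem_singleton_iff.mp hy]
          exact ((Subgroup.mem_centralizer_iff.mp hxe) e (Set.mem_singleton e)).symm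
      rw [Subgroup.mem_centralizer_iff]
      intro d hd
      exact ((Subgroup.mem_centralizer_iff.mp (hle hd)) x (Set.mem_singleton x)).symm
    exact h1.trans (ih _ hlt2 (D ⊔ zpowers e) hD'A hD'ne rfl)

/-- generation by centralizers of hyperplanes -/
theorem hyperplane_gen {H : Type u} [Group H] [Finite H] (p : ℕ) [hp : Fact p.Prime]
    (A X : Subgroup H) (hA : Cfsg.IsElementaryAbelian p A) (hA2 : p ^ 2 ≤ Nat.card ↥A)
    (hX : ¬ p ∣ Nat.card ↥X) (hAX : A ≤ normalizer (X : Set H)) :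
    X ≤ ⨆ B : {B : Subgroup H // B ≤ A ∧ B.relIndex A = p},
      X ⊓ centralizer ((B : Subgroup H) : Set H) := by
  have hne : (⊥ : Subgroup H) ≠ A := by
    intro h
    rw [← h, Subgroup.card_bot] at hA2
    have h2 : 2 ^ 2 ≤ p ^ 2 := Nat.pow_le_pow_left hp.out.two_le 2
    omega
  have h1 : X ≤ X ⊓ centralizer (((⊥ : Subgroup H) : Subgroup H) : Set H) := by
    intro x hx
    refine Subgroup.mem_inf.mpr ⟨hx, ?_⟩
    rw [Subgroup.mem_centralizer_iff]
    intro d hd
    rw [Subgroup.mem_bot.mp hd, one_mul, mul_one]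
  exact h1.trans (hyperplane_gen_aux p A X hA hX hAX _ ⊥ bot_le hne rfl)

/-- two `A`-invariant `q`-groups with proper intersection `D`: some `a ∈ A^#` has
`C_{N_{Q_i}(D)}(a) ⊄ D` for both -/
theorem exists_elt_cent_not_le {G : Type u} [Group G] [Finite G] (p : ℕ) [hp : Fact p.Prime]
    (A : Subgroup G) (hA : Cfsg.IsElementaryAbelian p A) (hA3 : p ^ 3 ≤ Nat.card ↥A) (q : ℕ)
    [hq : Fact q.Prime] (hqp : q ≠ p) (Q₁ Q₂ : Subgroup G) (h₁ : IsPGroup q ↥Q₁)
    (h₂ : IsPGroup q ↥Q₂) (hA₁ : A ≤ normalizer (Q₁ : Set G))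
    (hA₂ : A ≤ normalizer (Q₂ : Set G)) (hD₁ : Q₁ ⊓ Q₂ ≠ Q₁) (hD₂ : Q₁ ⊓ Q₂ ≠ Q₂) :
    ∃ a ∈ A, a ≠ 1 ∧
      ¬ (normalizer ((Q₁ ⊓ Q₂ : Subgroup G) : Set G) ⊓ Q₁ ⊓ centralizer {a} ≤ Q₁ ⊓ Q₂) ∧
      ¬ (normalizer ((Q₁ ⊓ Q₂ : Subgroup G) : Set G) ⊓ Q₂ ⊓ centralizer {a} ≤ Q₁ ⊓ Q₂) := by
  have hAD : A ≤ normalizer ((Q₁ ⊓ Q₂ : Subgroup G) : Set G) := le_normalizer_inf' A Q₁ Q₂ hA₁ hA₂
  have key : ∀ Q : Subgroup G, IsPGroup q ↥Q → A ≤ normalizer (Q : Set G) → Q₁ ⊓ Q₂ ≤ Q →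
      Q₁ ⊓ Q₂ ≠ Q → ∃ B : Subgroup G, B ≤ A ∧ B.relIndex A = p ∧
        ¬ (normalizer ((Q₁ ⊓ Q₂ : Subgroup G) : Set G) ⊓ Q ⊓ centralizer (B : Set G) ≤
          Q₁ ⊓ Q₂) := by
    intro Q hQq hAQ hDQ hDne
    have hAN : A ≤ normalizer
        ((normalizer ((Q₁ ⊓ Q₂ : Subgroup G) : Set G) ⊓ Q : Subgroup G) : Set G) :=
      le_normalizer_inf' A _ Q (hAD.trans Subgroup.le_normalizer) hAQ
    have hNp : ¬ p ∣ Nat.card ↥(normalizer ((Q₁ ⊓ Q₂ : Subgroup G) : Set G) ⊓ Q : Subgroup G) := by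
      have hNq : IsPGroup q ↥(normalizer ((Q₁ ⊓ Q₂ : Subgroup G) : Set G) ⊓ Q : Subgroup G) :=
        hQq.to_le inf_le_right
      obtain ⟨k, hk⟩ := hNq.exists_card_eq
      rw [hk]
      intro h
      exact hqp ((Nat.prime_dvd_prime_iff_eq hp.out hq.out).mp (hp.out.dvd_of_dvd_pow h)).symm
    have hgen := hyperplane_gen p A _ hA
      (le_trans (Nat.pow_le_pow_right hp.out.pos (by norm_num)) hA3) hNp hAN
    by_contra hcon
    push_neg at hcon
    have hND : normalizer ((Q₁ ⊓ Q₂ : Subgroup G) : Set G) ⊓ Q ≤ Q₁ ⊓ Q₂ :=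
      hgen.trans (iSup_le (fun B => hcon B.1 B.2.1 B.2.2))
    obtain ⟨s, hsQ, hsD, hsN⟩ :=
      Cfsg.Agent.Helper8.exists_normalizer_of_lt hQq (lt_of_le_of_ne hDQ hDne)
    exact hsD (hND (Subgroup.mem_inf.mpr ⟨hsN, hsQ⟩))
  obtain ⟨B₁, hB₁A, hB₁r, hB₁⟩ := key Q₁ h₁ hA₁ inf_le_left hD₁
  obtain ⟨B₂, hB₂A, hB₂r, hB₂⟩ := key Q₂ h₂ hA₂ inf_le_right hD₂
  have hBne : B₁ ⊓ B₂ ≠ ⊥ := by
    intro h
    have h1 := Subgroup.relIndex_inf_le (H := B₁) (K := B₂) (L := A)
    rw [h, Subgroup.relIndex_bot_left, hB₁r, hB₂r] at h1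
    have h2 : p ^ 3 ≤ p * p := hA3.trans h1
    have h3 : p * p * 2 ≤ p ^ 3 := by
      have h5 := hp.out.two_le
      calc p * p * 2 ≤ p * p * p := Nat.mul_le_mul_left _ h5
        _ = p ^ 3 := by ring
    have h4 : 0 < p * p := Nat.mul_pos hp.out.pos hp.out.pos
    omega
  obtain ⟨a, haB, ha1⟩ := (Subgroup.bot_or_exists_ne_one (B₁ ⊓ B₂)).resolve_left hBne
  obtain ⟨haB₁, haB₂⟩ := Subgroup.mem_inf.mp haB
  refine ⟨a, hB₁A haB₁, ha1, ?_, ?_⟩
  · intro h
    exact hB₁ ((inf_le_inf_left _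
      (Subgroup.centralizer_le (Set.singleton_subset_iff.mpr haB₁))).trans h)
  · intro h
    exact hB₂ ((inf_le_inf_left _
      (Subgroup.centralizer_le (Set.singleton_subset_iff.mpr haB₂))).trans h)

end Cfsg.Agent.Helper9
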